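import Groth.Agent.Algz14.TowerAR
import Groth.Agent.CAlg1.Complete

/-!
Submodules of an adic tower killed by a power of an auxiliary ideal meet high powers of that ideal trivially.
-/

set_option autoImplicit false
set_option linter.style.haveILetI false

universe u v

namespace Groth.Agent.Algz14.RelTower

variable {R : Type u} [CommRing R] {J : Ideal R} {F : ℕ → Type v} [∀ n, AddCommGroup (F n)] [∀ n, Module R (F n)]
variable {tr : ∀ ⦃n m : ℕ⦄, n ≤ m → F m →ₗ[R] F n}

theorem exists_sub_mem_ker (J : Ideal R) (hJ : J.FG) {n : ℕ} {r : ℕ} (v : Fin r → AdicCompletion J R)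
    (hv : ∀ i, AdicCompletion.evalₐ J n (v i) = 0) :
    v ∈ (J.map (algebraMap R (AdicCompletion J R))) ^ n • (⊤ : Submodule (AdicCompletion J R) (Fin r → AdicCompletion J R)) := by
  rw [← Finset.univ_sum_single v]
  refine Submodule.sum_mem _ fun i _ => ?_
  have h0 : AdicCompletion.eval J R n (v i) = 0 := by
    rw [← AdicCompletion.factor_evalₐ_eq_eval J (v i) (le_of_eq (Ideal.mul_top _).symm), hv, map_zero]
  have h1 : v i ∈ (J ^ n • ⊤ : Submodule R (AdicCompletion J R)) := by
    rw [AdicCompletion.pow_smul_top_eq_ker_eval hJ]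
    exact h0
  rw [Ideal.smul_top_eq_map] at h1
  have h2 : v i ∈ (J ^ n).map (algebraMap R (AdicCompletion J R)) := h1
  rw [Ideal.map_pow] at h2
  have h3 : Pi.single i (v i) = v i • (Pi.single i (1 : AdicCompletion J R) : Fin r → AdicCompletion J R) := by
    rw [← Pi.single_smul, smul_eq_mul, mul_one]
  rw [h3]
  exact Submodule.smul_mem_smul h2 Submodule.mem_top

/-- A tower of submodules killed by `K^e` meets `K^c` trivially, up to a shift. -/
theorem IsTower.exists_inter_pow (hT : IsTower J tr) [IsNoetherianRing R] [Module.Finite R (F 0)] (K : Ideal R)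
    (e : ℕ) (T : ∀ n, Submodule R (F n)) (htr : ∀ n, (T (n + 1)).map (tr (Nat.le_succ n)) = T n)
    (hKT : ∀ n, ∀ a ∈ K ^ e, ∀ x ∈ T n, a • x = 0) :
    ∃ c d, ∀ c', c ≤ c' → ∀ {n m : ℕ} (h : n + d ≤ m), ∀ x ∈ T m, x ∈ K ^ c' • (⊤ : Submodule R (F m)) →
      tr ((Nat.le_add_right n d).trans h) x = 0 := by
  classical
  obtain ⟨r, φ, hφs, hφ⟩ := hT.exists_gen
  let Rh := AdicCompletion J R
  let ι : R →+* Rh := algebraMap R Rh
  have hJ : J.FG := IsNoetherian.noetherian J
  haveI : IsNoetherianRing Rh := CAlg1.isNoetherianRing_adicCompletion J hJ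
  have hwd : ∀ n, ∀ a b : Fin r → R, (∀ i, a i - b i ∈ J ^ (n + 1)) → φ n a = φ n b := fun n a b h => by
    rw [← sub_eq_zero, ← map_sub, ← Finset.univ_sum_single (a - b), map_sum]
    refine Finset.sum_eq_zero fun i _ => ?_
    rw [show Pi.single i ((a - b) i) = (a - b) i • (Pi.single i (1 : R) : Fin r → R) by
      rw [← Pi.single_smul, smul_eq_mul, mul_one], map_smul]
    exact hT.kill n _ (h i) _
  let rep : ∀ n, Rh → R := fun n x => Quotient.out (AdicCompletion.evalₐ J (n + 1) x)
  have hrep : ∀ n x, Ideal.Quotient.mk (J ^ (n + 1)) (rep n x) = AdicCompletion.evalₐ J (n + 1) x := fun n x =>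
    Quotient.out_eq _
  let app : ∀ n, (Fin r → Rh) → F n := fun n v => φ n fun i => rep n (v i)
  have happ : ∀ n v (a : Fin r → R), (∀ i, Ideal.Quotient.mk (J ^ (n + 1)) (a i) = AdicCompletion.evalₐ J (n + 1) (v i)) →
      app n v = φ n a := fun n v a h => hwd n _ _ fun i => Ideal.Quotient.eq.1 ((hrep n (v i)).trans (h i).symm)
  have happ_add : ∀ n v w, app n (v + w) = app n v + app n w := fun n v w => by
    rw [← map_add]
    exact happ n _ _ fun i => by rw [Pi.add_apply, map_add, hrep, hrep, Pi.add_apply, map_add]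
  have happ_smul : ∀ n (s : Rh) v, app n (s • v) = rep n s • app n v := fun n s v => by
    rw [← map_smul]
    exact happ n _ _ fun i => by rw [Pi.smul_apply, smul_eq_mul, map_mul, hrep, hrep, Pi.smul_apply, smul_eq_mul, map_mul]
  have happ_zero : ∀ n, app n 0 = 0 := fun n => by
    rw [happ n 0 0 fun i => by simp, map_zero]
  have happ_ι : ∀ n (a : R) v, app n (ι a • v) = a • app n v := fun n a v => by
    rw [happ_smul, ← sub_eq_zero, ← sub_smul]
    refine hT.kill n _ (Ideal.Quotient.eq.1 ?_) _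
    exact (hrep n _).trans ((AdicCompletion.evalₐ J (n + 1)).commutes a)
  have happ_alg : ∀ n (a : Fin r → R), app n (fun i => ι (a i)) = φ n a := fun n a =>
    happ n _ a fun i => ((AdicCompletion.evalₐ J (n + 1)).commutes (a i)).symm
  have happ_pow : ∀ n, ∀ v ∈ (J.map ι) ^ (n + 1) • (⊤ : Submodule Rh (Fin r → Rh)), app n v = 0 := fun n v hv => by
    refine Submodule.smul_induction_on hv (fun s hs w _ => ?_) fun x y hx hy => by rw [happ_add, hx, hy, add_zero]
    rw [happ_smul]
    refine hT.kill n _ (Ideal.Quotient.eq_zero_iff_mem.1 ?_) _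
    rw [hrep]
    rw [← Ideal.map_pow] at hs
    have hle : (J ^ (n + 1)).map ι ≤ RingHom.ker (AdicCompletion.evalₐ J (n + 1)) := Ideal.map_le_iff_le_comap.2 fun a ha => by
      rw [Ideal.mem_comap, RingHom.mem_ker]
      exact ((AdicCompletion.evalₐ J (n + 1)).commutes a).trans (Ideal.Quotient.eq_zero_iff_mem.2 ha)
    exact hle hs
  -- lifting of compatible families
  have lift : ∀ (n : ℕ) (x : ∀ j, F (n + j)), (∀ j, tr (show n + j ≤ n + (j + 1) by omega) (x (j + 1)) = x j) →
      ∀ a₀ : Fin r → R, φ n a₀ = x 0 → ∃ v : Fin r → Rh,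
        (∀ i, AdicCompletion.evalₐ J (n + 1) (v i) = Ideal.Quotient.mk (J ^ (n + 1)) (a₀ i)) ∧
          ∀ j, app (n + j) v = x j := by
    intro n x hx a₀ ha₀
    have hstep : ∀ j (a : {a : Fin r → R // φ (n + j) a = x j}), ∃ a' : {a : Fin r → R // φ (n + (j + 1)) a = x (j + 1)},
        ∀ i, a'.1 i - a.1 i ∈ J ^ (n + j + 1) := fun j a => by
      have h1 := hT.ker (show n + j ≤ n + (j + 1) by omega) (x (j + 1) - φ (n + (j + 1)) a.1)
        (by rw [map_sub, hφ, hx, a.2, sub_self])
      rw [← LinearMap.range_eq_top.2 (hφs _), ← Submodule.map_top, ← Submodule.map_smul''] at h1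
      obtain ⟨b, hb, hbe⟩ := h1
      refine ⟨⟨a.1 + b, by rw [map_add, hbe, add_sub_cancel]⟩, fun i => ?_⟩
      rw [show (a.1 + b) i - a.1 i = b i by simp]
      have h2 := Submodule.mem_map_of_mem (f := LinearMap.proj (φ := fun _ : Fin r => R) i) hb
      rw [Submodule.map_smul''] at h2
      simpa using Submodule.smul_mono le_rfl le_top h2
    choose step hstep using hstep
    let a : ∀ j, {a : Fin r → R // φ (n + j) a = x j} := fun j =>
      Nat.rec (motive := fun j => {a : Fin r → R // φ (n + j) a = x j}) ⟨a₀, ha₀⟩ (fun j p => step j p) j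
    have hdiff : ∀ {j l : ℕ}, j ≤ l → ∀ i, (a l).1 i - (a j).1 i ∈ J ^ (n + j + 1) := by
      intro j l hjl i
      induction l, hjl using Nat.le_induction with
      | base => rw [sub_self]; exact zero_mem _
      | succ l hjl ih =>
        have := add_mem (Ideal.pow_le_pow_right (show n + j + 1 ≤ n + l + 1 by omega) (hstep l (a l) i)) ih
        rwa [sub_add_sub_cancel] at this
    let sq : Fin r → AdicCompletion.AdicCauchySequence J R := fun i =>
      ⟨fun q => (a q).1 i, fun {p q} hpq => by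
        rw [SModEq.sub_mem, Ideal.smul_top_eq_map, Algebra.algebraMap_self, Ideal.map_id]
        have h3 := Ideal.pow_le_pow_right (show p ≤ n + p + 1 by omega) (hdiff hpq i)
        have h4 := neg_mem h3
        rwa [neg_sub] at h4⟩
    refine ⟨fun i => AdicCompletion.mk J R (sq i), fun i => ?_, fun j => ?_⟩
    · rw [AdicCompletion.evalₐ_mk]
      exact Ideal.Quotient.eq.2 (hdiff (Nat.zero_le (n + 1)) i)
    · refine (happ (n + j) _ (a j).1 fun i => ?_).trans (a j).2
      rw [AdicCompletion.evalₐ_mk]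
      exact (Ideal.Quotient.eq.2 (hdiff (show j ≤ n + j + 1 by omega) i)).symm
  -- submodules of the completed free module
  let mkSub : (∀ n, Submodule R (F n)) → Submodule Rh (Fin r → Rh) := fun S =>
    { carrier := {v | ∀ n, app n v ∈ S n}
      add_mem' := fun hv hw n => by rw [happ_add]; exact add_mem (hv n) (hw n)
      zero_mem' := fun n => by rw [happ_zero]; exact zero_mem _
      smul_mem' := fun s v hv n => by rw [happ_smul]; exact Submodule.smul_mem _ _ (hv n) }
  have htrapp : ∀ {n m : ℕ} (h : n ≤ m) v, tr h (app m v) = app n v := fun {n m} h v => by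
    rw [hφ]
    exact (happ n v _ fun i => by
      obtain ⟨f, hf⟩ := AdicCompletion.mk_surjective J R (v i)
      have e := hrep m (v i)
      rw [← hf, AdicCompletion.evalₐ_mk, Ideal.Quotient.eq] at e
      rw [← hf, AdicCompletion.evalₐ_mk, Ideal.Quotient.eq]
      have h1 : f.val (m + 1) - f.val (n + 1) ∈ J ^ (n + 1) := by
        have h2 := f.2 (Nat.add_le_add_right h 1)
        rw [SModEq.sub_mem, Ideal.smul_top_eq_map, Algebra.algebraMap_self, Ideal.map_id] at h2
        have h3 := neg_mem h2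
        rwa [neg_sub] at h3
      have h4 := add_mem (Ideal.pow_le_pow_right (Nat.add_le_add_right h 1) e) h1
      rw [sub_add_sub_cancel] at h4
      simpa [hf] using h4).symm
  let Z := mkSub fun n => ⊥
  let Th := mkSub T
  have hZ : ∀ n, ∀ v, app n v = 0 → ∃ z ∈ Z, v - z ∈ (J.map ι) ^ (n + 1) • (⊤ : Submodule Rh (Fin r → Rh)) := by
    intro n v hv
    obtain ⟨z, hz1, hz2⟩ := lift n (fun _ => 0) (fun j => map_zero _) (fun i => rep n (v i)) hv
    refine ⟨z, fun q => ?_, exists_sub_mem_ker J hJ _ fun i => by rw [Pi.sub_apply, map_sub, hz1, hrep, sub_self]⟩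
    rw [Submodule.mem_bot, ← htrapp (Nat.le_add_left q n) z, hz2, map_zero]
  let Q := (Fin r → Rh) ⧸ Z
  let Tq : Submodule Rh Q := Th.map Z.mkQ
  let Kh := K.map ι
  have hKq : ∀ a ∈ Kh ^ e, ∀ x ∈ Tq, a • x = 0 := by
    intro a ha x hx
    obtain ⟨v, hv, rfl⟩ := hx
    rw [← Ideal.map_pow] at ha
    induction ha using Submodule.span_induction with
    | mem a ha =>
      obtain ⟨b, hb, rfl⟩ := ha
      rw [← map_smul]
      refine (Submodule.Quotient.mk_eq_zero _).2 fun q => ?_
      rw [Submodule.mem_bot, happ_ι]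
      exact hKT q b hb _ (hv q)
    | zero => rw [zero_smul]
    | add a b _ _ ha hb => rw [add_smul, ha, hb, add_zero]
    | smul s a _ ha => rw [smul_eq_mul, mul_smul, ha, smul_zero]
  obtain ⟨k, hk⟩ := Kh.exists_pow_inf_eq_pow_smul Tq
  have hc : ∀ x ∈ Kh ^ (k + e) • (⊤ : Submodule Rh Q), x ∈ Tq → x = 0 := by
    intro x hx hx'
    have h1 : x ∈ Kh ^ (k + e) • (⊤ : Submodule Rh Q) ⊓ Tq := ⟨hx, hx'⟩
    rw [hk _ (by omega), show k + e - k = e by omega] at h1
    have h2 : x ∈ Kh ^ e • Tq := Submodule.smul_mono le_rfl inf_le_right h1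
    refine Submodule.smul_induction_on h2 hKq fun x y hx hy => by rw [hx, hy, add_zero]
  let π := (Kh ^ (k + e) • (⊤ : Submodule Rh Q)).mkQ
  obtain ⟨d, hd⟩ := (J.map ι).exists_pow_inf_eq_pow_smul (Tq.map π)
  refine ⟨k + e, d, fun c' hc' {n m} h x hx hxK => ?_⟩
  have hexT : ∀ j, ∀ y ∈ T (m + j), ∃ y' ∈ T (m + (j + 1)), tr (show m + j ≤ m + (j + 1) by omega) y' = y :=
    fun j y hy => hT.exists_lift_mem T htr _ hy
  choose sec hsec hsec' using hexT
  let xs : ∀ j, {y : F (m + j) // y ∈ T (m + j)} := fun j =>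
    Nat.rec (motive := fun j => {y : F (m + j) // y ∈ T (m + j)}) ⟨x, hx⟩
      (fun j p => ⟨sec j p.1 p.2, hsec j p.1 p.2⟩) j
  obtain ⟨a₀, ha₀⟩ := hφs m x
  obtain ⟨v, -, hv⟩ := lift m (fun j => (xs j).1) (fun j => hsec' j _ _) a₀ ha₀
  have hvT : v ∈ Th := fun q => by
    rw [← htrapp (Nat.le_add_left q m) v, hv]
    exact hT.tr_mem T htr _ (xs q).2
  have hxK' : x ∈ K ^ (k + e) • (⊤ : Submodule R (F m)) := Submodule.smul_mono_left (Ideal.pow_le_pow_right hc') hxK
  rw [← LinearMap.range_eq_top.2 (hφs m), ← Submodule.map_top, ← Submodule.map_smul''] at hxK'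
  obtain ⟨b, hb, hbx⟩ := hxK'
  have hbK : (fun i => ι (b i)) ∈ Kh ^ (k + e) • (⊤ : Submodule Rh (Fin r → Rh)) := by
    refine Submodule.smul_induction_on (p := fun b : Fin r → R => (fun i => ι (b i)) ∈
      Kh ^ (k + e) • (⊤ : Submodule Rh (Fin r → Rh))) hb (fun s hs y _ => ?_) fun x y hx hy => ?_
    · rw [show (fun i => ι ((s • y) i)) = ι s • fun i => ι (y i) from funext fun i => by simp]
      refine Submodule.smul_mem_smul ?_ Submodule.mem_top
      rw [← Ideal.map_pow]
      exact Ideal.mem_map_of_mem _ hs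
    · rw [show (fun i => ι ((x + y) i)) = (fun i => ι (x i)) + fun i => ι (y i) from funext fun i => by simp]
      exact add_mem hx hy
  have hvx : app m v = x := hv 0
  obtain ⟨z, hz, hzmem⟩ := hZ m (v - fun i => ι (b i)) (by
    have e : app m ((v - fun i => ι (b i)) + fun i => ι (b i)) = app m v := by rw [sub_add_cancel]
    rw [happ_add, happ_alg, hbx, hvx] at e
    simpa using e)
  have hπv : π (Z.mkQ v) ∈ (J.map ι) ^ (m + 1) • (⊤ : Submodule Rh (Q ⧸ (Kh ^ (k + e) • (⊤ : Submodule Rh Q)))) ⊓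
      Tq.map π := by
    refine ⟨?_, Submodule.mem_map_of_mem (Submodule.mem_map_of_mem hvT)⟩
    have h1 := Submodule.mem_map_of_mem (f := π ∘ₗ Z.mkQ) hzmem
    rw [Submodule.map_smul''] at h1
    have h2 : (π ∘ₗ Z.mkQ) (v - (fun i => ι (b i)) - z) = π (Z.mkQ v) := by
      rw [map_sub, map_sub, LinearMap.comp_apply, LinearMap.comp_apply, LinearMap.comp_apply,
        show Z.mkQ z = 0 from (Submodule.Quotient.mk_eq_zero Z).2 hz, map_zero, sub_zero]
      have h5 := Submodule.mem_map_of_mem (f := Z.mkQ) hbK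
      rw [Submodule.map_smul''] at h5
      rw [show π (Z.mkQ fun i => ι (b i)) = 0 from
        (Submodule.Quotient.mk_eq_zero _).2 (Submodule.smul_mono le_rfl le_top h5), sub_zero]
    rw [← h2]
    exact Submodule.smul_mono le_rfl le_top h1
  rw [hd _ (by omega)] at hπv
  have h3 : π (Z.mkQ v) ∈ (J.map ι) ^ (n + 1) • Tq.map π :=
    Submodule.smul_mono (Ideal.pow_le_pow_right (by omega)) inf_le_right hπv
  rw [← Submodule.map_smul''] at h3
  obtain ⟨u, hu, hue⟩ := h3
  have h4 : Z.mkQ v = u := sub_eq_zero.1 (hc _ ((Submodule.Quotient.eq _).1 hue.symm)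
    (sub_mem (Submodule.mem_map_of_mem hvT) (Submodule.smul_le_right hu)))
  rw [← h4] at hu
  change Z.mkQ v ∈ (J.map ι) ^ (n + 1) • Th.map Z.mkQ at hu
  rw [← Submodule.map_smul''] at hu
  obtain ⟨w, hw, hwe⟩ := hu
  have hZw : v - w ∈ Z := (Submodule.Quotient.eq Z).1 hwe.symm
  rw [← hvx, htrapp ((Nat.le_add_right n d).trans h) v, ← sub_add_cancel v w, happ_add,
    (Submodule.mem_bot R).1 (hZw n), happ_pow n w (Submodule.smul_mono le_rfl le_top hw), add_zero]

end Groth.Agent.Algz14.RelTower
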