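import Groth.Agent.Algz14.Sect
import Groth.Agent.Formal27.TorsFreeSys
import Groth.Agent.SubMod72.Main
import Groth.Agent.QC70.Coherent

/-!
Completions of coherent modules and their restrictions.
-/

set_option autoImplicit false
set_option linter.style.haveILetI false

universe u

open CategoryTheory CategoryTheory.Limits AlgebraicGeometry Opposite

noncomputable section

namespace Groth.Agent.Algz14

open Formal27

section

variable {A : Type u} [CommRing A] {X : Scheme.{u}} [X.Over (Spec (CommRingCat.of A))]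

theorem completion_map_succ (I : Ideal A) (M : X.Modules) (n : ℕ) :
    (Formal.completion I M).map (homOfLE (Nat.le_succ n)).op = Formal.modPowTrans I (n + 1) M :=
  Functor.ofOpSequence_map_homOfLE_succ _ n

theorem isCohFormal_completion (I : Ideal A) (M : X.Modules) (hM : Coh.IsCoh M) :
    Formal.IsCohFormal I (Formal.completion I M) := by
  refine ⟨fun n => ?_, fun n a ha => ?_, fun n => ?_⟩
  · haveI := hM.1; haveI := hM.2
    haveI : Epi (Formal.modPowπ I (n + 1) M) :=
      inferInstanceAs (Epi (cokernel.π (Formal.smulFamily (I ^ (n + 1)) M)))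
    exact ⟨isQuasicoherent_modPow M I (n + 1), @QC70.isFiniteType_of_epi _ _ _ (Formal.modPowπ I (n + 1) M)
      (inferInstanceAs (Epi (cokernel.π (Formal.smulFamily (I ^ (n + 1)) M)))) _⟩
  · show Formal.smulMod A (Formal.modPow I (n + 1) M) a = 0
    rw [← cancel_epi (Formal.modPowπ I (n + 1) M), comp_zero, smulMod_comp]
    exact smulMod_modPowπ I (n + 1) M ha
  · let π' := cokernel.π (Formal.smulFamily (I ^ (n + 1)) (Formal.modPow I (n + 1 + 1) M))
    have hπ : Formal.smulFamily (I ^ (n + 1)) M ≫ Formal.modPowπ I (n + 1 + 1) M ≫ π' = 0 :=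
      smulFamily_comp_eq_zero _ fun a ha => by
        rw [← Category.assoc, ← smulMod_comp, Category.assoc]
        exact (congrArg _ (smulMod_modPowπ I (n + 1) _ ha)).trans comp_zero
    have hz : Formal.smulFamily (I ^ (n + 1)) (Formal.modPow I (n + 1 + 1) M) ≫ Formal.modPowTrans I (n + 1) M = 0 :=
      smulFamily_comp_eq_zero _ fun a ha => by
        rw [← cancel_epi (Formal.modPowπ I (n + 1 + 1) M), comp_zero, ← Category.assoc, smulMod_comp,
          Category.assoc, Formal.modPowπ_trans]
        exact smulMod_modPowπ I (n + 1) M ha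
    haveI : Epi (Formal.modPowTrans I (n + 1) M) :=
      epi_of_epi_fac (Formal.modPowπ_trans I (n + 1) M)
    let v : Formal.modPow I (n + 1) M ⟶ cokernel (Formal.smulFamily (I ^ (n + 1)) (Formal.modPow I (n + 1 + 1) M)) :=
      cokernel.desc _ _ hπ
    haveI hiso : IsIso (cokernel.desc _ _ hz) := isIso_desc_of_factor _ _ hz v (by
      rw [← cancel_epi (Formal.modPowπ I (n + 1 + 1) M), ← Category.assoc, Formal.modPowπ_trans]
      exact cokernel.π_desc _ _ _)
    have key : ∀ (t : Formal.modPow I (n + 1 + 1) M ⟶ Formal.modPow I (n + 1) M),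
        t = Formal.modPowTrans I (n + 1) M →
          ∃ h : Formal.smulFamily (I ^ (n + 1)) (Formal.modPow I (n + 1 + 1) M) ≫ t = 0,
            IsIso (cokernel.desc _ _ h) := by
      rintro t rfl
      exact ⟨hz, hiso⟩
    exact key _ (completion_map_succ I M n)

theorem completion_congr (I : Ideal A) {M N : X.Modules} (e : M ≅ N) :
    Nonempty (Formal.completion I M ≅ Formal.completion I N) := by
  have hq : ∀ n, Formal.smulFamily (I ^ n) N ≫ e.inv ≫ Formal.modPowπ I n M = 0 := fun n =>
    smulFamily_comp_eq_zero _ fun a ha => by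
      rw [← Category.assoc, ← smulMod_comp, Category.assoc, smulMod_modPowπ I n M ha, comp_zero]
  refine completion_iso (G := Formal.completion I N) M (fun n => e.hom ≫ Formal.modPowπ I (n + 1) N)
    (fun n => ?_) fun n => ?_
  · exact (Category.assoc _ _ _).trans (congrArg _
      ((congrArg _ (completion_map_succ I N n)).trans (Formal.modPowπ_trans I (n + 1) N)))
  · have hz : Formal.smulFamily (I ^ (n + 1)) M ≫ e.hom ≫ Formal.modPowπ I (n + 1) N = 0 :=
      smulFamily_comp_eq_zero _ fun a ha => by
        rw [← Category.assoc, ← smulMod_comp, Category.assoc, smulMod_modPowπ I (n + 1) N ha, comp_zero]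
    let v : Formal.modPow I (n + 1) N ⟶ Formal.modPow I (n + 1) M := cokernel.desc _ _ (hq (n + 1))
    have hv : Formal.modPowπ I (n + 1) N ≫ v = e.inv ≫ Formal.modPowπ I (n + 1) M := cokernel.π_desc _ _ _
    refine ⟨hz, @isIso_desc_of_factor _ _ _ _ _ _ _ _ _ hz
      (inferInstanceAs (Epi (e.hom ≫ Formal.modPowπ I (n + 1) N))) v ?_⟩
    exact (Category.assoc _ _ _).trans ((congrArg _ hv).trans (Iso.hom_inv_id_assoc e _))

end

section Pull

variable {A : Type u} [CommRing A] {X Y : Scheme.{u}} [X.Over (Spec (CommRingCat.of A))] [Y.Over (Spec (CommRingCat.of A))]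
  (f : X ⟶ Y) (hf : f ≫ (Y ↘ Spec (CommRingCat.of A)) = X ↘ Spec (CommRingCat.of A))

include hf in
theorem completion_pullback (I : Ideal A) (M : Y.Modules) :
    Nonempty (Formal.completion I ((Scheme.Modules.pullback f).obj M) ≅
      Formal.completion I M ⋙ Scheme.Modules.pullback f) := by
  let adj := Scheme.Modules.pullbackPushforwardAdjunction f
  refine completion_iso (G := Formal.completion I M ⋙ Scheme.Modules.pullback f) _
    (fun n => (Scheme.Modules.pullback f).map (Formal.modPowπ I (n + 1) M)) (fun n => ?_) fun n => ?_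
  · exact ((Scheme.Modules.pullback f).map_comp _ _).symm.trans (congrArg _
      ((congrArg _ (completion_map_succ I M n)).trans (Formal.modPowπ_trans I (n + 1) M)))
  · have hz : Formal.smulFamily (I ^ (n + 1)) ((Scheme.Modules.pullback f).obj M) ≫
        (Scheme.Modules.pullback f).map (Formal.modPowπ I (n + 1) M) = 0 :=
      smulFamily_comp_eq_zero _ fun a ha => by
        rw [← pullback_map_smulMod f hf, ← Functor.map_comp, smulMod_modPowπ I (n + 1) M ha, Functor.map_zero]
    let π' := cokernel.π (Formal.smulFamily (I ^ (n + 1)) ((Scheme.Modules.pullback f).obj M))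
    have hπ : Formal.smulFamily (I ^ (n + 1)) M ≫ adj.homEquiv _ _ π' = 0 :=
      smulFamily_comp_eq_zero _ fun a ha => by
        rw [← Adjunction.homEquiv_naturality_left, pullback_map_smulMod f hf]
        have : Formal.smulMod A ((Scheme.Modules.pullback f).obj M) a ≫ π' = 0 := smulMod_modPowπ I (n + 1) _ ha
        rw [this, Adjunction.homEquiv_unit, Functor.map_zero, comp_zero]
    refine ⟨hz, @isIso_desc_of_factor _ _ _ _ _ _ _ _ _ hz
      (inferInstanceAs (Epi ((Scheme.Modules.pullback f).map (Formal.modPowπ I (n + 1) M))))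
      ((adj.homEquiv _ _).symm (cokernel.desc _ _ hπ : Formal.modPow I (n + 1) M ⟶ _)) ?_⟩
    exact (adj.homEquiv_naturality_left_symm (Formal.modPowπ I (n + 1) M) _).symm.trans
      ((congrArg _ (cokernel.π_desc _ _ _)).trans (Equiv.symm_apply_apply _ _))

end Pull

variable {A : Type u} [CommRing A] [IsNoetherianRing A] (U : (Spec (CommRingCat.of A)).Opens)

/-- Every coherent module on an open of `Spec A` comes from one on `Spec A`. -/
theorem exists_coh_extension (F : (U : Scheme.{u}).Modules) (hF : Coh.IsCoh F) :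
    ∃ F' : (Spec (CommRingCat.of A)).Modules, Coh.IsCoh F' ∧
      Nonempty ((Scheme.Modules.pullback U.ι).obj F' ≅ F) := by
  haveI := hF.1
  haveI := hF.2
  obtain ⟨F', h1, h2, ⟨e⟩⟩ := SubMod72.exists_finiteType_extension
    (fun x => ⟨⊤, trivial, TopologicalSpace.NoetherianSpace.set _⟩) F
  exact ⟨F', ⟨h1, h2⟩, ⟨((Scheme.Modules.restrictFunctorIsoPullback U.ι).app F').symm ≪≫ e⟩⟩

theorem extends_of_completion_iso (I : Ideal A) (G : ℕᵒᵖ ⥤ (U : Scheme.{u}).Modules)
    (F : (U : Scheme.{u}).Modules) (hF : Coh.IsCoh F) (e : Formal.completion I F ≅ G) :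
    @Algz.Extends A _ (Spec (CommRingCat.of A)) ⟨𝟙 (Spec (CommRingCat.of A))⟩ I U G := by
  letI : (Spec (CommRingCat.of A)).Over (Spec (CommRingCat.of A)) := ⟨𝟙 (Spec (CommRingCat.of A))⟩
  obtain ⟨F', hF', ⟨e'⟩⟩ := exists_coh_extension U F hF
  obtain ⟨e₁⟩ := completion_pullback U.ι (Category.comp_id _) I F'
  obtain ⟨e₂⟩ := completion_congr I e'
  exact ⟨Formal.completion I F', isCohFormal_completion I F' hF',
    ⟨Functor.isoWhiskerLeft _ (Scheme.Modules.restrictFunctorIsoPullback U.ι) ≪≫ e₁.symm ≪≫ e₂ ≪≫ e⟩⟩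

end Groth.Agent.Algz14
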