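import Groth.Agent.Algz14.RelInst
import Groth.Agent.Algz14.Completion

/-!
Completions of maps, and cokernels of maps into coherent formal systems.
-/

set_option autoImplicit false
set_option linter.style.haveILetI false
set_option linter.unusedSectionVars false

universe u

open CategoryTheory CategoryTheory.Limits AlgebraicGeometry Opposite

noncomputable section

namespace Groth.Agent.Algz14

open Formal27

variable {A : Type u} [CommRing A] {X : Scheme.{u}} [X.Over (Spec (CommRingCat.of A))] {I : Ideal A}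

theorem smulMod_comp_modPowπ_eq_zero {M N : X.Modules} (f : M ⟶ N) (n : ℕ) :
    ∀ a ∈ I ^ n, Formal.smulMod A M a ≫ f ≫ Formal.modPowπ I n N = 0 := fun a ha => by
  rw [← Category.assoc, ← smulMod_comp, Category.assoc, smulMod_modPowπ I n N ha, comp_zero]

/-- Reduction of a map modulo powers of the ideal. -/
def modPowMap (n : ℕ) {M N : X.Modules} (f : M ⟶ N) : Formal.modPow I n M ⟶ Formal.modPow I n N :=
  cokernel.desc _ (f ≫ Formal.modPowπ I n N) (smulFamily_comp_eq_zero _ (smulMod_comp_modPowπ_eq_zero f n))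

theorem modPowπ_map (n : ℕ) {M N : X.Modules} (f : M ⟶ N) :
    Formal.modPowπ I n M ≫ modPowMap n f = f ≫ Formal.modPowπ I n N := cokernel.π_desc _ _ _

theorem modPowMap_comp (n : ℕ) {M N P : X.Modules} (f : M ⟶ N) (g : N ⟶ P) :
    modPowMap (I := I) n (f ≫ g) = modPowMap n f ≫ modPowMap n g := by
  rw [← cancel_epi (Formal.modPowπ I n M), modPowπ_map, ← Category.assoc, modPowπ_map, Category.assoc,
    Category.assoc, modPowπ_map]

theorem modPowMap_id (n : ℕ) (M : X.Modules) : modPowMap (I := I) n (𝟙 M) = 𝟙 _ := by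
  rw [← cancel_epi (Formal.modPowπ I n M), modPowπ_map, Category.id_comp, Category.comp_id]

theorem modPowMap_zero (n : ℕ) (M N : X.Modules) : modPowMap (I := I) n (0 : M ⟶ N) = 0 := by
  rw [← cancel_epi (Formal.modPowπ I n M), modPowπ_map, zero_comp, comp_zero]

/-- The completion of a map. -/
def complMap {M N : X.Modules} (f : M ⟶ N) : Formal.completion I M ⟶ Formal.completion I N where
  app n := modPowMap (n.unop + 1) f
  naturality := by
    rintro ⟨m⟩ ⟨n⟩ φ
    obtain ⟨h⟩ : Nonempty (n ≤ m) := ⟨leOfHom φ.unop⟩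
    rw [show φ = (homOfLE h).op from Subsingleton.elim _ _]
    refine (cancel_epi (Formal.modPowπ I (m + 1) M)).1 ?_
    refine ((Category.assoc _ _ _).symm.trans ((congrArg (· ≫ modPowMap (n + 1) f) (completion_map_π M h)).trans
      (modPowπ_map (n + 1) f))).trans ?_
    refine Eq.trans ?_ (((Category.assoc _ _ _).symm.trans ((congrArg (· ≫ sysMap (Formal.completion I N) h)
      (modPowπ_map (m + 1) f)).trans (Category.assoc _ _ _))).symm)
    exact (congrArg (f ≫ ·) (completion_map_π N h)).symm

theorem complMap_app_π {M N : X.Modules} (f : M ⟶ N) (n : ℕ) :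
    Formal.modPowπ I (n + 1) M ≫ (complMap (I := I) f).app (op n) = f ≫ Formal.modPowπ I (n + 1) N :=
  modPowπ_map (n + 1) f

theorem complMap_comp {M N P : X.Modules} (f : M ⟶ N) (g : N ⟶ P) :
    complMap (I := I) (f ≫ g) = complMap f ≫ complMap g :=
  NatTrans.ext (funext fun n => modPowMap_comp (n.unop + 1) f g)

theorem complMap_id (M : X.Modules) : complMap (I := I) (𝟙 M) = 𝟙 _ :=
  NatTrans.ext (funext fun n => modPowMap_id (n.unop + 1) M)

theorem complMap_zero (M N : X.Modules) : complMap (I := I) (0 : M ⟶ N) = 0 :=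
  NatTrans.ext (funext fun n => modPowMap_zero (n.unop + 1) M N)

theorem modPowMap_add (n : ℕ) {M N : X.Modules} (f g : M ⟶ N) :
    modPowMap (I := I) n (f + g) = modPowMap n f + modPowMap n g := by
  rw [← cancel_epi (Formal.modPowπ I n M), modPowπ_map, Preadditive.comp_add, modPowπ_map, modPowπ_map,
    Preadditive.add_comp]

theorem complMap_add {M N : X.Modules} (f g : M ⟶ N) :
    complMap (I := I) (f + g) = complMap f + complMap g :=
  NatTrans.ext (funext fun n => modPowMap_add (n.unop + 1) f g)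

/-- The cokernel system of a map of systems. -/
@[simps]
def cokerSys {B F : ℕᵒᵖ ⥤ X.Modules} (β : B ⟶ F) : ℕᵒᵖ ⥤ X.Modules where
  obj n := cokernel (β.app n)
  map {i j} f := cokernel.map _ _ (B.map f) (F.map f) (β.naturality f).symm
  map_id i := by
    refine (cancel_epi (cokernel.π (β.app i))).1 ?_
    simp
  map_comp f g := by
    refine (cancel_epi (cokernel.π (β.app _))).1 ?_
    simp

/-- The projection to the cokernel system. -/
@[simps]
def cokerSysπ {B F : ℕᵒᵖ ⥤ X.Modules} (β : B ⟶ F) : F ⟶ cokerSys β where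
  app n := cokernel.π (β.app n)
  naturality i j f := (cokernel.π_desc _ _ _).symm

theorem isCohFormal_cokerSys {B F : ℕᵒᵖ ⥤ X.Modules} (hB : ∀ n : ℕ, (B.obj (op n)).IsQuasicoherent)
    (hs : ∀ n : ℕ, Epi (B.map (homOfLE (Nat.le_succ n)).op)) (β : B ⟶ F) (hF : Formal.IsCohFormal I F) :
    Formal.IsCohFormal I (cokerSys β) := by
  refine ⟨fun n => QC70.isCoh_cokernel _ (hB n) (hF.1 n), fun n a ha => ?_, fun n => ?_⟩
  · show Formal.smulMod A (cokernel (β.app (op n))) a = 0
    rw [← cancel_epi (cokernel.π (β.app (op n))), comp_zero, smulMod_comp, hF.2.1 n a ha, zero_comp]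
  · let t := cokernel.map (β.app (op (n + 1))) (β.app (op n)) (B.map (homOfLE (Nat.le_succ n)).op)
      (F.map (homOfLE (Nat.le_succ n)).op) (β.naturality _).symm
    haveI := Formal27.epi_step hF n
    haveI := hs n
    haveI : Epi t := @epi_of_epi_fac _ _ _ _ _ _ _ (sysMap F (Nat.le_succ n) ≫ cokernel.π (β.app (op n)))
      inferInstance (cokernel.π_desc _ _ _)
    let Z := Formal.modPow I (n + 1) (cokernel (β.app (op (n + 1))))
    let πc : F.obj (op (n + 1)) ⟶ Z := cokernel.π (β.app (op (n + 1))) ≫ Formal.modPowπ I (n + 1) _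
    obtain ⟨v, hv⟩ := Formal27.exists_factor hF (Nat.le_succ n) πc fun a ha =>
      smulMod_comp_modPowπ_eq_zero _ (n + 1) a ha
    have hv0 : β.app (op n) ≫ v = 0 := by
      rw [← cancel_epi (B.map (homOfLE (Nat.le_succ n)).op), comp_zero, ← Category.assoc, β.naturality, Category.assoc]
      refine (congrArg (β.app (op (n + 1)) ≫ ·) hv).trans ?_
      rw [← Category.assoc, cokernel.condition, zero_comp]
    have hz : Formal.smulFamily (I ^ (n + 1)) (cokernel (β.app (op (n + 1)))) ≫ t = 0 :=
      smulFamily_comp_eq_zero _ fun a ha => by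
        rw [← cancel_epi (cokernel.π (β.app (op (n + 1)))), comp_zero, ← Category.assoc, smulMod_comp,
          Category.assoc, cokernel.π_desc, ← Category.assoc, ← smulMod_comp, hF.2.1 n a ha, comp_zero, zero_comp]
    refine ⟨hz, @isIso_desc_of_factor _ _ _ _ _ _ _ _ _ hz (inferInstanceAs (Epi t)) (cokernel.desc _ v hv0) ?_⟩
    refine (cancel_epi (cokernel.π (β.app (op (n + 1))))).1 ?_
    show cokernel.π _ ≫ t ≫ cokernel.desc _ v hv0 = cokernel.π _ ≫ Formal.modPowπ I (n + 1) _
    rw [← Category.assoc, cokernel.π_desc, Category.assoc, cokernel.π_desc]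
    exact hv

end Groth.Agent.Algz14
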