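import Groth.Agent.Algz14.RelInst
import Groth.Agent.Algz14.CompTower
import Groth.Agent.Algz14.SystemOps
import Groth.Agent.QC70.Ideal

/-!
Algebraization of a formal system mapping to a completion with kernel and cokernel killed by an auxiliary ideal
(row S0830).
-/

set_option autoImplicit false
set_option linter.style.haveILetI false
set_option linter.unusedSectionVars false

universe u

open CategoryTheory CategoryTheory.Limits AlgebraicGeometry Opposite

noncomputable section

namespace Groth.Agent.Algz14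

open Formal27

variable {A : Type u} [CommRing A] {X : Scheme.{u}} [X.Over (Spec (CommRingCat.of A))] {I : Ideal A}

section Aux

variable (J : X.IdealSheafData)

/-- The quotient by an ideal sheaf. -/
abbrev quotIdeal (M : X.Modules) : X.Modules := cokernel (Dual3.idealMulι J M)

theorem quotIdeal_app_eq_zero_iff {M : X.Modules} [M.IsQuasicoherent] (W : X.affineOpens) (x : Γ(M, W.1)) :
    (cokernel.π (Dual3.idealMulι J M)).app W.1 x = 0 ↔
      x ∈ J.ideal W • (⊤ : Submodule Γ(X, W.1) Γ(M, W.1)) := by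
  haveI := QC70.isQuasicoherent_idealMul J M
  rw [← QC70.mem_idealMul_iff]
  refine ⟨fun h => exists_app_eq_of_cokernel_π (Dual3.idealMulι J M) W.2 h, ?_⟩
  rintro ⟨z, rfl⟩
  exact QC70.app_f_g (ShortComplex.mk _ (cokernel.π (Dual3.idealMulι J M)) (cokernel.condition _)) W.1 z

theorem isCoh_quotIdeal [IsLocallyNoetherian X] {M : X.Modules} (hM : Coh.IsCoh M) : Coh.IsCoh (quotIdeal J M) := by
  haveI := hM.1
  exact QC70.isCoh_cokernel _ (QC70.isQuasicoherent_idealMul J M) hM

theorem killed_quotIdeal (M : X.Modules) [M.IsQuasicoherent] : ClSub.KilledByIdeal J (quotIdeal J M) := by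
  intro W a ha m
  haveI := QC70.isQuasicoherent_idealMul J M
  haveI : (quotIdeal J M).IsQuasicoherent := QC70.isQuasicoherent_cokernel _
  obtain ⟨x, rfl⟩ := app_surjective_of_epi (cokernel.π (Dual3.idealMulι J M)) W.2 m
  refine (Scheme.Modules.Hom.app_smul (cokernel.π (Dual3.idealMulι J M)) a x).symm.trans ?_
  exact (quotIdeal_app_eq_zero_iff J W _).2 (Submodule.smul_mem_smul ha Submodule.mem_top)

theorem killed_app {M : X.Modules} (h : ClSub.KilledByIdeal J M) (W : X.affineOpens) {a : Γ(X, W.1)}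
    (ha : a ∈ J.ideal W) (x : Γ(M, W.1)) : a • x = 0 := h W a ha x

theorem idealMulι_comp_of_killed {M Z : X.Modules} [M.IsQuasicoherent] (g : M ⟶ Z) (hZ : ClSub.KilledByIdeal J Z) :
    Dual3.idealMulι J M ≫ g = 0 := by
  haveI := QC70.isQuasicoherent_idealMul J M
  refine eq_zero_of_cover _ Set.univ (fun p => ?_) fun W _ x => ?_
  · obtain ⟨V, hV, hpV, -⟩ := X.isBasis_affineOpens.exists_subset_of_mem_open (Set.mem_univ p) isOpen_univ
    obtain ⟨V, hV', rfl⟩ := hV
    exact ⟨⟨V, hV'⟩, Set.mem_univ _, hpV⟩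
  · have h : (Dual3.idealMulι J M).app W.1 x ∈ J.ideal W • (⊤ : Submodule Γ(X, W.1) Γ(M, W.1)) :=
      (QC70.mem_idealMul_iff J M W _).1 ⟨x, rfl⟩
    change g.app W.1 ((Dual3.idealMulι J M).app W.1 x) = 0
    refine Submodule.smul_induction_on h (fun a ha y _ => ?_) fun y z hy hz => by rw [map_add, hy, hz, add_zero]
    rw [Scheme.Modules.Hom.app_smul]
    exact hZ W a ha _

/-- The subsystem of multiples. -/
abbrev idealSys (F : ℕᵒᵖ ⥤ X.Modules) : ℕᵒᵖ ⥤ X.Modules := F ⋙ Dual3.idealMul J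

/-- The inclusion of multiples. -/
def idealSysι (F : ℕᵒᵖ ⥤ X.Modules) : idealSys J F ⟶ F where
  app n := Dual3.idealMulι J (F.obj n)
  naturality i j f := Dual3.idealMul_map_ι J (F.map f)

theorem epi_idealMul_map {M N : X.Modules} [M.IsQuasicoherent] [N.IsQuasicoherent] (g : M ⟶ N) [Epi g] :
    Epi ((Dual3.idealMul J).map g) := by
  haveI := QC70.isQuasicoherent_idealMul J M
  haveI := QC70.isQuasicoherent_idealMul J N
  refine QC70.epi_of_locally_surjective _ fun U s p hp => ?_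
  obtain ⟨V, hV, hpV, hVU⟩ := X.isBasis_affineOpens.exists_subset_of_mem_open hp U.isOpen
  obtain ⟨V, hV', rfl⟩ := hV
  let W : X.affineOpens := ⟨V, hV'⟩
  have h := (QC70.mem_idealMul_iff J N W _).1
    ⟨QC70.res _ (show V ≤ U from hVU) s, rfl⟩
  rw [← LinearMap.range_eq_top.2 (show Function.Surjective (QC70.appLinear g V) from app_surjective_of_epi g hV'),
    ← Submodule.map_top, ← Submodule.map_smul''] at h
  obtain ⟨y, hy, hye⟩ := h
  obtain ⟨c, rfl⟩ := (QC70.mem_idealMul_iff J M W y).2 hy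
  refine ⟨V, hVU, c, hpV, QC70.app_injective_of_mono (Dual3.idealMulι J N) V ?_⟩
  refine Eq.trans ?_ hye
  exact congrArg (fun φ => (Scheme.Modules.Hom.app φ V) c) (Dual3.idealMul_map_ι J g)

theorem killedByIdeal_of_le {J J' : X.IdealSheafData} {M : X.Modules} (h : ∀ W, J.ideal W ≤ J'.ideal W)
    (hM : ClSub.KilledByIdeal J' M) : ClSub.KilledByIdeal J M := fun W a ha m => hM W a (h W ha) m

theorem killed_ker_app {M N : X.Modules} (φ : M ⟶ N) (hK : ClSub.KilledByIdeal J (kernel φ)) (W : X.affineOpens)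
    {a : Γ(X, W.1)} (ha : a ∈ J.ideal W) (x : Γ(M, W.1)) (hx : φ.app W.1 x = 0) : a • x = 0 := by
  obtain ⟨z, rfl⟩ := QC70.exists_kernel_app_eq φ W.1 x hx
  rw [← Scheme.Modules.Hom.app_smul, killed_app J hK W ha z, map_zero]

theorem killed_coker_app {M N : X.Modules} (φ : M ⟶ N) [M.IsQuasicoherent] [N.IsQuasicoherent]
    (hC : ClSub.KilledByIdeal J (cokernel φ)) (W : X.affineOpens)
    {a : Γ(X, W.1)} (ha : a ∈ J.ideal W) (y : Γ(N, W.1)) : ∃ x, φ.app W.1 x = a • y := by
  refine exists_app_eq_of_cokernel_π φ W.2 ?_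
  rw [Scheme.Modules.Hom.app_smul]
  exact killed_app J hC W ha _

end Aux

variable [IsNoetherian X] (K : X.IdealSheafData) {F : ℕᵒᵖ ⥤ X.Modules} (hF : Formal.IsCohFormal I F)
variable {H : X.Modules} (hH : Coh.IsCoh H) (α : F ⟶ Formal.completion I H) {t : ℕ}

include hF hH in
theorem exists_separation (hker : ∀ n : ℕ, ClSub.KilledByIdeal (K ^ (t + 1)) (kernel (α.app (op n))))
    (W : X.affineOpens) :
    ∃ c k, ∀ c', c ≤ c' → ∀ n (y : Γ(F.obj (op (n + k)), W.1)), (α.app (op (n + k))).app W.1 y = 0 →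
      y ∈ (K ^ c').ideal W • (⊤ : Submodule Γ(X, W.1) Γ(F.obj (op (n + k)), W.1)) →
      sectTr F W.1 (Nat.le_add_right n k) y = 0 := by
  haveI : IsNoetherianRing Γ(X, W.1) := IsLocallyNoetherian.component_noetherian W
  haveI := finite_sect hF W.2 0
  have hT := isTower_sect hF W.2
  have hG := isTower_sect (isCohFormal_completion I _ hH) W.2
  haveI := finite_sect (isCohFormal_completion I _ hH) W.2 0
  let αl : ∀ n : ℕ, Γ(F.obj (op n), W.1) →ₗ[Γ(X, W.1)] Γ((Formal.completion I H).obj (op n), W.1) :=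
    fun n => QC70.appLinear (α.app (op n)) W.1
  have hαl : ∀ {n m : ℕ} (h : n ≤ m) (x : Γ(F.obj (op m), W.1)),
      sectTr (Formal.completion I H) W.1 h (αl m x) = αl n (sectTr F W.1 h x) := fun {n m} h x =>
    (congrArg (fun φ => (Scheme.Modules.Hom.app φ W.1) x) (α.naturality (homOfLE h).op)).symm
  obtain ⟨D, hD⟩ := hT.exists_lift_ker hG αl hαl
  let T : ∀ n : ℕ, Submodule Γ(X, W.1) Γ(F.obj (op n), W.1) := fun n =>
    (LinearMap.ker (αl (n + D))).map (sectTr F W.1 (Nat.le_add_right n D))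
  have htr : ∀ n, (T (n + 1)).map (sectTr F W.1 (Nat.le_succ n)) = T n := fun n => by
    refine le_antisymm ?_ ?_
    · rintro _ ⟨_, ⟨y, hy, rfl⟩, rfl⟩
      refine ⟨sectTr F W.1 (show n + D ≤ n + 1 + D by omega) y, ?_, ?_⟩
      · rw [SetLike.mem_coe, LinearMap.mem_ker, ← hαl, LinearMap.mem_ker.1 hy, map_zero]
      · rw [hT.comp, hT.comp]
    · rintro _ ⟨y, hy, rfl⟩
      obtain ⟨y', hy', e⟩ := hD (show n + D ≤ n + 1 + D by omega) y hy
      refine ⟨_, ⟨y', hy', rfl⟩, ?_⟩
      rw [hT.comp, e]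
  obtain ⟨c, d, hcd⟩ := hT.exists_inter_pow (K.ideal W) (t + 1) T htr fun n a ha x hx => by
    obtain ⟨y, hy, rfl⟩ := hx
    rw [← map_smul, killed_ker_app (K ^ (t + 1)) (α.app (op (n + D))) (hker (n + D)) W
      (by rw [Scheme.IdealSheafData.ideal_pow]; exact ha) y (show (α.app (op (n + D))).app W.1 y = 0 from hy), map_zero]
  refine ⟨c, d + D, fun c' hc' n y hy hy' => ?_⟩
  rw [Scheme.IdealSheafData.ideal_pow] at hy'
  have hle : n + d + D ≤ n + (d + D) := by omega
  have h1 : sectTr F W.1 hle y ∈ LinearMap.ker (αl (n + d + D)) := by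
    rw [LinearMap.mem_ker, ← hαl]
    show sectTr (Formal.completion I H) W.1 hle ((α.app (op (n + (d + D)))).app W.1 y) = 0
    rw [hy, map_zero]
  have h2 : sectTr F W.1 (show n + d ≤ n + (d + D) by omega) y ∈
      (K.ideal W) ^ c' • (⊤ : Submodule Γ(X, W.1) Γ(F.obj (op (n + d)), W.1)) := by
    have h3 := Submodule.mem_map_of_mem (f := sectTr F W.1 (show n + d ≤ n + (d + D) by omega)) hy'
    rw [Submodule.map_smul''] at h3
    exact Submodule.smul_mono le_rfl le_top h3
  have h4 := hcd c' hc' (le_refl (n + d)) _ ⟨_, h1, hT.comp _ _ y⟩ h2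
  rwa [hT.comp] at h4

include hF hH in
theorem exists_algebraization_tricky
    (h₁ : ∀ e : ℕ,
      (∀ (M N : X.Modules), Coh.IsCoh M → Coh.IsCoh N → ClSub.KilledByIdeal (K ^ e) M →
        ClSub.KilledByIdeal (K ^ e) N → ∀ ψ : Formal.completion I M ⟶ Formal.completion I N,
          ∃! φ : M ⟶ N, ∀ n : ℕ, Formal.modPowπ I (n + 1) M ≫ ψ.app (op n) = φ ≫ Formal.modPowπ I (n + 1) N) ∧
      (∀ G : ℕᵒᵖ ⥤ X.Modules, Formal.IsCohFormal I G → (∀ n : ℕ, ClSub.KilledByIdeal (K ^ e) (G.obj (op n))) →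
        ∃ M : X.Modules, Coh.IsCoh M ∧ ClSub.KilledByIdeal (K ^ e) M ∧ Nonempty (Formal.completion I M ≅ G)))
    (hker : ∀ n : ℕ, ClSub.KilledByIdeal (K ^ (t + 1)) (kernel (α.app (op n))))
    (hcoker : ∀ n : ℕ, ClSub.KilledByIdeal (K ^ (t + 1)) (cokernel (α.app (op n)))) :
    ∃ M : X.Modules, Coh.IsCoh M ∧ Nonempty (Formal.completion I M ≅ F) := by
  classical
  obtain ⟨S, hS⟩ := exists_cover (X := X)
  choose cW kW hsep using fun W : X.affineOpens => exists_separation K hF hH α hker W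
  let c := S.sup cW
  haveI hqF : ∀ n : ℕ, (F.obj (op n)).IsQuasicoherent := fun n => (hF.1 n).1
  -- the quotient by a power of K
  let β := idealSysι (K ^ c) F
  have hqB : ∀ n : ℕ, ((idealSys (K ^ c) F).obj (op n)).IsQuasicoherent := fun n =>
    QC70.isQuasicoherent_idealMul (K ^ c) (F.obj (op n))
  have hC : Formal.IsCohFormal I (cokerSys β) := isCohFormal_cokerSys hqB (fun n => by
    haveI := Formal27.epi_step hF n
    exact epi_idealMul_map (K ^ c) (sysMap F (Nat.le_succ n))) β hF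
  obtain ⟨M, hM, hMk, ⟨eM⟩⟩ := (h₁ c).2 _ hC fun n => killed_quotIdeal (K ^ c) (F.obj (op n))
  let π' : F ⟶ Formal.completion I M := cokerSysπ β ≫ eM.inv
  have hπ' : ∀ (W : X.affineOpens) (n : ℕ) (y : Γ(F.obj (op n), W.1)), (π'.app (op n)).app W.1 y = 0 →
      y ∈ (K ^ c).ideal W • (⊤ : Submodule Γ(X, W.1) Γ(F.obj (op n), W.1)) := fun W n y hy => by
    refine (quotIdeal_app_eq_zero_iff (K ^ c) W y).1 ?_
    have h : (π'.app (op n) ≫ eM.hom.app (op n)).app W.1 y = 0 :=
      (congrArg ((eM.hom.app (op n)).app W.1) hy).trans (map_zero _)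
    have e : π'.app (op n) ≫ eM.hom.app (op n) = (cokerSysπ β).app (op n) :=
      (Category.assoc _ _ _).trans ((congrArg (_ ≫ ·) (eM.inv_hom_id_app (op n))).trans (Category.comp_id _))
    rw [e] at h
    exact h
  -- the pair
  let N : X.Modules := M ⊞ H
  have hN : Coh.IsCoh N :=
    let S' := ShortComplex.mk (biprod.inl : M ⟶ M ⊞ H) biprod.snd biprod.inl_snd
    QC70.isCoh_X₂ S' (ShortComplex.Splitting.ofHasBinaryBiproduct _ _).shortExact hM hH
  haveI := hN.1
  let γ : F ⟶ Formal.completion I N :=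
    π' ≫ complMap (biprod.inl : M ⟶ N) + α ≫ complMap (biprod.inr : H ⟶ N)
  have hfst' : γ ≫ complMap (biprod.fst : N ⟶ M) = π' := by
    show (π' ≫ complMap (biprod.inl : M ⟶ M ⊞ H) + α ≫ complMap (biprod.inr : H ⟶ M ⊞ H)) ≫
      complMap (biprod.fst : M ⊞ H ⟶ M) = π'
    rw [Preadditive.add_comp, Category.assoc π', Category.assoc α, ← complMap_comp, ← complMap_comp, biprod.inl_fst,
      biprod.inr_fst, complMap_id, complMap_zero, comp_zero, add_zero, Category.comp_id]
  have hsnd' : γ ≫ complMap (biprod.snd : N ⟶ H) = α := by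
    show (π' ≫ complMap (biprod.inl : M ⟶ M ⊞ H) + α ≫ complMap (biprod.inr : H ⟶ M ⊞ H)) ≫
      complMap (biprod.snd : M ⊞ H ⟶ H) = α
    rw [Preadditive.add_comp, Category.assoc π', Category.assoc α, ← complMap_comp, ← complMap_comp, biprod.inl_snd,
      biprod.inr_snd, complMap_id, complMap_zero, comp_zero, zero_add, Category.comp_id]
  have hfst : ∀ n : ℕ, γ.app (op n) ≫ (complMap (biprod.fst : N ⟶ M)).app (op n) = π'.app (op n) := fun n =>
    congr_arg (fun t => NatTrans.app t (op n)) hfst'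
  have hsnd : ∀ n : ℕ, γ.app (op n) ≫ (complMap (biprod.snd : N ⟶ H)).app (op n) = α.app (op n) := fun n =>
    congr_arg (fun t => NatTrans.app t (op n)) hsnd'
  -- the cokernel of the pair
  haveI hqN : ∀ n : ℕ, ((Formal.completion I N).obj (op n)).IsQuasicoherent := fun n =>
    isQuasicoherent_modPow N I (n + 1)
  have hC₀ : Formal.IsCohFormal I (cokerSys γ) :=
    isCohFormal_cokerSys hqF (fun n => Formal27.epi_step hF n) γ (isCohFormal_completion I _ hN)
  let e₀ := t + 1
  have hC₀k : ∀ n : ℕ, ClSub.KilledByIdeal (K ^ (c + e₀)) ((cokerSys γ).obj (op n)) := by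
    intro n W a ha z
    haveI : (cokernel (γ.app (op n))).IsQuasicoherent := (hC₀.1 n).1
    obtain ⟨z, rfl⟩ := app_surjective_of_epi (cokernel.π (γ.app (op n))) W.2 z
    refine (Scheme.Modules.Hom.app_smul (cokernel.π (γ.app (op n))) a z).symm.trans ?_
    have hrange : a • z ∈ LinearMap.range (QC70.appLinear (γ.app (op n)) W.1) := by
      rw [Scheme.IdealSheafData.ideal_pow, pow_add] at ha
      refine Submodule.mul_induction_on ha (fun a₁ h₁' a₂ h₂' => ?_) fun a b ha hb => by
        rw [add_smul]; exact add_mem ha hb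
      rw [← Scheme.IdealSheafData.ideal_pow] at h₁' h₂'
      let zm := ((complMap (I := I) (biprod.fst : N ⟶ M)).app (op n)).app W.1 z
      let zh := ((complMap (I := I) (biprod.snd : N ⟶ H)).app (op n)).app W.1 z
      have hz : z = ((complMap (I := I) (biprod.inl : M ⟶ N)).app (op n)).app W.1 zm +
          ((complMap (I := I) (biprod.inr : H ⟶ N)).app (op n)).app W.1 zh := by
        have e' : complMap (I := I) (biprod.fst : N ⟶ M) ≫ complMap (biprod.inl : M ⟶ N) +
            complMap (biprod.snd : N ⟶ H) ≫ complMap (biprod.inr : H ⟶ N) = 𝟙 _ := by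
          rw [← complMap_comp, ← complMap_comp, ← complMap_add, biprod.total, complMap_id]
        have e : (complMap (I := I) (biprod.fst : N ⟶ M)).app (op n) ≫ (complMap (biprod.inl : M ⟶ N)).app (op n) +
            (complMap (biprod.snd : N ⟶ H)).app (op n) ≫ (complMap (biprod.inr : H ⟶ N)).app (op n) = 𝟙 _ :=
          congr_arg (fun t => NatTrans.app t (op n)) e'
        exact (congrArg (fun φ => (Scheme.Modules.Hom.app φ W.1) z) e).symm
      have hγ : ∀ y : Γ(F.obj (op n), W.1), (γ.app (op n)).app W.1 y =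
          ((complMap (I := I) (biprod.inl : M ⟶ N)).app (op n)).app W.1 ((π'.app (op n)).app W.1 y) +
            ((complMap (I := I) (biprod.inr : H ⟶ N)).app (op n)).app W.1 ((α.app (op n)).app W.1 y) := fun y => rfl
      have hqM : ∀ n : ℕ, ((Formal.completion I M).obj (op n)).IsQuasicoherent := fun n =>
        (isCohFormal_completion I _ hM).1 n |>.1
      have hkillM : ∀ {b : Γ(X, W.1)}, b ∈ (K ^ c).ideal W → ∀ x : Γ((Formal.completion I M).obj (op n), W.1),
          b • x = 0 := fun {b} hb x => by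
        haveI := hM.1
        obtain ⟨x, rfl⟩ := modPowπ_app_surjective (M := M) I (n + 1) W.2 x
        refine (Scheme.Modules.Hom.app_smul (Formal.modPowπ I (n + 1) M) b x).symm.trans ?_
        rw [killed_app (K ^ c) hMk W hb x]
        exact map_zero _
      -- the component in H
      have hinr : ∀ x : Γ((Formal.completion I H).obj (op n), W.1),
          (a₁ * a₂) • ((complMap (I := I) (biprod.inr : H ⟶ N)).app (op n)).app W.1 x ∈
            LinearMap.range (QC70.appLinear (γ.app (op n)) W.1) := fun x => by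
        haveI : ((Formal.completion I H).obj (op n)).IsQuasicoherent := (isCohFormal_completion I _ hH).1 n |>.1
        obtain ⟨y, hy⟩ := killed_coker_app (K ^ e₀) (α.app (op n)) (hcoker n) W h₂' x
        refine ⟨a₁ • y, ?_⟩
        rw [map_smul]
        show a₁ • (γ.app (op n)).app W.1 y = _
        rw [hγ, smul_add, hy, ← Scheme.Modules.Hom.app_smul, hkillM h₁', map_zero, zero_add, mul_smul]
        exact congrArg (a₁ • ·) (Scheme.Modules.Hom.app_smul ((complMap (I := I) (biprod.inr : H ⟶ N)).app (op n)) a₂ x)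
      rw [hz, smul_add]
      refine add_mem ?_ (hinr zh)
      haveI := hqM n
      haveI : (cokernel (β.app (op n))).IsQuasicoherent := (hC.1 n).1
      obtain ⟨y, hy⟩ := app_surjective_of_epi (cokernel.π (β.app (op n))) W.2 ((eM.hom.app (op n)).app W.1 zm)
      have hy' : (π'.app (op n)).app W.1 y = zm := by
        show (eM.inv.app (op n)).app W.1 ((cokernel.π (β.app (op n))).app W.1 y) = zm
        rw [hy]
        exact congrArg (fun φ => (Scheme.Modules.Hom.app φ W.1) zm) (eM.hom_inv_id_app (op n))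
      have h3 := hγ y
      rw [hy'] at h3
      rw [eq_sub_of_add_eq h3.symm, smul_sub]
      exact sub_mem (Submodule.smul_mem _ _ (LinearMap.mem_range_self (QC70.appLinear (γ.app (op n)) W.1) y))
        (hinr _)
    obtain ⟨y, hy⟩ := hrange
    rw [← hy]
    exact QC70.app_f_g (ShortComplex.mk (γ.app (op n)) (cokernel.π (γ.app (op n))) (cokernel.condition _)) W.1 y
  obtain ⟨M₀, hM₀, hM₀k, ⟨e₁⟩⟩ := (h₁ (c + e₀)).2 _ hC₀ hC₀k
  -- algebraize the projection
  let ψ₀ : Formal.completion I N ⟶ Formal.completion I M₀ := cokerSysπ γ ≫ e₁.inv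
  let J₀ := K ^ (c + e₀)
  have hM₀n : ∀ n : ℕ, ClSub.KilledByIdeal J₀ (Formal.modPow I (n + 1) M₀) := fun n W a ha x => by
    haveI := hM₀.1
    obtain ⟨x, rfl⟩ := modPowπ_app_surjective (M := M₀) I (n + 1) W.2 x
    refine (Scheme.Modules.Hom.app_smul (Formal.modPowπ I (n + 1) M₀) a x).symm.trans ?_
    rw [killed_app J₀ hM₀k W ha x]
    exact map_zero _
  let g : ∀ n : ℕ, N ⟶ Formal.modPow I (n + 1) M₀ := fun n => Formal.modPowπ I (n + 1) N ≫ ψ₀.app (op n)
  let g' : ∀ n : ℕ, quotIdeal J₀ N ⟶ Formal.modPow I (n + 1) M₀ := fun n =>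
    cokernel.desc _ (g n) (idealMulι_comp_of_killed J₀ (g n) (hM₀n n))
  have hg0 : ∀ n, ∀ a ∈ I ^ (n + 1), Formal.smulMod A (quotIdeal J₀ N) a ≫ g' n = 0 := fun n a ha => by
    rw [← smulMod_comp, show Formal.smulMod A (Formal.modPow I (n + 1) M₀) a = 0 from
      (isCohFormal_completion I _ hM₀).2.1 n a ha, comp_zero]
  let ψ₁ : Formal.completion I (quotIdeal J₀ N) ⟶ Formal.completion I M₀ :=
    { app := fun n => cokernel.desc _ (g' n.unop) (smulFamily_comp_eq_zero _ (hg0 n.unop))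
      naturality := by
        rintro ⟨m⟩ ⟨n⟩ φ
        obtain ⟨h⟩ : Nonempty (n ≤ m) := ⟨leOfHom φ.unop⟩
        rw [show φ = (homOfLE h).op from Subsingleton.elim _ _]
        refine (cancel_epi (Formal.modPowπ I (m + 1) (quotIdeal J₀ N))).1 ?_
        refine ((Category.assoc _ _ _).symm.trans ((congrArg (· ≫ _) (completion_map_π _ h)).trans
          (cokernel.π_desc _ _ _))).trans ?_
        refine Eq.trans ?_ ((Category.assoc _ _ _).symm.trans
          (congrArg (· ≫ sysMap (Formal.completion I M₀) h) (cokernel.π_desc _ _ _))).symm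
        refine (cancel_epi (cokernel.π (Dual3.idealMulι J₀ N))).1 ?_
        refine (cokernel.π_desc _ _ _).trans ?_
        refine Eq.trans ?_ ((Category.assoc _ _ _).symm.trans
          (congrArg (· ≫ sysMap (Formal.completion I M₀) h) (cokernel.π_desc _ _ _))).symm
        exact (congrArg (· ≫ ψ₀.app (op n)) (completion_map_π N h)).symm.trans ((Category.assoc _ _ _).trans
          ((congrArg (_ ≫ ·) (ψ₀.naturality (homOfLE h).op)).trans (Category.assoc _ _ _).symm)) }
  haveI := hN.1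
  obtain ⟨φ, hφ, -⟩ := (h₁ (c + e₀)).1 _ _ (isCoh_quotIdeal J₀ hN) hM₀ (killed_quotIdeal J₀ N) hM₀k ψ₁
  let ψ : N ⟶ M₀ := cokernel.π (Dual3.idealMulι J₀ N) ≫ φ
  have hψ : ∀ n : ℕ, Formal.modPowπ I (n + 1) N ≫ ψ₀.app (op n) = ψ ≫ Formal.modPowπ I (n + 1) M₀ := fun n => by
    refine Eq.trans ?_ ((congrArg (cokernel.π (Dual3.idealMulι J₀ N) ≫ ·) (hφ n)).trans (Category.assoc _ _ _).symm)
    refine Eq.trans ?_ (congrArg (cokernel.π (Dual3.idealMulι J₀ N) ≫ ·) (cokernel.π_desc _ _ _)).symm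
    exact (cokernel.π_desc _ _ _).symm
  have hexact : ∀ (W : X.affineOpens) (n : ℕ) (x : Γ(N, W.1)),
      (∃ y, (γ.app (op n)).app W.1 y = (Formal.modPowπ I (n + 1) N).app W.1 x) ↔
        (Formal.modPowπ I (n + 1) M₀).app W.1 (ψ.app W.1 x) = 0 := fun W n x => by
    have e : (Formal.modPowπ I (n + 1) M₀).app W.1 (ψ.app W.1 x) =
        (e₁.inv.app (op n)).app W.1 ((cokernel.π (γ.app (op n))).app W.1 ((Formal.modPowπ I (n + 1) N).app W.1 x)) :=
      congrArg (fun φ => (Scheme.Modules.Hom.app φ W.1) x) (hψ n).symm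
    rw [e]
    constructor
    · rintro ⟨y, hy⟩
      rw [← hy, show (cokernel.π (γ.app (op n))).app W.1 ((γ.app (op n)).app W.1 y) = 0 from
        QC70.app_f_g (ShortComplex.mk (γ.app (op n)) (cokernel.π (γ.app (op n))) (cokernel.condition _)) W.1 y]
      exact map_zero _
    · intro h
      refine exists_app_eq_of_cokernel_π (γ.app (op n)) W.2 ?_
      exact QC70.app_injective_of_mono (e₁.inv.app (op n)) W.1 (h.trans (map_zero _).symm)
  -- the kernel
  let P : X.Modules := kernel ψ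
  have hP : Coh.IsCoh P := QC70.isCoh_kernel ψ hN hM₀.1
  haveI := hM₀.1
  let d : RelData I X :=
    { F := F
      hF := hF
      G := P
      hG := hP
      B := Formal.completion I N
      hB := hqN
      μ := γ
      ν := fun n => kernel.ι ψ ≫ Formal.modPowπ I (n + 1) N
      hν := fun h => (Category.assoc _ _ _).trans (congrArg (kernel.ι ψ ≫ ·) (completion_map_π N h)) }
  have hrel : ∀ W ∈ S, ∃ k, d.SecRel W.1 0 k := by
    intro W hW
    haveI : IsNoetherianRing Γ(X, W.1) := IsLocallyNoetherian.component_noetherian W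
    haveI := hN.2
    haveI := hM₀.2
    haveI : Module.Finite Γ(X, W.1) Γ(N, W.1) := QC70.finite_sections_of_isFiniteType N W.2
    haveI : Module.Finite Γ(X, W.1) Γ(M₀, W.1) := QC70.finite_sections_of_isFiniteType M₀ W.2
    let J := I.map (gi A X W.1)
    let ιl : Γ(P, W.1) →ₗ[Γ(X, W.1)] Γ(N, W.1) := QC70.appLinear (kernel.ι ψ) W.1
    let ψl : Γ(N, W.1) →ₗ[Γ(X, W.1)] Γ(M₀, W.1) := QC70.appLinear ψ W.1
    obtain ⟨k₁, hk₁⟩ := J.exists_pow_inf_eq_pow_smul (LinearMap.range ιl)
    obtain ⟨k₂, hk₂⟩ := J.exists_pow_inf_eq_pow_smul (LinearMap.range ψl)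
    refine ⟨k₁ + k₂ + kW W, ⟨fun h y g hy => d.rel_mono h y g hy, fun n y => ?_, fun n g hg => ?_,
      fun n g hg => d.rel_zero (fun n a ha g => ?_) n hg, fun n y hy r _ => ?_, fun n g r _ => ?_⟩⟩
    · change Γ(F.obj (op (n + (k₁ + k₂ + kW W))), W.1) at y
      let m := n + (k₁ + k₂ + kW W)
      obtain ⟨x, hx⟩ := modPowπ_app_surjective (M := N) I (m + 1) W.2 ((γ.app (op m)).app W.1 y)
      have h1 : ψl x ∈ J ^ (m + 1) • (⊤ : Submodule Γ(X, W.1) Γ(M₀, W.1)) ⊓ LinearMap.range ψl := by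
        refine ⟨?_, LinearMap.mem_range_self _ x⟩
        rw [← IM_eq]
        exact (modPowπ_app_eq_zero_iff W.2 _).1 ((hexact W m x).1 ⟨y, hx.symm⟩)
      rw [hk₂ _ (by omega)] at h1
      have h2 : ψl x ∈ J ^ (n + 1) • LinearMap.range ψl :=
        Submodule.smul_mono (Ideal.pow_le_pow_right (by omega)) inf_le_right h1
      rw [← Submodule.map_top, ← Submodule.map_smul''] at h2
      obtain ⟨δ, hδ, hδe⟩ := h2
      obtain ⟨g, hg⟩ := QC70.exists_kernel_app_eq ψ W.1 (x - δ) (by
        show ψl (x - δ) = 0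
        rw [map_sub, hδe, sub_self])
      refine ⟨g, ?_⟩
      show (γ.app (op n)).app W.1 ((sysMap F (Nat.le_add_right n (k₁ + k₂ + kW W))).app W.1 y) =
        (Formal.modPowπ I (n + 1) N).app W.1 ((kernel.ι ψ).app W.1 g)
      rw [hg, map_sub, show (Formal.modPowπ I (n + 1) N).app W.1 δ = 0 from
        modPowπ_app_eq_zero_of_mem (by rw [IM_eq]; exact hδ)]
      refine Eq.trans ?_ (sub_zero _).symm
      refine (congrArg (fun φ => (Scheme.Modules.Hom.app φ W.1) y)
        (γ.naturality (homOfLE (Nat.le_add_right n (k₁ + k₂ + kW W))).op)).trans ?_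
      change (sysMap (Formal.completion I N) _).app W.1 ((γ.app (op m)).app W.1 y) = _
      rw [← hx]
      exact congrArg (fun φ => (Scheme.Modules.Hom.app φ W.1) x) (completion_map_π N _)
    · change Γ(P, W.1) at g
      have h0 : (Formal.modPowπ I (n + (k₁ + k₂ + kW W) + 1) N).app W.1 ((kernel.ι ψ).app W.1 g) = 0 :=
        ((show (γ.app (op (n + (k₁ + k₂ + kW W)))).app W.1 0 = _ from hg).symm).trans (map_zero _)
      have h1 : ιl g ∈ J ^ (n + (k₁ + k₂ + kW W) + 1) • (⊤ : Submodule Γ(X, W.1) Γ(N, W.1)) ⊓ LinearMap.range ιl := by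
        refine ⟨?_, LinearMap.mem_range_self _ g⟩
        rw [← IM_eq]
        exact (modPowπ_app_eq_zero_iff W.2 _).1 h0
      rw [hk₁ _ (by omega)] at h1
      have h2 : ιl g ∈ J ^ (n + 1) • LinearMap.range ιl :=
        Submodule.smul_mono (Ideal.pow_le_pow_right (by omega)) inf_le_right h1
      rw [← Submodule.map_top, ← Submodule.map_smul''] at h2
      obtain ⟨g', hg', hge⟩ := h2
      rwa [← QC70.app_injective_of_mono (kernel.ι ψ) W.1 hge]
    · show (kernel.ι ψ ≫ Formal.modPowπ I (n + 1) N).app W.1 (gi A X W.1 a • g) = 0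
      exact (congrArg ((Formal.modPowπ I (n + 1) N).app W.1)
        (Scheme.Modules.Hom.app_smul (kernel.ι ψ) (gi A X W.1 a) g)).trans (modPowπ_app_smul ha _)
    · change Γ(F.obj (op (n + (k₁ + k₂ + kW W))), W.1) at y
      have hγy : (γ.app (op (n + (k₁ + k₂ + kW W)))).app W.1 y = 0 :=
        (show _ = (kernel.ι ψ ≫ Formal.modPowπ I (n + (k₁ + k₂ + kW W) + 1) N).app W.1 0 from hy).trans (map_zero _)
      have hπy : (π'.app (op (n + (k₁ + k₂ + kW W)))).app W.1 y = 0 := by
        rw [← hfst]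
        exact (congrArg (((complMap (I := I) (biprod.fst : N ⟶ M)).app (op (n + (k₁ + k₂ + kW W)))).app W.1) hγy).trans (map_zero _)
      have hαy : (α.app (op (n + (k₁ + k₂ + kW W)))).app W.1 y = 0 := by
        rw [← hsnd]
        exact (congrArg (((complMap (I := I) (biprod.snd : N ⟶ H)).app (op (n + (k₁ + k₂ + kW W)))).app W.1) hγy).trans (map_zero _)
      have hle : n + kW W ≤ n + (k₁ + k₂ + kW W) := by omega
      have h1 := hsep W c (Finset.le_sup hW) n (sectTr F W.1 hle y) (by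
        refine (congrArg (fun φ => (Scheme.Modules.Hom.app φ W.1) y) (α.naturality (homOfLE hle).op)).trans ?_
        exact (congrArg ((sysMap (Formal.completion I H) hle).app W.1) hαy).trans (map_zero _)) (by
        have h2 := Submodule.mem_map_of_mem (f := sectTr F W.1 hle) (hπ' W _ y hπy)
        rw [Submodule.map_smul''] at h2
        exact Submodule.smul_mono le_rfl le_top h2)
      rw [(isTower_sect hF W.2).comp] at h1
      show r • sectTr F W.1 (Nat.le_add_right n (k₁ + k₂ + kW W)) y = 0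
      rw [h1, smul_zero]
    · obtain ⟨y, hy⟩ := (hexact W n ((kernel.ι ψ).app W.1 (r • g))).2 (by
        rw [show ψ.app W.1 ((kernel.ι ψ).app W.1 (r • g)) = 0 from
          QC70.app_f_g (ShortComplex.mk (kernel.ι ψ) ψ (kernel.condition ψ)) W.1 _, map_zero])
      exact ⟨y, hy⟩
  obtain ⟨F', -, b, hF', -, -, -, -⟩ := d.exists_algebraization S hS 0 hrel
  exact ⟨F', hF', ⟨b.symm⟩⟩

end Groth.Agent.Algz14
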