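import Groth.Agent.Formal27.LimQuot
import Groth.Prelude.Def_Algz

/-!
Coherent formal systems are determined by their pro-objects.
-/

set_option autoImplicit false

universe u

open CategoryTheory CategoryTheory.Limits AlgebraicGeometry Opposite

noncomputable section

namespace Groth.Agent.Algz14

open Formal27

variable {A : Type u} [CommRing A] {X : Scheme.{u}} [X.Over (Spec (CommRingCat.of A))]
variable {I : Ideal A} {F G : ℕᵒᵖ ⥤ X.Modules}

theorem isQCohFormal (hF : Formal.IsCohFormal I F) : Formal2.IsQCohFormal I F :=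
  ⟨fun n => (hF.1 n).1, hF.2.1, hF.2.2⟩

theorem epi_sysMap (hF : Formal.IsCohFormal I F) {n m : ℕ} (h : n ≤ m) : Epi (sysMap F h) := by
  induction m, h using Nat.le_induction with
  | base => rw [sysMap_self]; infer_instance
  | succ m h ih =>
    haveI := ih
    haveI : Epi (sysMap F (Nat.le_succ m)) := epi_tr (isQCohFormal hF) m
    rw [← sysMap_comp F h (Nat.le_succ m)]
    infer_instance

theorem existsUnique_hom (hF : Formal.IsCohFormal I F) (hG : Formal.IsCohFormal I G) (m : ℕ → ℕ) (hm : Monotone m)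
    (hle : ∀ n : ℕ, n ≤ m n) (π : DerCA.reindex F hm ⟶ F)
    (hπ : ∀ n : ℕ, π.app (op n) = F.map (homOfLE (hle n)).op) (α : DerCA.reindex F hm ⟶ G) :
    ∃! β : F ⟶ G, π ≫ β = α := by
  have hepi : ∀ n, Epi (π.app (op n)) := fun n => by rw [hπ]; exact epi_sysMap hF (hle n)
  have hex : ∀ n, ∃ v : F.obj (op n) ⟶ G.obj (op n), π.app (op n) ≫ v = α.app (op n) := fun n => by
    rw [hπ]
    refine exists_factor_tr (isQCohFormal hF) (hle n) _ fun a ha => ?_
    exact (smulMod_comp (α.app (op n)) a).symm.trans ((congrArg _ (hG.2.1 n a ha)).trans comp_zero)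
  choose v hv using hex
  let β : F ⟶ G :=
    { app := fun n => v n.unop
      naturality := fun n k f => by
        haveI := hepi n.unop
        refine (cancel_epi (π.app (op n.unop))).1 ?_
        rw [← Category.assoc, ← Category.assoc, hv]
        show (π.app n ≫ F.map f) ≫ v k.unop = α.app n ≫ G.map f
        rw [← π.naturality f, Category.assoc, show π.app k ≫ v k.unop = α.app k from hv k.unop]
        exact α.naturality f }
  refine ⟨β, NatTrans.ext (funext fun n => hv n.unop), fun β' hβ' => NatTrans.ext (funext fun n => ?_)⟩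
  haveI := hepi n.unop
  refine (cancel_epi (π.app (op n.unop))).1 ?_
  exact (congr_arg (fun t => NatTrans.app t n) hβ').trans (hv n.unop).symm

theorem nonempty_iso (hF : Formal.IsCohFormal I F) (hG : Formal.IsCohFormal I G) (h : Algz.IsProIsomorphic F G) :
    Nonempty (F ≅ G) := by
  obtain ⟨m, hm, hle, a, ha⟩ := h
  let π : DerCA.reindex F hm ⟶ F :=
    { app := fun n => F.map (homOfLE (hle n.unop)).op
      naturality := fun n k f => by
        show F.map _ ≫ F.map _ = F.map _ ≫ F.map _
        exact (F.map_comp _ _).symm.trans ((congrArg F.map (Subsingleton.elim _ _)).trans (F.map_comp _ _)) }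
  obtain ⟨β, hβ, -⟩ := existsUnique_hom hF hG m hm hle π (fun n => rfl) a
  have hiso : ∀ n, IsIso (β.app (op n)) := by
    intro n
    obtain ⟨m', h', b₀, hb₁, hb₂⟩ := ha n
    let b : G.obj (op m') ⟶ F.obj (op (m n)) := b₀
    let a' : ∀ j, F.obj (op (m j)) ⟶ G.obj (op j) := fun j => a.app (op j)
    let p : ∀ j, F.obj (op (m j)) ⟶ F.obj (op j) := fun j => sysMap F (hle j)
    have hb₁' : a' m' ≫ b = sysMap F (hm h') := hb₁
    have hb₂' : b ≫ a' n = sysMap G h' := hb₂
    have hπβ : ∀ j, p j ≫ β.app (op j) = a' j := fun j => congr_arg (fun t => NatTrans.app t (op j)) hβ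
    obtain ⟨γ, hγ⟩ := exists_factor_tr (isQCohFormal hG) h' (b ≫ p n) fun c hc => by
      rw [← Category.assoc, ← smulMod_comp, Category.assoc, ← smulMod_comp, hF.2.1 n c hc, comp_zero, comp_zero]
    haveI := epi_sysMap hG h'
    haveI := epi_sysMap hF ((hle n).trans (hm h'))
    refine ⟨γ, ?_, ?_⟩
    · refine (cancel_epi (sysMap F ((hle n).trans (hm h')))).1 ?_
      have e1 : sysMap F ((hle n).trans (hm h')) = p m' ≫ sysMap F h' := (sysMap_comp F h' (hle m')).symm
      have e2 : sysMap F h' ≫ β.app (op n) = β.app (op m') ≫ sysMap G h' := β.naturality _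
      have e4 : sysMap F ((hle n).trans (hm h')) = sysMap F (hm h') ≫ p n := (sysMap_comp F (hle n) (hm h')).symm
      calc sysMap F ((hle n).trans (hm h')) ≫ β.app (op n) ≫ γ
          = p m' ≫ (sysMap F h' ≫ β.app (op n)) ≫ γ := by rw [e1]; simp only [Category.assoc]
        _ = (p m' ≫ β.app (op m')) ≫ (sysMap G h' ≫ γ) := by rw [e2]; simp only [Category.assoc]
        _ = (a' m' ≫ b) ≫ p n := by rw [hπβ, hγ]; simp only [Category.assoc]
        _ = _ := by rw [hb₁', ← e4, Category.comp_id]
    · refine (cancel_epi (sysMap G h')).1 ?_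
      rw [Category.comp_id, ← Category.assoc, hγ, Category.assoc, hπβ, hb₂']
  haveI : IsIso β := by
    haveI : ∀ X, IsIso (β.app X) := fun X => hiso X.unop
    exact NatIso.isIso_of_isIso_app β
  exact ⟨asIso β⟩

end Groth.Agent.Algz14
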