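import Groth.Agent.Algz14.RelTower
import Groth.Agent.Algz14.Pro
import Groth.Agent.Formal27.TorsHom
import Groth.Agent.QC70.CohOps

/-!
Sections of coherent formal systems on affine opens as adic towers.
-/

set_option autoImplicit false
set_option linter.style.haveILetI false

universe u

open CategoryTheory CategoryTheory.Limits AlgebraicGeometry Opposite

noncomputable section

namespace Groth.Agent.Algz14

open Formal27

section General

variable {X : Scheme.{u}}

theorem app_surjective_of_epi {M N : X.Modules} (φ : M ⟶ N) [Epi φ] [M.IsQuasicoherent] [N.IsQuasicoherent]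
    {V : X.Opens} (hV : IsAffineOpen V) : Function.Surjective (φ.app V) := by
  let S := ShortComplex.mk (kernel.ι φ) φ (kernel.condition φ)
  have hS : S.ShortExact :=
    { exact := ShortComplex.exact_of_f_is_kernel _ (kernelIsKernel _)
      mono_f := (inferInstance : Mono (kernel.ι φ))
      epi_g := ‹Epi φ› }
  haveI : S.X₁.IsQuasicoherent := QC70.isQuasicoherent_kernel φ
  exact QC70.app_surjective_of_isAffineOpen S hS hV

/-- A map of quasi-coherent modules bijective on the sections of an affine cover is an isomorphism. -/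
theorem isIso_of_cover {M N : X.Modules} (φ : M ⟶ N) [M.IsQuasicoherent] [N.IsQuasicoherent]
    (S : Set X.affineOpens) (hS : ∀ p : X, ∃ W ∈ S, p ∈ W.1) (h : ∀ W ∈ S, Function.Bijective (φ.app W.1)) :
    IsIso φ := by
  haveI : (kernel φ).IsQuasicoherent := QC70.isQuasicoherent_kernel φ
  have h1 : kernel.ι φ = 0 := eq_zero_of_cover _ S hS fun W hW x =>
    (h W hW).1 ((QC70.app_f_g (ShortComplex.mk (kernel.ι φ) φ (kernel.condition φ)) W.1 x).trans (map_zero _).symm)
  have h2 : cokernel.π φ = 0 := eq_zero_of_cover _ S hS fun W hW y => by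
    obtain ⟨x, rfl⟩ := (h W hW).2 y
    exact QC70.app_f_g (ShortComplex.mk φ (cokernel.π φ) (cokernel.condition φ)) W.1 x
  haveI := Abelian.mono_of_kernel_ι_eq_zero _ h1
  haveI := Abelian.epi_of_cokernel_π_eq_zero _ h2
  exact isIso_of_mono_of_epi φ

theorem exists_biprod_elt {M N : X.Modules} (V : X.Opens) (m : Γ(M, V)) (n : Γ(N, V)) :
    ∃ z : Γ(M ⊞ N, V), (biprod.fst : M ⊞ N ⟶ M).app V z = m ∧ (biprod.snd : M ⊞ N ⟶ N).app V z = n := by
  refine ⟨(biprod.inl : M ⟶ M ⊞ N).app V m + (biprod.inr : N ⟶ M ⊞ N).app V n, ?_, ?_⟩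
  · rw [map_add]
    change (biprod.inl ≫ biprod.fst : M ⟶ M).app V m + (biprod.inr ≫ biprod.fst : N ⟶ M).app V n = m
    rw [biprod.inl_fst, biprod.inr_fst]
    exact add_zero m
  · rw [map_add]
    change (biprod.inl ≫ biprod.snd : M ⟶ N).app V m + (biprod.inr ≫ biprod.snd : N ⟶ N).app V n = n
    rw [biprod.inl_snd, biprod.inr_snd]
    exact zero_add n

theorem biprod_elt_ext {M N : X.Modules} {V : X.Opens} {z z' : Γ(M ⊞ N, V)}
    (h1 : (biprod.fst : M ⊞ N ⟶ M).app V z = (biprod.fst : M ⊞ N ⟶ M).app V z')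
    (h2 : (biprod.snd : M ⊞ N ⟶ N).app V z = (biprod.snd : M ⊞ N ⟶ N).app V z') : z = z' := by
  have key : ∀ w : Γ(M ⊞ N, V), w = (biprod.inl : M ⟶ M ⊞ N).app V ((biprod.fst : M ⊞ N ⟶ M).app V w) +
      (biprod.inr : N ⟶ M ⊞ N).app V ((biprod.snd : M ⊞ N ⟶ N).app V w) := fun w =>
    (congrArg (fun φ : M ⊞ N ⟶ M ⊞ N => φ.app V w) (biprod.total (X := M) (Y := N))).symm
  rw [key z, key z', h1, h2]

end General

variable {A : Type u} [CommRing A] {X : Scheme.{u}} [X.Over (Spec (CommRingCat.of A))]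
variable {I : Ideal A} {F : ℕᵒᵖ ⥤ X.Modules}

/-- The transition maps on sections. -/
def sectTr (F : ℕᵒᵖ ⥤ X.Modules) (V : X.Opens) ⦃n m : ℕ⦄ (h : n ≤ m) :
    Γ(F.obj (op m), V) →ₗ[Γ(X, V)] Γ(F.obj (op n), V) :=
  QC70.appLinear (sysMap F h) V

omit [X.Over (Spec (CommRingCat.of A))] in
theorem sysMap_app_comp (F : ℕᵒᵖ ⥤ X.Modules) {l n m : ℕ} (h : l ≤ n) (h' : n ≤ m) (V : X.Opens)
    (x : Γ(F.obj (op m), V)) :
    (sysMap F h).app V ((sysMap F h').app V x) = (sysMap F (h.trans h')).app V x :=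
  congrArg (fun φ => (Scheme.Modules.Hom.app φ V) x) (sysMap_comp F h h')

omit [X.Over (Spec (CommRingCat.of A))] in
theorem sysMap_app_self (F : ℕᵒᵖ ⥤ X.Modules) (n : ℕ) (V : X.Opens) (x : Γ(F.obj (op n), V)) :
    (sysMap F (le_refl n)).app V x = x :=
  congrArg (fun φ => (Scheme.Modules.Hom.app φ V) x) (sysMap_self F n)

theorem gi_smul_eq_zero (hF : Formal.IsCohFormal I F) {V : X.Opens} (n : ℕ) {a : A} (ha : a ∈ I ^ (n + 1))
    (x : Γ(F.obj (op n), V)) : gi A X V a • x = 0 :=
  congrArg (fun φ => (Scheme.Modules.Hom.app φ V) x) (hF.2.1 n a ha)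

theorem smul_eq_zero_of_map {M : Type*} [AddCommGroup M] {R : Type*} [CommRing R] [Module R M] (f : A →+* R)
    (J : Ideal A) (x : M) (h : ∀ a ∈ J, f a • x = 0) {r : R} (hr : r ∈ J.map f) : r • x = 0 := by
  induction hr using Submodule.span_induction with
  | mem r hr =>
    obtain ⟨a, ha, rfl⟩ := hr
    exact h a ha
  | zero => exact zero_smul R x
  | add r s _ _ hr hs => rw [add_smul, hr, hs, add_zero]
  | smul c r _ hr => rw [smul_eq_mul, mul_smul, hr, smul_zero]

theorem isTower_sect (hF : Formal.IsCohFormal I F) {V : X.Opens} (hV : IsAffineOpen V) :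
    RelTower.IsTower (I.map (gi A X V)) (sectTr F V) where
  self n x := sysMap_app_self F n V x
  comp h h' x := sysMap_app_comp F h h' V x
  surj {n m} h := by
    haveI := epi_sysMap hF h
    haveI := (hF.1 n).1
    haveI := (hF.1 m).1
    exact app_surjective_of_epi (sysMap F h) hV
  kill n a ha x := by
    rw [← Ideal.map_pow] at ha
    exact smul_eq_zero_of_map _ _ x (fun b hb => gi_smul_eq_zero hF n hb x) ha
  ker {n m} h x hx := by
    rw [← IM_eq]
    exact sysMap_app_eq_zero (isQCohFormal hF) h hV hx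

theorem finite_sect (hF : Formal.IsCohFormal I F) {V : X.Opens} (hV : IsAffineOpen V) (n : ℕ) :
    Module.Finite Γ(X, V) Γ(F.obj (op n), V) := by
  haveI := (hF.1 n).1
  haveI := (hF.1 n).2
  exact QC70.finite_sections_of_isFiniteType _ hV

theorem app_mem_IM {M N : X.Modules} (φ : M ⟶ N) {J : Ideal A} {V : X.Opens} {x : Γ(M, V)} (hx : x ∈ IM M J V) :
    φ.app V x ∈ IM N J V := by
  refine IM_induction (p := fun x => φ.app V x ∈ IM N J V) hx (fun a ha m => ?_) (by rw [map_zero]; exact zero_mem _)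
    fun x y hx hy => by rw [map_add]; exact add_mem hx hy
  rw [Scheme.Modules.Hom.app_smul]
  exact smul_mem_IM ha _

theorem killedBy_of_le {J J' : Ideal A} (h : J ≤ J') {M : X.Modules} (hM : Formal.KilledBy J' M) :
    Formal.KilledBy J M := fun a ha => hM a (h ha)

end Groth.Agent.Algz14
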