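import Groth.Agent.Algz14.Completion
import Groth.Agent.S0797
import Groth.Agent.QCRes72.Basic

/-!
A coherent formal system on an affine scheme over a complete ring is a completion.
-/

set_option autoImplicit false
set_option linter.style.haveILetI false

universe u

open CategoryTheory CategoryTheory.Limits AlgebraicGeometry Opposite

noncomputable section

namespace Groth.Agent.Algz14

open Formal27

variable {A : Type u} [CommRing A]

/-- Global sections, with values in modules over `A`. -/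
def Γm (A : Type u) [CommRing A] : (Spec (CommRingCat.of A)).Modules ⥤ ModuleCat.{u} A :=
  moduleSpecΓFunctor (R := CommRingCat.of A)

/-- The tilde functor. -/
def Tm (A : Type u) [CommRing A] : ModuleCat.{u} A ⥤ (Spec (CommRingCat.of A)).Modules :=
  tilde.functor (CommRingCat.of A)

/-- The adjunction. -/
def adjm (A : Type u) [CommRing A] : Tm A ⊣ Γm A := tilde.adjunction (R := CommRingCat.of A)

instance isIso_unitm (A : Type u) [CommRing A] (T : ModuleCat.{u} A) : IsIso ((adjm A).unit.app T) := by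
  show IsIso ((tilde.toTildeΓNatIso (R := CommRingCat.of A)).hom.app T)
  infer_instance

theorem isQuasicoherent_Tm (A : Type u) [CommRing A] (T : ModuleCat.{u} A) : ((Tm A).obj T).IsQuasicoherent :=
  show (tilde (R := CommRingCat.of A) T).IsQuasicoherent from inferInstance

theorem isFiniteType_Tm_iff (A : Type u) [CommRing A] (T : ModuleCat.{u} A) :
    ((Tm A).obj T).IsFiniteType ↔ Module.Finite A T :=
  QCRes72.isFiniteType_tilde_iff (R := CommRingCat.of A) T

theorem isIso_counitm (A : Type u) [CommRing A] (N : (Spec (CommRingCat.of A)).Modules) (hN : N.IsQuasicoherent) :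
    IsIso ((adjm A).counit.app N) :=
  isIso_fromTilde N hN

local notation "ΓA" => Γm A

theorem map_zero_Γ (N Z : (Spec (CommRingCat.of A)).Modules) : (ΓA).map (0 : N ⟶ Z) = 0 := by
  haveI : (ΓA).IsRightAdjoint := (adjm A).isRightAdjoint
  exact Functor.map_zero _ _ _

theorem Γ_smulMod (N : (Spec (CommRingCat.of A)).Modules) (a : A) (x : (ΓA).obj N) :
    ((ΓA).map
      (@Formal.smulMod A _ (Spec (CommRingCat.of A)) ⟨𝟙 (Spec (CommRingCat.of A))⟩ N a)).hom x = a • x := by
  letI : (Spec (CommRingCat.of A)).Over (Spec (CommRingCat.of A)) := ⟨𝟙 (Spec (CommRingCat.of A))⟩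
  refine (Formal27.smulMod_app N a ⊤ x).trans ?_
  refine congrArg (fun r : Γ(Spec (CommRingCat.of A), ⊤) => r • (show Γ(N, ⊤) from x)) ?_
  show ((Spec (CommRingCat.of A)).presheaf.map _).hom _ = _
  simp [Coh.toGlobal]
  rfl

theorem hom_ext_Γ {N Z : (Spec (CommRingCat.of A)).Modules} [hN : N.IsQuasicoherent] {φ ψ : N ⟶ Z}
    (h : (ΓA).map φ = (ΓA).map ψ) : φ = ψ := by
  haveI := isIso_counitm A N hN
  exact (cancel_epi ((adjm A).counit.app N)).1
    (((adjm A).counit_naturality φ).symm.trans (((congrArg (fun t => (Tm A).map t ≫ _) h)).trans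
      ((adjm A).counit_naturality ψ)))

theorem exists_hom_Γ {N Z : (Spec (CommRingCat.of A)).Modules} [hN : N.IsQuasicoherent]
    (h : (ΓA).obj N ⟶ (ΓA).obj Z) : ∃ g : N ⟶ Z, (ΓA).map g = h := by
  haveI := isIso_counitm A N hN
  refine ⟨inv ((adjm A).counit.app N) ≫ (Tm A).map h ≫ (adjm A).counit.app Z, ?_⟩
  rw [Functor.map_comp, Functor.map_inv, IsIso.inv_comp_eq, Functor.map_comp]
  refine (cancel_epi ((adjm A).unit.app ((ΓA).obj N))).1 ?_
  rw [(adjm A).right_triangle_components_assoc]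
  exact ((adjm A).unit_naturality_assoc h _).trans
    ((congrArg (h ≫ ·) ((adjm A).right_triangle_components Z)).trans (Category.comp_id _))

theorem killedBy_Γ {J : Ideal A} {N : (Spec (CommRingCat.of A)).Modules}
    (h : @Formal.KilledBy A _ (Spec (CommRingCat.of A)) ⟨𝟙 (Spec (CommRingCat.of A))⟩ J N) :
    J • (⊤ : Submodule A ((ΓA).obj N)) = ⊥ := by
  refine eq_bot_iff.2 (Submodule.smul_le.2 fun a ha x _ => ?_)
  rw [Submodule.mem_bot, ← Γ_smulMod, h a ha, map_zero_Γ]
  rfl

omit [CommRing A] in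
theorem exists_quot {A : Type u} [CommRing A] (X : ModuleCat.{u} A) (J : Ideal A) :
    ∃ (T : ModuleCat.{u} A) (q : X ⟶ T), (∀ a ∈ J, ∀ y, q.hom (a • y) = 0) ∧
      ∀ x, q.hom x = 0 → x ∈ J • (⊤ : Submodule A X) :=
  ⟨ModuleCat.of A (X ⧸ J • (⊤ : Submodule A X)), ModuleCat.ofHom (J • (⊤ : Submodule A X)).mkQ,
    fun a ha y => (Submodule.Quotient.mk_eq_zero _).2 (Submodule.smul_mem_smul ha Submodule.mem_top),
    fun x hx => (Submodule.Quotient.mk_eq_zero _).1 hx⟩

theorem exists_desc {L X Q : ModuleCat.{u} A} (π : L ⟶ X) (g : L ⟶ Q) (hπ : Function.Surjective π.hom)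
    (hle : LinearMap.ker π.hom ≤ LinearMap.ker g.hom) : ∃ h : X ⟶ Q, π ≫ h = g := by
  refine ⟨ModuleCat.ofHom ((Submodule.liftQ _ g.hom hle).comp
    (LinearMap.quotKerEquivOfSurjective _ hπ).symm.toLinearMap), ModuleCat.hom_ext (LinearMap.ext fun x => ?_)⟩
  show Submodule.liftQ _ g.hom hle ((LinearMap.quotKerEquivOfSurjective _ hπ).symm (π.hom x)) = g.hom x
  rw [LinearMap.quotKerEquivOfSurjective_symm_apply]
  rfl

variable [IsNoetherianRing A]

theorem exists_limit (I : Ideal A) [IsAdicComplete I A] (M : ℕ → ModuleCat.{u} A)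
    [∀ n, Module.Finite A (M n)] (f : ∀ n, M (n + 1) ⟶ M n) (hf : ∀ n, Function.Surjective (f n).hom)
    (hk : ∀ n, I ^ (n + 1) • (⊤ : Submodule A (M n)) = ⊥)
    (hker : ∀ n, LinearMap.ker (f n).hom = I ^ (n + 1) • (⊤ : Submodule A (M (n + 1)))) :
    ∃ (L : ModuleCat.{u} A) (π : ∀ n, L ⟶ M n), Module.Finite A L ∧ (∀ n, π (n + 1) ≫ f n = π n) ∧
      ∀ n, Function.Surjective (π n).hom ∧ LinearMap.ker (π n).hom = I ^ (n + 1) • (⊤ : Submodule A L) := by
  let L : Submodule A (∀ n, M n) :=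
    { carrier := {x | ∀ n, (f n).hom (x (n + 1)) = x n}
      zero_mem' := fun n => map_zero _
      add_mem' := fun {x y} hx hy n => (map_add (f n).hom _ _).trans (congrArg₂ (· + ·) (hx n) (hy n))
      smul_mem' := fun c x hx n => (map_smul (f n).hom c _).trans (congrArg (c • ·) (hx n)) }
  obtain ⟨hfin, hπ⟩ := S0797.result A I (fun n => M n) (fun n => (f n).hom) hf hk hker L fun x => Iff.rfl
  exact ⟨ModuleCat.of A L, fun n => ModuleCat.ofHom ((LinearMap.proj n).comp L.subtype), hfin,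
    fun n => ModuleCat.hom_ext (LinearMap.ext fun x => x.2 n), hπ⟩

theorem exists_completion_iso (I : Ideal A) [IsAdicComplete I A] (G : ℕᵒᵖ ⥤ (Spec (CommRingCat.of A)).Modules)
    (hG : @Formal.IsCohFormal A _ (Spec (CommRingCat.of A)) ⟨𝟙 (Spec (CommRingCat.of A))⟩ I G) :
    ∃ N : (Spec (CommRingCat.of A)).Modules, Coh.IsCoh N ∧
      Nonempty (@Formal.completion A _ (Spec (CommRingCat.of A)) ⟨𝟙 (Spec (CommRingCat.of A))⟩ I N ≅ G) := by
  letI : (Spec (CommRingCat.of A)).Over (Spec (CommRingCat.of A)) := ⟨𝟙 (Spec (CommRingCat.of A))⟩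
  haveI hq : ∀ n : ℕ, (G.obj (op n)).IsQuasicoherent := fun n => (hG.1 n).1
  let M : ℕ → ModuleCat.{u} A := fun n => (ΓA).obj (G.obj (op n))
  let f : ∀ n, M (n + 1) ⟶ M n := fun n => (ΓA).map (tr G n)
  haveI : ∀ n, Module.Finite A (M n) := fun n => by
    let ε := @asIso _ _ _ _ _ (isIso_counitm A _ (hq n))
    have h : ((Tm A).obj ((ΓA).obj (G.obj (op n)))).IsFiniteType :=
      @QC70.isFiniteType_of_epi _ _ _ ε.inv inferInstance (hG.1 n).2
    exact (isFiniteType_Tm_iff A _).mp h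
  have hf : ∀ n, Function.Surjective (f n).hom := fun n =>
    Formal27.tr_app_surjective (G := G) hq (fun k => epi_tr (isQCohFormal hG) k) n (isAffineOpen_top _)
  have hk : ∀ n, I ^ (n + 1) • (⊤ : Submodule A (M n)) = ⊥ := fun n => killedBy_Γ (hG.2.1 n)
  have hker : ∀ n, LinearMap.ker (f n).hom = I ^ (n + 1) • (⊤ : Submodule A (M (n + 1))) := by
    intro n
    refine le_antisymm (fun x hx => ?_) (Submodule.smul_le.2 fun a ha x _ => ?_)
    · obtain ⟨T, q, hqa, hqx⟩ := exists_quot (M (n + 1)) (I ^ (n + 1))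
      obtain ⟨g, hg⟩ := exists_hom_Γ (N := G.obj (op (n + 1))) (Z := (Tm A).obj T) (q ≫ (adjm A).unit.app T)
      obtain ⟨v, hv⟩ := exists_factor_tr (isQCohFormal hG) (Nat.le_succ n) g fun a ha => by
        refine hom_ext_Γ (ModuleCat.hom_ext (LinearMap.ext fun y => ?_))
        rw [Functor.map_comp, map_zero_Γ]
        show ((ΓA).map g).hom (((ΓA).map (Formal.smulMod A (G.obj (op (n + 1))) a)).hom y) = 0
        rw [Γ_smulMod, hg]
        show ((adjm A).unit.app T).hom (q.hom (a • y)) = 0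
        rw [hqa a ha]
        exact map_zero _
      have h1 : ((adjm A).unit.app T).hom (q.hom x) = ((ΓA).map v).hom ((f n).hom x) := by
        have := congrArg (fun φ => ((ΓA).map φ).hom x) hv
        rw [hg] at this
        exact this.symm.trans (by rw [Functor.map_comp]; rfl)
      refine hqx x ((ConcreteCategory.bijective_of_isIso ((adjm A).unit.app T)).1 ?_)
      exact (h1.trans ((congrArg _ (show (f n).hom x = 0 from hx)).trans (map_zero _))).trans (map_zero _).symm
    · have hz : a • (f n).hom x = 0 :=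
        (Submodule.mem_bot A).1 ((hk n) ▸ Submodule.smul_mem_smul ha Submodule.mem_top)
      rw [LinearMap.mem_ker, map_smul, hz]
  obtain ⟨L, π, hfin, hcomp, hπ⟩ := exists_limit I M f hf hk hker
  let N := (Tm A).obj L
  have hN : Coh.IsCoh N := ⟨isQuasicoherent_Tm A L, (isFiniteType_Tm_iff A L).mpr hfin⟩
  haveI := hN.1
  haveI := hN.2
  let η : L ⟶ (ΓA).obj N := (adjm A).unit.app L
  haveI : IsIso η := isIso_unitm A L
  choose p hp using fun n => exists_hom_Γ (N := N) (Z := G.obj (op n)) (inv η ≫ π n)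
  have hpe : ∀ n, Epi (p n) := fun n => ⟨fun {Z} a b hab => by
    have : Epi ((ΓA).map (p n)) := by
      rw [hp]
      haveI : Epi (π n) := (ModuleCat.epi_iff_surjective _).2 (hπ n).1
      exact epi_comp _ _
    refine hom_ext_Γ ((cancel_epi ((ΓA).map (p n))).1 ?_)
    rw [← Functor.map_comp, ← Functor.map_comp, hab]⟩
  refine ⟨N, hN, completion_iso (G := G) N p (fun n => ?_) fun n => ?_⟩
  · refine hom_ext_Γ ?_
    rw [Functor.map_comp, hp, hp, Category.assoc]
    exact congrArg _ (hcomp n)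
  · have hz : Formal.smulFamily (I ^ (n + 1)) N ≫ p n = 0 := smulFamily_comp_eq_zero _ fun a ha => by
      rw [← smulMod_comp, hG.2.1 n a ha, comp_zero]
    haveI := isQuasicoherent_modPow N I (n + 1)
    let g : L ⟶ (ΓA).obj (Formal.modPow I (n + 1) N) := η ≫ (ΓA).map (Formal.modPowπ I (n + 1) N)
    have hle : LinearMap.ker (π n).hom ≤ LinearMap.ker g.hom := by
      rw [(hπ n).2]
      refine Submodule.smul_le.2 fun a ha y _ => ?_
      show ((ΓA).map (Formal.modPowπ I (n + 1) N)).hom (η.hom (a • y)) = 0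
      rw [map_smul η.hom, ← Γ_smulMod]
      have := congrArg (fun φ => ((ΓA).map φ).hom (η.hom y)) (smulMod_modPowπ I (n + 1) N ha)
      rw [map_zero_Γ] at this
      exact (show _ = _ by rw [Functor.map_comp]; rfl : _).trans this
    obtain ⟨h, hh⟩ := exists_desc (π n) g (hπ n).1 hle
    obtain ⟨v, hv⟩ := exists_hom_Γ (N := G.obj (op n)) h
    refine ⟨hz, @isIso_desc_of_factor _ _ _ _ _ _ _ _ _ hz (hpe n) v (hom_ext_Γ ?_)⟩
    exact ((ΓA).map_comp _ _).trans ((congrArg₂ (· ≫ ·) (hp n) hv).trans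
      ((Category.assoc _ _ _).trans ((congrArg _ hh).trans (IsIso.inv_hom_id_assoc η _))))

theorem exists_completion_iso_of_extends (U : (Spec (CommRingCat.of A)).Opens) (I : Ideal A) [IsAdicComplete I A]
    (G : ℕᵒᵖ ⥤ (U : Scheme.{u}).Modules)
    (h : @Algz.Extends A _ (Spec (CommRingCat.of A)) ⟨𝟙 (Spec (CommRingCat.of A))⟩ I U G) :
    ∃ F : (U : Scheme.{u}).Modules, Coh.IsCoh F ∧ Nonempty (Formal.completion I F ≅ G) := by
  obtain ⟨G', hG', ⟨e⟩⟩ := h
  letI : (Spec (CommRingCat.of A)).Over (Spec (CommRingCat.of A)) := ⟨𝟙 (Spec (CommRingCat.of A))⟩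
  obtain ⟨N, hN, ⟨e₁⟩⟩ := exists_completion_iso I G' hG'
  haveI := hN.1
  haveI := hN.2
  obtain ⟨e₂⟩ := completion_pullback U.ι (Category.comp_id _) I N
  exact ⟨(Scheme.Modules.pullback U.ι).obj N,
    ⟨QCPull72.isQuasicoherent_pullback _ _, QCPull72.isFiniteType_pullback _ _⟩,
    ⟨e₂ ≪≫ Functor.isoWhiskerRight e₁ _ ≪≫
      (Functor.isoWhiskerLeft G' (Scheme.Modules.restrictFunctorIsoPullback U.ι)).symm ≪≫ e⟩⟩

end Groth.Agent.Algz14
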