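import Groth.Agent.Algz14.FlatBC

/-!
Coherent formal systems under change of the base ring; flat base change of canonical extensions.
-/

set_option autoImplicit false
set_option linter.style.haveILetI false

universe u

open CategoryTheory CategoryTheory.Limits AlgebraicGeometry Opposite

noncomputable section

namespace Groth.Agent.Algz14

open Formal27

variable {A A' : Type u} [CommRing A] [CommRing A'] (φ : A →+* A')

theorem toGlobal_specMap (a : A) :
    Coh.toGlobal (specMap φ) a = Coh.toGlobal (𝟙 (Spec (CommRingCat.of A'))) (φ a) := by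
  have h := congrArg (fun t => t.hom a) (Scheme.ΓSpecIso_inv_naturality (CommRingCat.ofHom φ))
  simp only [Coh.toGlobal]
  exact h.symm

theorem smulMod_map (N : (Spec (CommRingCat.of A')).Modules) (a : A) :
    @Formal.smulMod A' _ (Spec (CommRingCat.of A')) ⟨𝟙 (Spec (CommRingCat.of A'))⟩ N (φ a) =
      @Formal.smulMod A _ (Spec (CommRingCat.of A')) ⟨specMap φ⟩ N a :=
  (congrArg (Formal.smulModΓ N) (toGlobal_specMap φ a)).symm

theorem smulMod_comp_eq_zero_of_map {I : Ideal A} {N Z : (Spec (CommRingCat.of A')).Modules} (g : N ⟶ Z)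
    (h : ∀ a ∈ I, @Formal.smulMod A _ (Spec (CommRingCat.of A')) ⟨specMap φ⟩ N a ≫ g = 0) :
    ∀ a' ∈ I.map φ,
      @Formal.smulMod A' _ (Spec (CommRingCat.of A')) ⟨𝟙 (Spec (CommRingCat.of A'))⟩ N a' ≫ g = 0 := by
  letI : (Spec (CommRingCat.of A')).Over (Spec (CommRingCat.of A')) := ⟨𝟙 (Spec (CommRingCat.of A'))⟩
  intro a' ha'
  induction ha' using Submodule.span_induction with
  | mem x hx =>
    obtain ⟨a, ha, rfl⟩ := hx
    rw [smulMod_map]
    exact h a ha
  | zero => rw [smulMod_zero, zero_comp]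
  | add x y _ _ hx hy => rw [smulMod_add, Preadditive.add_comp, hx, hy, add_zero]
  | smul c x _ hx => rw [smul_eq_mul, smulMod_mul, ← smulMod_comp, Category.assoc, hx, comp_zero]

/-- A formal system for `I` over `A` is one for `I A'` over `A'`. -/
theorem isCohFormal_map (I : Ideal A) (G : ℕᵒᵖ ⥤ (Spec (CommRingCat.of A')).Modules)
    (hG : @Formal.IsCohFormal A _ (Spec (CommRingCat.of A')) ⟨specMap φ⟩ I G) :
    @Formal.IsCohFormal A' _ (Spec (CommRingCat.of A')) ⟨𝟙 (Spec (CommRingCat.of A'))⟩ (I.map φ) G := by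
  have hmap : ∀ n, (I.map φ) ^ (n + 1) = (I ^ (n + 1)).map φ := fun n => (Ideal.map_pow φ I (n + 1)).symm
  refine ⟨hG.1, fun n a ha => ?_, fun n => ?_⟩
  · rw [hmap] at ha
    have := smulMod_comp_eq_zero_of_map φ (𝟙 (G.obj (op n)))
      (fun a ha => by rw [Category.comp_id]; exact hG.2.1 n a ha) a ha
    rwa [Category.comp_id] at this
  · obtain ⟨hz, hiso⟩ := hG.2.2 n
    let t := G.map (homOfLE (Nat.le_succ n)).op
    have hzA : ∀ a ∈ I ^ (n + 1), @Formal.smulMod A _ (Spec (CommRingCat.of A')) ⟨specMap φ⟩ (G.obj (op (n + 1))) a ≫ t = 0 :=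
      fun a ha => by
        letI : (Spec (CommRingCat.of A')).Over (Spec (CommRingCat.of A)) := ⟨specMap φ⟩
        rw [← smulMod_comp, hG.2.1 n a ha, comp_zero]
    have hz' : @Formal.smulFamily A' _ (Spec (CommRingCat.of A')) ⟨𝟙 (Spec (CommRingCat.of A'))⟩
        ((I.map φ) ^ (n + 1)) (G.obj (op (n + 1))) ≫ t = 0 :=
      letI : (Spec (CommRingCat.of A')).Over (Spec (CommRingCat.of A')) := ⟨𝟙 (Spec (CommRingCat.of A'))⟩
      smulFamily_comp_eq_zero _ fun a ha => smulMod_comp_eq_zero_of_map φ t hzA a (hmap n ▸ ha)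
    refine ⟨hz', ?_⟩
    let π' := cokernel.π (@Formal.smulFamily A' _ (Spec (CommRingCat.of A')) ⟨𝟙 (Spec (CommRingCat.of A'))⟩
        ((I.map φ) ^ (n + 1)) (G.obj (op (n + 1))))
    have hπ : ∀ a ∈ I ^ (n + 1),
        @Formal.smulMod A _ (Spec (CommRingCat.of A')) ⟨specMap φ⟩ (G.obj (op (n + 1))) a ≫ π' = 0 := fun a ha => by
      rw [← smulMod_map]
      letI : (Spec (CommRingCat.of A')).Over (Spec (CommRingCat.of A')) := ⟨𝟙 (Spec (CommRingCat.of A'))⟩
      exact smulMod_modPowπ (I.map φ) (n + 1) _ (hmap n ▸ Ideal.mem_map_of_mem φ ha)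
    have hπ' : @Formal.smulFamily A _ (Spec (CommRingCat.of A')) ⟨specMap φ⟩ (I ^ (n + 1)) (G.obj (op (n + 1))) ≫ π' = 0 :=
      letI : (Spec (CommRingCat.of A')).Over (Spec (CommRingCat.of A)) := ⟨specMap φ⟩
      smulFamily_comp_eq_zero _ hπ
    haveI := hiso
    have ht : t = cokernel.π _ ≫ cokernel.desc _ _ hz := (cokernel.π_desc _ _ _).symm
    haveI : Epi t := by
      rw [ht]
      exact @epi_comp _ _ _ _ _ _ inferInstance _ (@IsIso.epi_of_iso _ _ _ _ _ hiso)
    refine @isIso_desc_of_factor _ _ _ _ _ _ _ _ _ hz' (inferInstanceAs (Epi t))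
      (inv (cokernel.desc _ _ hz) ≫ cokernel.desc _ π' hπ') ?_
    exact (congrArg (· ≫ _) ht).trans ((Category.assoc _ _ _).trans
      ((congrArg (cokernel.π _ ≫ ·) (IsIso.hom_inv_id_assoc _ _)).trans (cokernel.π_desc _ _ _)))

variable [IsNoetherianRing A] (U : (Spec (CommRingCat.of A)).Opens)

omit [IsNoetherianRing A] in
/-- The inverse image of a coherent formal system. -/
theorem isCohFormal_pullback_map (I : Ideal A) (G : ℕᵒᵖ ⥤ (Spec (CommRingCat.of A)).Modules)
    (hG : @Formal.IsCohFormal A _ (Spec (CommRingCat.of A)) ⟨𝟙 (Spec (CommRingCat.of A))⟩ I G) :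
    @Formal.IsCohFormal A' _ (Spec (CommRingCat.of A')) ⟨𝟙 (Spec (CommRingCat.of A'))⟩ (I.map φ)
      (G ⋙ Scheme.Modules.pullback (specMap φ)) := by
  refine isCohFormal_map φ I _ ?_
  letI : (Spec (CommRingCat.of A')).Over (Spec (CommRingCat.of A)) := ⟨specMap φ⟩
  letI : (Spec (CommRingCat.of A)).Over (Spec (CommRingCat.of A)) := ⟨𝟙 (Spec (CommRingCat.of A))⟩
  refine Formal27.isCohFormal_pullback (specMap φ) (Category.comp_id _) G hG fun n => ?_
  haveI := (hG.1 n).1
  haveI := (hG.1 n).2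
  exact ⟨QCPull72.isQuasicoherent_pullback _ _, QCPull72.isFiniteType_pullback _ _⟩

/-- Canonical extensions pass to flat base changes. -/
theorem canonicallyExtends_baseChange (hφ : φ.Flat) (I : Ideal A) (G : ℕᵒᵖ ⥤ (U : Scheme.{u}).Modules)
    (hq : ∀ n, (G.obj n).IsQuasicoherent) (h : Algz.CanonicallyExtends A I U G) :
    Algz.CanonicallyExtends A' (I.map φ) (specMap φ ⁻¹ᵁ U) (G ⋙ Scheme.Modules.pullback (specMap φ ∣_ U)) := by
  obtain ⟨G', hG', hpro⟩ := h
  refine ⟨G' ⋙ Scheme.Modules.pullback (specMap φ), isCohFormal_pullback_map φ I G' hG', ?_⟩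
  let e : Algz.sectSys A U G ⋙ Scheme.Modules.pullback (specMap φ) ≅
      Algz.sectSys A' (specMap φ ⁻¹ᵁ U) (G ⋙ Scheme.Modules.pullback (specMap φ ∣_ U)) :=
    Functor.associator _ _ _ ≪≫
      Functor.isoWhiskerLeft (Algz.sectMod A U G) (TildePull72.pullbackTildeIso (CommRingCat.ofHom φ)) ≪≫
      (Functor.associator _ _ _).symm ≪≫ Functor.isoWhiskerRight (sectBCIso φ U hφ G hq) _
  exact isProIsomorphic_map (Scheme.Modules.pullback (specMap φ)) e (Iso.refl _) hpro

end Groth.Agent.Algz14
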