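import Groth.Agent.Algz14.RelAlg

/-!
Helpers for instances of the algebraization of related systems.
-/

set_option autoImplicit false
set_option linter.style.haveILetI false
set_option linter.unusedSectionVars false

universe u

open CategoryTheory CategoryTheory.Limits AlgebraicGeometry Opposite

noncomputable section

namespace Groth.Agent.Algz14

open Formal27

section General

variable {X : Scheme.{u}}

theorem exists_app_eq_of_cokernel_π {M N : X.Modules} (φ : M ⟶ N) [M.IsQuasicoherent] [N.IsQuasicoherent]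
    {V : X.Opens} (hV : IsAffineOpen V) {y : Γ(N, V)} (hy : (cokernel.π φ).app V y = 0) :
    ∃ x, φ.app V x = y := by
  haveI := QC70.isQuasicoherent_abelianImage φ
  obtain ⟨z, hz⟩ := QC70.exists_kernel_app_eq (cokernel.π φ) V y hy
  obtain ⟨x, hx⟩ := app_surjective_of_epi (Abelian.factorThruImage φ) hV z
  refine ⟨x, ?_⟩
  refine (congrArg (fun f => (Scheme.Modules.Hom.app f V) x) (Abelian.image.fac φ)).symm.trans ?_
  exact (congrArg ((Abelian.image.ι φ).app V) hx).trans hz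

end General

variable {A : Type u} [CommRing A] {X : Scheme.{u}} [X.Over (Spec (CommRingCat.of A))]
variable {I : Ideal A}

theorem gi_smul_eq_zero_of_killed {K : X.Modules} {J : Ideal A} (hK : Formal.KilledBy J K) {V : X.Opens} {a : A}
    (ha : a ∈ J) (x : Γ(K, V)) : gi A X V a • x = 0 :=
  congrArg (fun φ => (Scheme.Modules.Hom.app φ V) x) (hK a ha)

theorem smul_ker_eq_zero {M N : X.Modules} (φ : M ⟶ N) {J : Ideal A} (hK : Formal.KilledBy J (kernel φ))
    {V : X.Opens} {a : A} (ha : a ∈ J) (x : Γ(M, V)) (hx : φ.app V x = 0) : gi A X V a • x = 0 := by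
  obtain ⟨z, rfl⟩ := QC70.exists_kernel_app_eq φ V x hx
  rw [← Scheme.Modules.Hom.app_smul, gi_smul_eq_zero_of_killed hK ha z, map_zero]

theorem exists_app_eq_smul {M N : X.Modules} (φ : M ⟶ N) [M.IsQuasicoherent] [N.IsQuasicoherent] {J : Ideal A}
    (hC : Formal.KilledBy J (cokernel φ)) {V : X.Opens} (hV : IsAffineOpen V) {a : A} (ha : a ∈ J) (y : Γ(N, V)) :
    ∃ x, φ.app V x = gi A X V a • y := by
  refine exists_app_eq_of_cokernel_π φ hV ?_
  rw [Scheme.Modules.Hom.app_smul]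
  exact gi_smul_eq_zero_of_killed hC ha _

theorem completion_map_π (M : X.Modules) {n m : ℕ} (h : n ≤ m) :
    Formal.modPowπ I (m + 1) M ≫ sysMap (Formal.completion I M) h = Formal.modPowπ I (n + 1) M := by
  induction m, h using Nat.le_induction with
  | base =>
    rw [sysMap_self]
    exact Category.comp_id _
  | succ m h ih =>
    rw [← sysMap_comp (Formal.completion I M) h (Nat.le_succ m)]
    refine (Category.assoc _ _ _).symm.trans ((congrArg (· ≫ sysMap (Formal.completion I M) h) ?_).trans ih)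
    exact (congrArg (Formal.modPowπ I (m + 1 + 1) M ≫ ·) (Functor.ofOpSequence_map_homOfLE_succ _ m)).trans
      (Formal.modPowπ_trans I (m + 1) M)

namespace RelData

variable (d : RelData I X) {V : X.Opens}

theorem rel_mono {n m : ℕ} (h : n ≤ m) (y : Γ(d.F.obj (op m), V)) (g : Γ(d.G, V)) (hy : (y, g) ∈ d.rel V m) :
    (sectTr d.F V h y, g) ∈ d.rel V n := by
  have h1 : (d.μ.app (op m)).app V y = (d.ν m).app V g := hy
  change (d.μ.app (op n)).app V ((sysMap d.F h).app V y) = (d.ν n).app V g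
  refine (congrArg (fun φ => (Scheme.Modules.Hom.app φ V) y) (d.μ_comp h)).symm.trans ?_
  change (sysMap d.B h).app V ((d.μ.app (op m)).app V y) = (d.ν n).app V g
  rw [h1]
  exact congrArg (fun φ => (Scheme.Modules.Hom.app φ V) g) (d.hν h)

theorem rel_zero (hν0 : ∀ n, ∀ a ∈ I ^ (n + 1), ∀ g, (d.ν n).app V (gi A X V a • g) = 0) (n : ℕ)
    {g : Γ(d.G, V)} (hg : g ∈ I.map (gi A X V) ^ (n + 1) • (⊤ : Submodule Γ(X, V) Γ(d.G, V))) :
    ((0 : Γ(d.F.obj (op n), V)), g) ∈ d.rel V n := by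
  change (d.μ.app (op n)).app V 0 = (d.ν n).app V g
  rw [map_zero]
  rw [← IM_eq] at hg
  exact (IM_induction (p := fun g => (d.ν n).app V g = 0) hg (fun a ha m => hν0 n a ha m) (map_zero _)
    fun x y hx hy => by rw [map_add, hx, hy, add_zero]).symm

theorem rel_ker {c : ℕ} (hk : ∀ n, ∀ a ∈ I ^ c, ∀ y, (d.μ.app (op n)).app V y = 0 → gi A X V a • y = 0) (n : ℕ)
    (y : Γ(d.F.obj (op n), V)) (hy : (y, (0 : Γ(d.G, V))) ∈ d.rel V n) {r : Γ(X, V)}
    (hr : r ∈ I.map (gi A X V) ^ c) : r • y = 0 := by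
  rw [← Ideal.map_pow] at hr
  have h1 : (d.μ.app (op n)).app V y = (d.ν n).app V 0 := hy
  rw [map_zero] at h1
  exact smul_eq_zero_of_map _ _ y (fun a ha => hk n a ha y h1) hr

theorem rel_coker {c : ℕ} (hc : ∀ n, ∀ a ∈ I ^ c, ∀ g, ∃ y, (d.μ.app (op n)).app V y = (d.ν n).app V (gi A X V a • g))
    (n : ℕ) (g : Γ(d.G, V)) {r : Γ(X, V)} (hr : r ∈ I.map (gi A X V) ^ c) :
    ∃ y, (y, r • g) ∈ d.rel V n := by
  rw [← Ideal.map_pow] at hr
  have h2 : ∀ h : Γ(d.G, V), h ∈ IM d.G (I ^ c) V → ∃ y, (y, h) ∈ d.rel V n := fun h hh => by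
    refine IM_induction (p := fun h => ∃ y, (y, h) ∈ d.rel V n) hh (fun a ha m => hc n a ha m)
      ⟨0, zero_mem _⟩ fun x x' ⟨y, hy⟩ ⟨y', hy'⟩ => ⟨y + y', add_mem hy hy'⟩
  exact h2 _ (Submodule.smul_mem_smul hr Submodule.mem_top)

end RelData

end Groth.Agent.Algz14
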