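import Groth.Agent.Algz14.Gen
import Groth.Agent.Algz14.Existence

/-!
The limit of sections of a system: topology of the limit and canonical extensions (rows S9533, S9534).
-/

set_option autoImplicit false
set_option linter.style.haveILetI false

universe u

open CategoryTheory CategoryTheory.Limits AlgebraicGeometry Opposite

noncomputable section

namespace Groth.Agent.Algz14

section Modules

variable {R : Type u} [CommRing R] {X Y : ℕᵒᵖ ⥤ ModuleCat.{u} R}

theorem cone_w (c : Cone X) {i j : ℕ} (h : i ≤ j) (z : c.pt) :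
    (X.map (homOfLE h).op).hom ((c.π.app (op j)).hom z) = (c.π.app (op i)).hom z :=
  congrArg (fun φ => φ.hom z) (c.w (homOfLE h).op)

theorem limit_elt_ext {c : Cone X} (hc : IsLimit c) {z z' : c.pt}
    (h : ∀ k, (c.π.app (op k)).hom z = (c.π.app (op k)).hom z') : z = z' := by
  have e : ModuleCat.ofHom (LinearMap.toSpanSingleton R c.pt z) =
      ModuleCat.ofHom (LinearMap.toSpanSingleton R c.pt z') :=
    hc.hom_ext fun k => ModuleCat.hom_ext (LinearMap.ext fun r => by
      show (c.π.app k).hom (r • z) = (c.π.app k).hom (r • z')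
      rw [map_smul, map_smul]
      exact congrArg (r • ·) (h k.unop))
  have := congrArg (fun φ : ModuleCat.of R R ⟶ c.pt => φ.hom (1 : R)) e
  exact (one_smul R z).symm.trans ((this : _).trans (one_smul R z'))

theorem exists_limit_elt {c : Cone X} (hc : IsLimit c) (y : ∀ k, X.obj (op k))
    (hy : ∀ {i j : ℕ} (h : i ≤ j), (X.map (homOfLE h).op).hom (y j) = y i) :
    ∃ z : c.pt, ∀ k, (c.π.app (op k)).hom z = y k := by
  let d : Cone X :=
    { pt := ModuleCat.of R R
      π :=
        { app := fun k => ModuleCat.ofHom (LinearMap.toSpanSingleton R _ (y k.unop))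
          naturality := fun j k f => ModuleCat.hom_ext (LinearMap.ext fun r => by
            show r • y k.unop = (X.map f).hom (r • y j.unop)
            rw [map_smul]
            exact congrArg (r • ·) (hy (leOfHom f.unop)).symm) } }
  refine ⟨(hc.lift d).hom (1 : R), fun k => ?_⟩
  refine (congrArg (fun φ => φ.hom (1 : R)) (hc.fac d (op k))).trans ?_
  exact one_smul R _

theorem ker_limit_le (J : ℕ → Ideal R) (h : Algz.IsProIsomorphic X Y) {cX : Cone X} (hX : IsLimit cX)
    {cY : Cone Y} (hY : IsLimit cY)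
    (hker : ∀ k, LinearMap.ker (cY.π.app (op k)).hom ≤ J k • (⊤ : Submodule R cY.pt)) (k : ℕ) :
    ∃ n, LinearMap.ker (cX.π.app (op n)).hom ≤ J k • (⊤ : Submodule R cX.pt) := by
  obtain ⟨m, hm, hle, a, hnat, ha⟩ := exists_data h
  let d : Cone Y :=
    { pt := cX.pt
      π :=
        { app := fun j => cX.π.app (op (m j.unop)) ≫ a j.unop
          naturality := fun i j f => by
            show 𝟙 _ ≫ cX.π.app (op (m j.unop)) ≫ a j.unop = (cX.π.app (op (m i.unop)) ≫ a i.unop) ≫ Y.map f
            have e := hnat (leOfHom f.unop)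
            rw [Category.id_comp, Category.assoc]
            refine Eq.trans ?_ (congrArg _ e)
            rw [← Category.assoc, cX.w] } }
  let φ : cX.pt ⟶ cY.pt := hY.lift d
  have hφ : ∀ j z, (cY.π.app (op j)).hom (φ.hom z) = (a j).hom ((cX.π.app (op (m j))).hom z) := fun j z =>
    congrArg (fun t => t.hom z) (hY.fac d (op j))
  choose m' hm' b hb₁ hb₂ using ha
  have hinj : Function.Injective φ.hom := (injective_iff_map_eq_zero φ.hom).2 fun z hz => limit_elt_ext hX fun i => by
    rw [map_zero]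
    have e1 := hφ (m' i) z
    rw [hz, map_zero] at e1
    have e2 := congrArg (fun t => t.hom ((cX.π.app (op (m (m' i)))).hom z)) (hb₁ i)
    change (b i).hom ((a (m' i)).hom _) = _ at e2
    rw [← e1, map_zero, cone_w] at e2
    rw [← cone_w cX (hle i), ← e2, map_zero]
  have hsurj : Function.Surjective φ.hom := by
    intro y
    let x : ∀ i, X.obj (op i) := fun i => (X.map (homOfLE (hle i)).op).hom ((b i).hom ((cY.π.app (op (m' i))).hom y))
    have key : ∀ i M, m' i ≤ M → ∀ z, (a M).hom z = (cY.π.app (op M)).hom y → ∀ h : i ≤ m M,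
        x i = (X.map (homOfLE h).op).hom z := by
      intro i M hM z hz h
      have e1 : (a (m' i)).hom ((X.map (homOfLE (hm hM)).op).hom z) = (cY.π.app (op (m' i))).hom y := by
        rw [← cone_w cY hM, ← hz]
        exact congrArg (fun t => t.hom z) (hnat hM)
      have e2 := congrArg (fun t => t.hom ((X.map (homOfLE (hm hM)).op).hom z)) (hb₁ i)
      change (b i).hom ((a (m' i)).hom _) = _ at e2
      rw [e1] at e2
      show (X.map (homOfLE (hle i)).op).hom ((b i).hom ((cY.π.app (op (m' i))).hom y)) = _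
      rw [e2, map_tr_comp, map_tr_comp]
    have lift : ∀ M, ∃ z, (a M).hom z = (cY.π.app (op M)).hom y := fun M => by
      refine ⟨(b M).hom ((cY.π.app (op (m' M))).hom y), ?_⟩
      exact (congrArg (fun t => t.hom ((cY.π.app (op (m' M))).hom y)) (hb₂ M)).trans (cone_w cY (hm' M) y)
    obtain ⟨w, hw⟩ := exists_limit_elt hX x fun {i j} h => by
      obtain ⟨z, hz⟩ := lift (max (m' i) (m' j))
      have hi : i ≤ m (max (m' i) (m' j)) := (hm' i).trans ((le_max_left _ _).trans (hle _))
      have hj : j ≤ m (max (m' i) (m' j)) := (hm' j).trans ((le_max_right _ _).trans (hle _))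
      rw [key i _ (le_max_left _ _) z hz hi, key j _ (le_max_right _ _) z hz hj]
      exact map_tr_comp X h hj z
    refine ⟨w, limit_elt_ext hY fun j => ?_⟩
    rw [hφ, hw]
    obtain ⟨z, hz⟩ := lift (max (m' (m j)) j)
    rw [key (m j) _ (le_max_left _ _) z hz (hm (le_max_right _ _))]
    rw [← cone_w cY (le_max_right (m' (m j)) j) y, ← hz]
    exact congrArg (fun t => t.hom z) (hnat (le_max_right (m' (m j)) j))
  refine ⟨m k, fun z hz => ?_⟩
  have h1 : φ.hom z ∈ J k • (⊤ : Submodule R cY.pt) := hker k (by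
    rw [LinearMap.mem_ker, hφ, LinearMap.mem_ker.1 hz, map_zero])
  rw [← LinearMap.range_eq_top.2 hsurj, ← Submodule.map_top, ← Submodule.map_smul''] at h1
  obtain ⟨w, hw, hwz⟩ := h1
  rwa [← hinj hwz]

theorem limit_w (X : ℕᵒᵖ ⥤ ModuleCat.{u} R) {i j : ℕ} (h : i ≤ j) (z : ↑(limit X)) :
    (X.map (homOfLE h).op).hom ((limit.π X (op j)).hom z) = (limit.π X (op i)).hom z :=
  congrArg (fun φ => φ.hom z) (limit.w X (homOfLE h).op)

theorem liftQ_quotKerEquivRange_symm {M N P : Type*} [AddCommGroup M] [Module R M] [AddCommGroup N] [Module R N]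
    [AddCommGroup P] [Module R P] (f : M →ₗ[R] N) (g : M →ₗ[R] P) (h : LinearMap.ker f ≤ LinearMap.ker g) (x : M)
    (y : LinearMap.range f) (hy : f x = y.1) :
    Submodule.liftQ (LinearMap.ker f) g h (f.quotKerEquivRange.symm y) = g x := by
  have e : y = ⟨f x, LinearMap.mem_range_self f x⟩ := Subtype.ext hy.symm
  subst e
  exact (congrArg _ (f.quotKerEquivRange_symm_apply_image x (LinearMap.mem_range_self f x))).trans
    (Submodule.liftQ_apply _ _ _)

end Modules

variable {A : Type u} [CommRing A]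

theorem mem_smul_top_of_mem_IM {N : (Spec (CommRingCat.of A)).Modules} {J : Ideal A} {x : (Γm A).obj N}
    (hx : (show Γ(N, ⊤) from x) ∈
      @Formal27.IM A _ (Spec (CommRingCat.of A)) ⟨𝟙 (Spec (CommRingCat.of A))⟩ N J ⊤) :
    x ∈ J • (⊤ : Submodule A ((Γm A).obj N)) := by
  letI : (Spec (CommRingCat.of A)).Over (Spec (CommRingCat.of A)) := ⟨𝟙 (Spec (CommRingCat.of A))⟩
  refine Formal27.IM_induction (p := fun y => (show (Γm A).obj N from y) ∈ J • (⊤ : Submodule A ((Γm A).obj N))) hx
    (fun a ha y => ?_) (zero_mem _) fun y z hy hz => add_mem hy hz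
  have e : (show (Γm A).obj N from Formal27.gi A (Spec (CommRingCat.of A)) ⊤ a • y) =
      a • (show (Γm A).obj N from y) := Γ_smulMod N a y
  rw [e]
  exact Submodule.smul_mem_smul ha Submodule.mem_top

variable [IsNoetherianRing A] (U : (Spec (CommRingCat.of A)).Opens)

theorem exists_ker_limit_le (I : Ideal A) (G : ℕᵒᵖ ⥤ (U : Scheme.{u}).Modules)
    (h : Algz.CanonicallyExtends A I U G) (k : ℕ) :
    ∃ n : ℕ, LinearMap.ker (limit.π (Algz.sectMod A U G) (op n)).hom ≤
      I ^ k • (⊤ : Submodule A ↑(limit (Algz.sectMod A U G))) := by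
  obtain ⟨G', hG', hpro⟩ := h
  letI : (Spec (CommRingCat.of A)).Over (Spec (CommRingCat.of A)) := ⟨𝟙 (Spec (CommRingCat.of A))⟩
  let M : ℕᵒᵖ ⥤ ModuleCat.{u} A := Algz.sectMod A U G
  let eX : (M ⋙ Tm A) ⋙ Γm A ≅ M :=
    Functor.associator _ _ _ ≪≫ Functor.isoWhiskerLeft M (tilde.toTildeΓNatIso (R := CommRingCat.of A)).symm ≪≫
      Functor.rightUnitor M
  have h1 : Algz.IsProIsomorphic M (G' ⋙ Γm A) :=
    isProIsomorphic_map (X := M ⋙ Tm A) (Γm A) eX (Iso.refl _) hpro
  haveI : (Γm A).IsRightAdjoint := (adjm A).isRightAdjoint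
  haveI : PreservesLimitsOfSize.{0, 0} (Γm A) := inferInstance
  obtain ⟨n, hn⟩ := ker_limit_le (fun j => I ^ (j + 1)) h1 (limit.isLimit M)
    (isLimitOfPreserves (Γm A) (limit.isLimit G')) (fun j x hx => mem_smul_top_of_mem_IM
      (Formal27.mem_IM_limit (isQCohFormal hG') (IsNoetherian.noetherian I) (isAffineOpen_top _) hx)) k
  exact ⟨n, hn.trans (Submodule.smul_mono_left (Ideal.pow_le_pow_right k.le_succ))⟩

theorem map_unit_counit {C D : Type*} [Category C] [Category D] {F : C ⥤ D} {G : D ⥤ C} (adj : F ⊣ G) {M : C} {N : D}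
    (π : F.obj M ⟶ N) : F.map (adj.unit.app M ≫ G.map π) ≫ adj.counit.app N = π := by
  rw [Functor.map_comp, Category.assoc]
  exact (congrArg _ (adj.counit.naturality π)).trans (adj.left_triangle_components_assoc _ _)

section ModuleSystem

omit [IsNoetherianRing A] in
/-- The tilde system of an adic system of finite modules is coherent formal. -/
theorem isCohFormal_tilde (I : Ideal A) (T : ℕᵒᵖ ⥤ ModuleCat.{u} A) (hfin : ∀ n, Module.Finite A (T.obj (op n)))
    (hk : ∀ n, ∀ a ∈ I ^ (n + 1), ∀ x : T.obj (op n), a • x = 0)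
    (hs : ∀ n, Function.Surjective (T.map (homOfLE (Nat.le_succ n)).op).hom)
    (hker : ∀ n, LinearMap.ker (T.map (homOfLE (Nat.le_succ n)).op).hom ≤
      I ^ (n + 1) • (⊤ : Submodule A (T.obj (op (n + 1))))) :
    @Formal.IsCohFormal A _ (Spec (CommRingCat.of A)) ⟨𝟙 (Spec (CommRingCat.of A))⟩ I (T ⋙ Tm A) := by
  letI : (Spec (CommRingCat.of A)).Over (Spec (CommRingCat.of A)) := ⟨𝟙 (Spec (CommRingCat.of A))⟩
  haveI hq : ∀ n : ℕ, ((Tm A).obj (T.obj (op n))).IsQuasicoherent := fun n => isQuasicoherent_Tm A _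
  refine ⟨fun n => ⟨hq n, (isFiniteType_Tm_iff A _).mpr (hfin n)⟩, fun n a ha => ?_, fun n => ?_⟩
  · refine hom_ext_Γ (N := (Tm A).obj (T.obj (op n))) (ModuleCat.hom_ext (LinearMap.ext fun y => ?_))
    rw [map_zero_Γ]
    refine (Γ_smulMod _ a y).trans ?_
    obtain ⟨x, rfl⟩ := (ConcreteCategory.bijective_of_isIso ((adjm A).unit.app (T.obj (op n)))).2 y
    show a • ((adjm A).unit.app (T.obj (op n))).hom x = 0
    rw [← map_smul, hk n a ha, map_zero]
  · let t := T.map (homOfLE (Nat.le_succ n)).op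
    have hz : Formal.smulFamily (I ^ (n + 1)) ((Tm A).obj (T.obj (op (n + 1)))) ≫ (Tm A).map t = 0 :=
      Formal27.smulFamily_comp_eq_zero _ fun a ha => by
        refine hom_ext_Γ (N := (Tm A).obj (T.obj (op (n + 1)))) (ModuleCat.hom_ext (LinearMap.ext fun y => ?_))
        rw [Functor.map_comp, map_zero_Γ]
        show ((Γm A).map ((Tm A).map t)).hom (((Γm A).map (Formal.smulMod A _ a)).hom y) = 0
        obtain ⟨x, rfl⟩ := (ConcreteCategory.bijective_of_isIso ((adjm A).unit.app (T.obj (op (n + 1))))).2 y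
        rw [Γ_smulMod]
        show ((Γm A).map ((Tm A).map t)).hom (a • ((adjm A).unit.app (T.obj (op (n + 1)))).hom x) = 0
        rw [← map_smul]
        refine (congrArg (fun φ => φ.hom (a • x)) ((adjm A).unit.naturality t).symm).trans ?_
        show ((adjm A).unit.app (T.obj (op n))).hom (t.hom (a • x)) = 0
        rw [map_smul t.hom, hk n a ha, map_zero]
    refine ⟨hz, ?_⟩
    haveI := Formal27.isQuasicoherent_modPow ((Tm A).obj (T.obj (op (n + 1)))) I (n + 1)
    let π := Formal.modPowπ I (n + 1) ((Tm A).obj (T.obj (op (n + 1))))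
    let g : T.obj (op (n + 1)) ⟶ (Γm A).obj (Formal.modPow I (n + 1) ((Tm A).obj (T.obj (op (n + 1))))) :=
      (adjm A).unit.app _ ≫ (Γm A).map π
    have hle : LinearMap.ker t.hom ≤ LinearMap.ker g.hom := by
      refine (hker n).trans (Submodule.smul_le.2 fun a ha y _ => ?_)
      show ((Γm A).map π).hom (((adjm A).unit.app (T.obj (op (n + 1)))).hom (a • y)) = 0
      rw [map_smul, ← Γ_smulMod]
      have := congrArg (fun φ => ((Γm A).map φ).hom (((adjm A).unit.app (T.obj (op (n + 1)))).hom y))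
        (Formal27.smulMod_modPowπ I (n + 1) ((Tm A).obj (T.obj (op (n + 1)))) ha)
      rw [map_zero_Γ] at this
      exact (show _ = _ by rw [Functor.map_comp]; rfl : _).trans this
    obtain ⟨h, hh⟩ := exists_desc t g (hs n) hle
    haveI : Epi t := (ModuleCat.epi_iff_surjective _).2 (hs n)
    haveI := Functor.preservesEpimorphisms_of_adjunction (adjm A)
    refine @Formal27.isIso_desc_of_factor _ _ _ _ _ _ _ _ _ hz (inferInstanceAs (Epi ((Tm A).map t)))
      ((Tm A).map h ≫ (adjm A).counit.app _) ?_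
    refine (Category.assoc _ _ _).symm.trans ?_
    refine (congrArg (· ≫ _) ((CategoryTheory.Functor.map_comp (Tm A) t h).symm.trans (congrArg (Tm A).map hh))).trans ?_
    exact map_unit_counit (adjm A) π

variable {R : Type u} [CommRing R]

/-- The transition map `M / I^(n+1) M → M / I^(m+1) M`. -/
def quotTr (I : Ideal R) (M : Type u) [AddCommGroup M] [Module R M] {m n : ℕ} (h : m ≤ n) :
    Formal2.quotPow R I M n →ₗ[R] Formal2.quotPow R I M m :=
  Submodule.liftQ _ (Formal2.quotPowπ R I M m) (by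
    rw [Submodule.ker_mkQ]
    exact Submodule.smul_mono_left (Ideal.pow_le_pow_right (Nat.add_le_add_right h 1)))

theorem quotTr_apply (I : Ideal R) (M : Type u) [AddCommGroup M] [Module R M] {m n : ℕ} (h : m ≤ n) (z : M) :
    quotTr I M h (Formal2.quotPowπ R I M n z) = Formal2.quotPowπ R I M m z :=
  Submodule.liftQ_apply _ _ _

theorem quotTr_id (I : Ideal R) (M : Type u) [AddCommGroup M] [Module R M] {n : ℕ} (h : n ≤ n) :
    quotTr I M h = LinearMap.id :=
  Submodule.linearMap_qext _ (LinearMap.ext fun z => quotTr_apply I M h z)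

theorem quotTr_comp (I : Ideal R) (M : Type u) [AddCommGroup M] [Module R M] {l m n : ℕ} (h : l ≤ m) (h' : m ≤ n)
    (h'' : l ≤ n) : quotTr I M h'' = (quotTr I M h).comp (quotTr I M h') :=
  Submodule.linearMap_qext _ (LinearMap.ext fun z => by
    show quotTr I M h'' (Formal2.quotPowπ R I M n z) = quotTr I M h (quotTr I M h' (Formal2.quotPowπ R I M n z))
    rw [quotTr_apply, quotTr_apply, quotTr_apply])

/-- The system `M / I^(n+1) M`. -/
def quotSys (I : Ideal R) (M : Type u) [AddCommGroup M] [Module R M] : ℕᵒᵖ ⥤ ModuleCat.{u} R where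
  obj n := ModuleCat.of R (Formal2.quotPow R I M n.unop)
  map {i j} f := ModuleCat.ofHom (quotTr I M (leOfHom f.unop))
  map_id i := ModuleCat.hom_ext (quotTr_id I M (leOfHom (𝟙 i : i ⟶ i).unop))
  map_comp f g := ModuleCat.hom_ext (quotTr_comp I M (leOfHom g.unop) (leOfHom f.unop) (leOfHom (f ≫ g).unop))

theorem proIso_quotSys (I : Ideal R) (X : ℕᵒᵖ ⥤ ModuleCat.{u} R) (hkill : ∀ n, ∀ a ∈ I ^ (n + 1), ∀ x : X.obj (op n), a • x = 0)
    (ha : ARSys.IsML X)
    (hb : ∀ k : ℕ, ∃ n : ℕ, LinearMap.ker (limit.π X (op n)).hom ≤ I ^ k • (⊤ : Submodule R ↑(limit X))) :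
    Algz.IsProIsomorphic X (quotSys I ↑(limit X)) := by
  classical
  choose N0 hN0 using hb
  choose r0 hr0 hst using exists_stable_range X ha
  -- monotone choices
  let N : ℕ → ℕ := fun n => (Finset.range (n + 1)).sup fun i => max i (N0 (i + 1))
  have hNmono : Monotone N := fun i j h => Finset.sup_mono (Finset.range_mono (by omega))
  have hN : ∀ n, max n (N0 (n + 1)) ≤ N n := fun n =>
    Finset.le_sup (f := fun i => max i (N0 (i + 1))) (Finset.self_mem_range_succ n)
  let m : ℕ → ℕ := fun n => (Finset.range (N n + 1)).sup fun i => r0 i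
  have hmmono : Monotone m := fun i j h => Finset.sup_mono (Finset.range_mono (Nat.add_le_add_right (hNmono h) 1))
  have hNm : ∀ n, N n ≤ m n := fun n => (hr0 (N n)).trans (Finset.le_sup (f := fun i => r0 i) (Finset.self_mem_range_succ _))
  have hm : ∀ n, n ≤ m n := fun n => ((le_max_left n _).trans (hN n)).trans (hNm n)
  have hker : ∀ n, LinearMap.ker (limit.π X (op (N n))).hom ≤ I ^ (n + 1) • (⊤ : Submodule R ↑(limit X)) := fun n z hz => by
    refine hN0 (n + 1) ?_
    rw [LinearMap.mem_ker] at hz ⊢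
    rw [← limit_w X ((le_max_right n (N0 (n + 1))).trans (hN n)) z]
    rw [hz, map_zero]
  have hrange : ∀ n (x : X.obj (op (m n))), (X.map (homOfLE (hNm n)).op).hom x ∈
      LinearMap.range (limit.π X (op (N n))).hom := fun n x => by
    refine mem_range_limit_π X ha _ _ (hst (N n) _ ⟨(X.map (homOfLE (Finset.le_sup (f := fun i => r0 i) (Finset.self_mem_range_succ (N n)))).op).hom x, ?_⟩)
    exact map_tr_comp X _ _ x
  -- the comparison
  let c : ∀ n, LinearMap.range (limit.π X (op (N n))).hom →ₗ[R] Formal2.quotPow R I ↑(limit X) n := fun n =>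
    (Submodule.liftQ _ (Formal2.quotPowπ R I ↑(limit X) n) (by
      rw [Submodule.ker_mkQ]; exact hker n)).comp (limit.π X (op (N n))).hom.quotKerEquivRange.symm.toLinearMap
  let a : ∀ n, X.obj (op (m n)) ⟶ (quotSys I ↑(limit X)).obj (op n) := fun n =>
    ModuleCat.ofHom ((c n).comp (LinearMap.codRestrict _ (X.map (homOfLE (hNm n)).op).hom (hrange n)))
  have ha' : ∀ n (x : X.obj (op (m n))) (z : ↑(limit X)),
      (limit.π X (op (N n))).hom z = (X.map (homOfLE (hNm n)).op).hom x →
        (a n).hom x = Formal2.quotPowπ R I ↑(limit X) n z := fun n x z hz => by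
    exact liftQ_quotKerEquivRange_symm (limit.π X (op (N n))).hom (Formal2.quotPowπ R I ↑(limit X) n)
      (fun w hw => (Submodule.Quotient.mk_eq_zero _).2 (hker n hw)) z ⟨(X.map (homOfLE (hNm n)).op).hom x, hrange n x⟩ hz
  refine isProIsomorphic_of_data (m := m) (hm := hmmono) hm (a := a) ⟨fun {i j} h => ?_, fun n => ?_⟩
  · refine ModuleCat.hom_ext (LinearMap.ext fun x => ?_)
    obtain ⟨z, hz⟩ := hrange j x
    show (a i).hom ((X.map (homOfLE (hmmono h)).op).hom x) = ((quotSys I ↑(limit X)).map (homOfLE h).op).hom ((a j).hom x)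
    rw [ha' j x z hz, ha' i _ z]
    · exact (quotTr_apply I _ h z).symm
    · rw [← limit_w X (hNmono h) z]
      rw [hz, map_tr_comp, map_tr_comp]
  · let b : (quotSys I ↑(limit X)).obj (op (m n)) ⟶ X.obj (op (m n)) := ModuleCat.ofHom
      (Submodule.liftQ (I ^ (m n + 1) • (⊤ : Submodule R ↑(limit X))) (limit.π X (op (m n))).hom
        (Submodule.smul_le.2 fun r hr z _ => by
          show (limit.π X (op (m n))).hom (r • z) = 0
          rw [map_smul]; exact hkill _ r hr _))
    refine ⟨m n, hm n, b, ModuleCat.hom_ext (LinearMap.ext fun x => ?_), ModuleCat.hom_ext (LinearMap.ext fun y => ?_)⟩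
    · obtain ⟨z, hz⟩ := hrange (m n) x
      show b.hom ((a (m n)).hom x) = (X.map (homOfLE (hmmono (hm n))).op).hom x
      rw [ha' _ x z hz]
      show (limit.π X (op (m n))).hom z = _
      rw [← limit_w X ((le_max_left _ _).trans (hN (m n))) z]
      rw [hz, map_tr_comp]
    · obtain ⟨z, rfl⟩ := Submodule.Quotient.mk_surjective _ y
      show (a n).hom ((limit.π X (op (m n))).hom z) = _
      rw [ha' n _ z (limit_w X (hNm n) z).symm]
      rfl

end ModuleSystem

omit [IsNoetherianRing A] in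
theorem smul_sect_eq_zero {I : Ideal A} {G : ℕᵒᵖ ⥤ (U : Scheme.{u}).Modules} (hG : Formal.IsCohFormal I G) (n : ℕ)
    (a : A) (ha : a ∈ I ^ (n + 1)) (x : (Algz.sectMod A U G).obj (op n)) : a • x = 0 := by
  letI : (Spec (CommRingCat.of A)).Over (Spec (CommRingCat.of A)) := ⟨𝟙 (Spec (CommRingCat.of A))⟩
  have h := (Formal27.pushforward_map_smulMod (A := A) U.ι (Category.comp_id _) (G.obj (op n)) a).symm
  haveI : (Scheme.Modules.pushforward U.ι).IsRightAdjoint := (Scheme.Modules.restrictAdjunction U.ι).isRightAdjoint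
  rw [hG.2.1 n a ha, Functor.map_zero] at h
  refine (Γ_smulMod ((Scheme.Modules.pushforward U.ι).obj (G.obj (op n))) a x).symm.trans ?_
  rw [h, map_zero_Γ]
  rfl

omit [IsNoetherianRing A] in
theorem canonicallyExtends_of (I : Ideal A) (G : ℕᵒᵖ ⥤ (U : Scheme.{u}).Modules) (hG : Formal.IsCohFormal I G)
    (ha : ARSys.IsML (Algz.sectMod A U G))
    (hb : ∀ k : ℕ, ∃ n : ℕ, LinearMap.ker (limit.π (Algz.sectMod A U G) (op n)).hom ≤
      I ^ k • (⊤ : Submodule A ↑(limit (Algz.sectMod A U G))))
    (hc : ∀ n : ℕ, Module.Finite A ↥(LinearMap.range (limit.π (Algz.sectMod A U G) (op n)).hom)) :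
    Algz.CanonicallyExtends A I U G := by
  let M := Algz.sectMod A U G
  have hfin : ∀ n, Module.Finite A (Formal2.quotPow A I ↑(limit M) n) := fun n => by
    obtain ⟨N, hN⟩ := hb (n + 1)
    haveI := hc N
    refine Module.Finite.of_surjective ((Submodule.liftQ _ (Formal2.quotPowπ A I ↑(limit M) n) (by
      rw [Submodule.ker_mkQ]; exact hN)).comp (limit.π M (op N)).hom.quotKerEquivRange.symm.toLinearMap) ?_
    intro y
    obtain ⟨z, rfl⟩ := Submodule.Quotient.mk_surjective _ y
    exact ⟨⟨(limit.π M (op N)).hom z, LinearMap.mem_range_self _ z⟩,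
      liftQ_quotKerEquivRange_symm _ _ (by rw [Submodule.ker_mkQ]; exact hN) z _ rfl⟩
  have h1 := proIso_quotSys I M (smul_sect_eq_zero U hG) ha hb
  refine ⟨quotSys I ↑(limit M) ⋙ Tm A, isCohFormal_tilde I _ hfin (fun n a ha x => ?_) (fun n => ?_) (fun n => ?_),
    isProIsomorphic_map (tilde.functor (CommRingCat.of A)) (Iso.refl _) (Iso.refl _) h1⟩
  · obtain ⟨z, rfl⟩ := Submodule.Quotient.mk_surjective _ x
    exact (Submodule.Quotient.mk_eq_zero _).2 (Submodule.smul_mem_smul ha Submodule.mem_top)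
  · intro y
    obtain ⟨z, rfl⟩ := Submodule.Quotient.mk_surjective _ y
    exact ⟨Submodule.Quotient.mk z, rfl⟩
  · intro y hy
    obtain ⟨z, rfl⟩ := Submodule.Quotient.mk_surjective _ y
    have hz : z ∈ I ^ (n + 1) • (⊤ : Submodule A ↑(limit M)) := (Submodule.Quotient.mk_eq_zero _).1 hy
    have := Submodule.mem_map_of_mem (f := Formal2.quotPowπ A I ↑(limit M) (n + 1)) hz
    rw [Submodule.map_smul''] at this
    exact Submodule.smul_mono le_rfl le_top this

end Groth.Agent.Algz14
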