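import Groth.Agent.Algz14.Transfer
import Groth.Agent.Algz14.Limit
import Groth.Agent.CAlg1.Complete

/-!
A system extends to `Spec A` iff its inverse image over the completion of `A` is a completion (row S9539).
-/

set_option autoImplicit false
set_option linter.style.haveILetI false

universe u

open CategoryTheory CategoryTheory.Limits AlgebraicGeometry Opposite TensorProduct

noncomputable section

namespace Groth.Agent.Algz14

section ModuleLemmas

variable {A B : Type u} [CommRing A] [CommRing B]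

theorem tmul_one_bijective [Algebra A B] (J : Ideal A) (r : B →ₐ[A] A ⧸ J)
    (hr : RingHom.ker r ≤ J.map (algebraMap A B)) {S : Type u} [AddCommGroup S] [Module A S]
    (hS : ∀ a ∈ J, ∀ x : S, a • x = 0) : Function.Bijective fun x : S => (1 : B) ⊗ₜ[A] x := by
  have hset : Module.IsTorsionBySet A S (J : Set A) := fun x a => hS a a.2 x
  letI : Module (A ⧸ J) S := hset.module
  haveI : IsScalarTower A (A ⧸ J) S := hset.isScalarTower
  let inv : B ⊗[A] S →ₗ[A] S := TensorProduct.lift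
    (LinearMap.mk₂ A (fun b x => r b • x) (fun a b x => by rw [map_add, add_smul])
      (fun c b x => by rw [map_smul, smul_assoc]) (fun b x y => smul_add _ _ _)
      (fun c b x => smul_comm _ _ _))
  have hinv : ∀ x : S, inv ((1 : B) ⊗ₜ x) = x := fun x => by
    show r 1 • x = x
    rw [map_one, one_smul]
  refine ⟨fun x y h => (hinv x).symm.trans ((congrArg inv h).trans (hinv y)), fun z => ?_⟩
  induction z using TensorProduct.induction_on with
  | zero => exact ⟨0, TensorProduct.tmul_zero _ _⟩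
  | add a b ha hb =>
    obtain ⟨x, rfl⟩ := ha
    obtain ⟨y, rfl⟩ := hb
    exact ⟨x + y, TensorProduct.tmul_add _ _ _⟩
  | tmul b x =>
    obtain ⟨a, ha⟩ := Ideal.Quotient.mk_surjective (r b)
    have hmem : b - algebraMap A B a ∈ J.map (algebraMap A B) := hr (by
      rw [RingHom.mem_ker, map_sub, AlgHom.commutes, ← ha]
      exact sub_self _)
    have hzero : ∀ c ∈ J.map (algebraMap A B), ∀ y : S, c ⊗ₜ[A] y = 0 := fun c hc => by
      induction hc using Submodule.span_induction with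
      | mem c hc =>
        obtain ⟨j, hj, rfl⟩ := hc
        intro y
        rw [Algebra.algebraMap_eq_smul_one, TensorProduct.smul_tmul, hS j hj, TensorProduct.tmul_zero]
      | zero => exact fun y => TensorProduct.zero_tmul _ _
      | add c d _ _ hc hd => exact fun y => by rw [TensorProduct.add_tmul, hc, hd, add_zero]
      | smul d c _ hc =>
        intro y
        have : (d • c) ⊗ₜ[A] y = d • (c ⊗ₜ[A] y) := (TensorProduct.smul_tmul' d c y).symm
        rw [this, hc, smul_zero]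
    refine ⟨a • x, ?_⟩
    show (1 : B) ⊗ₜ[A] (a • x) = b ⊗ₜ[A] x
    rw [← TensorProduct.smul_tmul, ← Algebra.algebraMap_eq_smul_one, ← sub_eq_zero, ← TensorProduct.sub_tmul,
      ← neg_sub, TensorProduct.neg_tmul, hzero _ hmem, neg_zero]

variable (φ : A →+* B)

theorem mem_smul_top_restrict {N : ModuleCat.{u} B} (J : Ideal A) {x : N}
    (hx : x ∈ J.map φ • (⊤ : Submodule B N)) :
    (show (ModuleCat.restrictScalars φ).obj N from x) ∈
      J • (⊤ : Submodule A ((ModuleCat.restrictScalars φ).obj N)) := by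
  refine Submodule.smul_induction_on (p := fun x : N => (show (ModuleCat.restrictScalars φ).obj N from x) ∈
    J • (⊤ : Submodule A ((ModuleCat.restrictScalars φ).obj N))) hx (fun c hc y _ => ?_) fun x y hx hy => add_mem hx hy
  refine (Submodule.span_induction (p := fun c _ => ∀ y : N,
    (show (ModuleCat.restrictScalars φ).obj N from (c • y : N)) ∈
      J • (⊤ : Submodule A ((ModuleCat.restrictScalars φ).obj N))) ?_ ?_ ?_ ?_ hc) y
  · rintro _ ⟨j, hj, rfl⟩ y
    exact Submodule.smul_mem_smul hj (Submodule.mem_top (x := (show (ModuleCat.restrictScalars φ).obj N from y)))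
  · intro y
    rw [zero_smul]
    exact zero_mem _
  · intro c d _ _ hc hd y
    rw [add_smul]
    exact add_mem (hc y) (hd y)
  · intro d c _ hc y
    have : (d • c) • y = c • d • y := by rw [smul_eq_mul, mul_comm, mul_smul]
    rw [this]
    exact hc (d • y)

theorem finite_restrict {N : ModuleCat.{u} B} (J : Ideal A) (r : letI := φ.toAlgebra; B →ₐ[A] A ⧸ J)
    (hr : RingHom.ker r ≤ J.map φ) (hN : ∀ b ∈ J.map φ, ∀ x : N, b • x = 0) [Module.Finite B N] :
    Module.Finite A ((ModuleCat.restrictScalars φ).obj N) := by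
  letI := φ.toAlgebra
  obtain ⟨s, hs⟩ := Module.Finite.fg_top (R := B) (M := N)
  refine ⟨⟨s, eq_top_iff.2 fun x _ => ?_⟩⟩
  have key : ∀ y : N, y ∈ Submodule.span B (s : Set N) → (show (ModuleCat.restrictScalars φ).obj N from y) ∈
      Submodule.span A (show Set ((ModuleCat.restrictScalars φ).obj N) from (s : Set N)) := fun y hy => by
    induction hy using Submodule.span_induction with
    | mem x hx => exact Submodule.subset_span hx
    | zero => exact zero_mem _
    | add x y _ _ hx hy => exact add_mem hx hy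
    | smul b x _ hx =>
      obtain ⟨a, ha⟩ := Ideal.Quotient.mk_surjective (r b)
      have hmem : b - φ a ∈ J.map φ := hr (by
        rw [RingHom.mem_ker, map_sub]
        exact sub_eq_zero.2 (ha.symm.trans (r.commutes a).symm))
      have : b • x = φ a • x := sub_eq_zero.1 ((sub_smul b (φ a) x).symm.trans (hN _ hmem x))
      rw [this]
      exact Submodule.smul_mem _ a hx
  exact key x (hs ▸ Submodule.mem_top)

theorem extendScalars_counit_isIso {N : ModuleCat.{u} B} (J : Ideal A) (r : letI := φ.toAlgebra; B →ₐ[A] A ⧸ J)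
    (hr : RingHom.ker r ≤ J.map φ) (hN : ∀ b ∈ J.map φ, ∀ x : N, b • x = 0) :
    IsIso ((ModuleCat.extendRestrictScalarsAdj.{u, u, u} φ).counit.app N) := by
  letI := φ.toAlgebra
  refine (ConcreteCategory.isIso_iff_bijective _).2 ⟨fun z w h => ?_, fun x => ?_⟩
  · have hb := tmul_one_bijective (B := B) J r hr (S := (ModuleCat.restrictScalars φ).obj N)
      fun a ha x => hN _ (Ideal.mem_map_of_mem φ ha) x
    obtain ⟨x, rfl⟩ := hb.2 z
    obtain ⟨y, rfl⟩ := hb.2 w
    have h' : (1 : B) • (show N from x) = (1 : B) • (show N from y) := h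
    rw [one_smul, one_smul] at h'
    exact congrArg (fun t => (1 : B) ⊗ₜ[A] t) h'
  · exact ⟨(1 : B) ⊗ₜ[A] (show (ModuleCat.restrictScalars φ).obj N from x), one_smul B x⟩

end ModuleLemmas

section Kernel

variable {A : Type u} [CommRing A] [IsNoetherianRing A]

omit [IsNoetherianRing A] in
theorem ker_Γ_tr_le (I : Ideal A) (G : ℕᵒᵖ ⥤ (Spec (CommRingCat.of A)).Modules)
    (hG : @Formal.IsCohFormal A _ (Spec (CommRingCat.of A)) ⟨𝟙 (Spec (CommRingCat.of A))⟩ I G) (n : ℕ) :
    LinearMap.ker ((Γm A).map (G.map (homOfLE (Nat.le_succ n)).op)).hom ≤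
      I ^ (n + 1) • (⊤ : Submodule A ((Γm A).obj (G.obj (op (n + 1))))) := fun x hx => by
  letI : (Spec (CommRingCat.of A)).Over (Spec (CommRingCat.of A)) := ⟨𝟙 (Spec (CommRingCat.of A))⟩
  exact mem_smul_top_of_mem_IM (N := G.obj (op (n + 1))) (Formal27.sysMap_app_eq_zero (isQCohFormal hG) (Nat.le_succ n) (isAffineOpen_top _)
    (show _ = _ from hx))

omit [IsNoetherianRing A] in
theorem surjective_Γ_tr (I : Ideal A) (G : ℕᵒᵖ ⥤ (Spec (CommRingCat.of A)).Modules)
    (hG : @Formal.IsCohFormal A _ (Spec (CommRingCat.of A)) ⟨𝟙 (Spec (CommRingCat.of A))⟩ I G) (n : ℕ) :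
    Function.Surjective ((Γm A).map (G.map (homOfLE (Nat.le_succ n)).op)).hom :=
  letI : (Spec (CommRingCat.of A)).Over (Spec (CommRingCat.of A)) := ⟨𝟙 (Spec (CommRingCat.of A))⟩
  Formal27.tr_app_surjective (G := G) (fun k => (hG.1 k).1)
    (fun k => Formal27.epi_tr (isQCohFormal hG) k) n (isAffineOpen_top _)

omit [IsNoetherianRing A] in
theorem finite_Γ (I : Ideal A) (G : ℕᵒᵖ ⥤ (Spec (CommRingCat.of A)).Modules)
    (hG : @Formal.IsCohFormal A _ (Spec (CommRingCat.of A)) ⟨𝟙 (Spec (CommRingCat.of A))⟩ I G) (n : ℕ) :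
    Module.Finite A ((Γm A).obj (G.obj (op n))) := by
  haveI := (hG.1 n).1
  let ε := @asIso _ _ _ _ _ (isIso_counitm A _ (hG.1 n).1)
  exact (isFiniteType_Tm_iff A _).mp (@QC70.isFiniteType_of_epi _ _ _ ε.inv inferInstance (hG.1 n).2)

end Kernel

variable {A : Type u} [CommRing A] (I : Ideal A)

local notation "Â" => AdicCompletion I A
local notation "φ₀" => algebraMap A (AdicCompletion I A)

/-- Evaluation on the completion, for the algebra structure given by the ring map. -/
theorem exists_eval (hI : I.FG) (n : ℕ) :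
    ∃ r : (letI := (φ₀).toAlgebra; Â →ₐ[A] A ⧸ I ^ n), RingHom.ker r ≤ (I ^ n).map φ₀ := by
  refine ⟨{ toRingHom := (AdicCompletion.evalₐ I n).toRingHom, commutes' := (AdicCompletion.evalₐ I n).commutes }, ?_⟩
  intro x hx
  have h0 : AdicCompletion.eval I A n x = 0 := by
    rw [← AdicCompletion.factor_evalₐ_eq_eval I x (le_of_eq (Ideal.mul_top _).symm)]
    rw [show AdicCompletion.evalₐ I n x = 0 from hx, map_zero]
  have h1 : x ∈ (I ^ n • ⊤ : Submodule A Â) := by
    rw [AdicCompletion.pow_smul_top_eq_ker_eval hI]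
    exact h0
  rw [Ideal.smul_top_eq_map] at h1
  exact h1

theorem isAdicComplete_map (hI : I.FG) : IsAdicComplete (I.map φ₀) Â :=
  (IsAdicComplete.map_algebraMap_iff _ _).mpr (AdicCompletion.isAdicComplete hI)

variable [IsNoetherianRing A] (U : (Spec (CommRingCat.of A)).Opens)

/-- Pulling back to `Spec Â` and restricting commute. -/
def restrictPullIso {B : Type u} [CommRing B] (φ : A →+* B) :
    Scheme.Modules.pullback (specMap φ) ⋙ Scheme.Modules.restrictFunctor (specMap φ ⁻¹ᵁ U).ι ≅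
      Scheme.Modules.restrictFunctor U.ι ⋙ Scheme.Modules.pullback (specMap φ ∣_ U) :=
  Functor.isoWhiskerLeft _ (Scheme.Modules.restrictFunctorIsoPullback (specMap φ ⁻¹ᵁ U).ι) ≪≫
    Scheme.Modules.pullbackComp (specMap φ ⁻¹ᵁ U).ι (specMap φ) ≪≫
    Scheme.Modules.pullbackCongr (morphismRestrict_ι (specMap φ) U).symm ≪≫
    (Scheme.Modules.pullbackComp (specMap φ ∣_ U) U.ι).symm ≪≫
    Functor.isoWhiskerRight (Scheme.Modules.restrictFunctorIsoPullback U.ι).symm _

theorem exists_completion_of_extends (G : ℕᵒᵖ ⥤ (U : Scheme.{u}).Modules)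
    (h : @Algz.Extends A _ (Spec (CommRingCat.of A)) ⟨𝟙 (Spec (CommRingCat.of A))⟩ I U G) :
    ∃ F' : (↑(specMap φ₀ ⁻¹ᵁ U) : Scheme.{u}).Modules, Coh.IsCoh F' ∧
      Nonempty (Formal.completion (I.map φ₀) F' ≅ G ⋙ Scheme.Modules.pullback (specMap φ₀ ∣_ U)) := by
  obtain ⟨G', hG', ⟨e⟩⟩ := h
  haveI := CAlg1.isNoetherianRing_adicCompletion I (IsNoetherian.noetherian I)
  haveI := isAdicComplete_map I (IsNoetherian.noetherian I)
  exact exists_completion_iso_of_extends _ (I.map φ₀) _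
    ⟨G' ⋙ Scheme.Modules.pullback (specMap φ₀), isCohFormal_pullback_map φ₀ I G' hG',
      ⟨Functor.associator _ _ _ ≪≫ Functor.isoWhiskerLeft G' (restrictPullIso U φ₀) ≪≫
        (Functor.associator _ _ _).symm ≪≫ Functor.isoWhiskerRight e _⟩⟩

/-- For systems killed by powers of `I`, sections over `U` do not change under completion. -/
def sectCompletionIso (G : ℕᵒᵖ ⥤ (U : Scheme.{u}).Modules) (hG : Formal.IsCohFormal I G) :
    Algz.sectMod A U G ≅
      Algz.sectMod Â (specMap φ₀ ⁻¹ᵁ U) (G ⋙ Scheme.Modules.pullback (specMap φ₀ ∣_ U)) ⋙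
        ModuleCat.restrictScalars φ₀ :=
  NatIso.ofComponents
    (fun n => @asIso _ _ _ _ (cmpLin φ₀ U (G.obj n)) ((ConcreteCategory.isIso_iff_bijective _).2 (by
      obtain ⟨r, hr⟩ := exists_eval I (IsNoetherian.noetherian I) (n.unop + 1)
      haveI := (hG.1 n.unop).1
      have hb := @tmul_one_bijective A Â _ _ (φ₀).toAlgebra (I ^ (n.unop + 1)) r hr (secU U (G.obj n)) _ _
        fun a ha x => smul_sect_eq_zero U hG n.unop a ha x
      have hc := (cmp_app_bijective φ₀ U (RingHom.flat_algebraMap_iff.2 inferInstance) (G.obj n)).comp hb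
      exact Function.Bijective.of_comp_iff' Function.bijective_id _ |>.1 ((funext fun x =>
        (cmp_app_tmul φ₀ U (G.obj n) 1 x).trans (one_smul _ _) : (_ ∘ _) = (cmpLin φ₀ U (G.obj n)).hom) ▸ hc))))
    fun {i j} f => (cmpNat φ₀ U).naturality (G.map f)

theorem extends_of_completion (G : ℕᵒᵖ ⥤ (U : Scheme.{u}).Modules) (hG : Formal.IsCohFormal I G)
    (F' : (↑(specMap φ₀ ⁻¹ᵁ U) : Scheme.{u}).Modules) (hF : Coh.IsCoh F')
    (e : Formal.completion (I.map φ₀) F' ≅ G ⋙ Scheme.Modules.pullback (specMap φ₀ ∣_ U)) :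
    @Algz.Extends A _ (Spec (CommRingCat.of A)) ⟨𝟙 (Spec (CommRingCat.of A))⟩ I U G := by
  haveI := CAlg1.isNoetherianRing_adicCompletion I (IsNoetherian.noetherian I)
  have hI : I.FG := IsNoetherian.noetherian I
  obtain ⟨G'', hG'', ⟨e''⟩⟩ := extends_of_completion_iso (specMap φ₀ ⁻¹ᵁ U) (I.map φ₀) _ F' hF e
  let M : ℕᵒᵖ ⥤ ModuleCat.{u} Â := G'' ⋙ Γm Â
  let T : ℕᵒᵖ ⥤ ModuleCat.{u} A := M ⋙ ModuleCat.restrictScalars φ₀
  have hkill : ∀ n, ∀ b ∈ (I ^ (n + 1)).map φ₀, ∀ x : M.obj (op n), b • x = 0 := fun n b hb x =>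
    (Submodule.mem_bot Â).1 ((killedBy_Γ (hG''.2.1 n)) ▸
      Submodule.smul_mem_smul (show b ∈ (I.map φ₀) ^ (n + 1) from (Ideal.map_pow φ₀ I (n + 1)) ▸ hb)
        (Submodule.mem_top (x := x)))
  have hT : @Formal.IsCohFormal A _ (Spec (CommRingCat.of A)) ⟨𝟙 (Spec (CommRingCat.of A))⟩ I (T ⋙ Tm A) := by
    refine isCohFormal_tilde I T (fun n => ?_) (fun n a ha x => hkill n _ (Ideal.mem_map_of_mem φ₀ ha) x)
      (fun n => surjective_Γ_tr (I.map φ₀) G'' hG'' n) (fun n x hx => ?_)
    · obtain ⟨r, hr⟩ := exists_eval I hI (n + 1)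
      haveI : Module.Finite Â (M.obj (op n)) := finite_Γ (I.map φ₀) G'' hG'' n
      exact finite_restrict φ₀ (I ^ (n + 1)) r hr (N := M.obj (op n)) (hkill n)
    · have h := ker_Γ_tr_le (I.map φ₀) G'' hG'' n (show ((Γm Â).map (G''.map _)).hom x = 0 from hx)
      rw [← Ideal.map_pow] at h
      exact mem_smul_top_restrict φ₀ (N := M.obj (op (n + 1))) (I ^ (n + 1)) h
  let H := (T ⋙ Tm A) ⋙ Scheme.Modules.pullback U.ι
  have hH : Formal.IsCohFormal I H := by
    letI : (Spec (CommRingCat.of A)).Over (Spec (CommRingCat.of A)) := ⟨𝟙 (Spec (CommRingCat.of A))⟩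
    refine Formal27.isCohFormal_pullback U.ι (Category.comp_id _) _ hT fun n => ?_
    haveI := (hT.1 n).1
    haveI := (hT.1 n).2
    exact ⟨QCPull72.isQuasicoherent_pullback _ _, QCPull72.isFiniteType_pullback _ _⟩
  haveI : ∀ n, IsIso ((Functor.whiskerLeft M
      (ModuleCat.extendRestrictScalarsAdj.{u, u, u} φ₀).counit).app n) := fun n => by
    obtain ⟨r, hr⟩ := exists_eval I hI (n.unop + 1)
    exact extendScalars_counit_isIso φ₀ (N := M.obj n) (I ^ (n.unop + 1)) r hr (hkill n.unop)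
  haveI : ∀ n, IsIso ((Functor.whiskerLeft G'' (adjm Â).counit).app n) := fun n =>
    isIso_counitm Â _ (hG''.1 n.unop).1
  haveI := NatIso.isIso_of_isIso_app (Functor.whiskerLeft M (ModuleCat.extendRestrictScalarsAdj.{u, u, u} φ₀).counit)
  haveI := NatIso.isIso_of_isIso_app (Functor.whiskerLeft G'' (adjm Â).counit)
  let e₁ : T ⋙ ModuleCat.extendScalars φ₀ ≅ M :=
    asIso (Functor.whiskerLeft M (ModuleCat.extendRestrictScalarsAdj.{u, u, u} φ₀).counit) ≪≫ M.rightUnitor
  let e₂ : (T ⋙ Tm A) ⋙ Scheme.Modules.pullback (specMap φ₀) ≅ G'' :=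
    Functor.associator _ _ _ ≪≫
      Functor.isoWhiskerLeft T (TildePull72.pullbackTildeIso (CommRingCat.ofHom φ₀)) ≪≫
      (Functor.associator _ _ _).symm ≪≫ Functor.isoWhiskerRight e₁ (Tm Â) ≪≫
      asIso (Functor.whiskerLeft G'' (adjm Â).counit) ≪≫ G''.rightUnitor
  let e₃ : H ⋙ Scheme.Modules.pullback (specMap φ₀ ∣_ U) ≅ G ⋙ Scheme.Modules.pullback (specMap φ₀ ∣_ U) :=
    Functor.isoWhiskerRight (Functor.isoWhiskerLeft (T ⋙ Tm A)
        (Scheme.Modules.restrictFunctorIsoPullback U.ι).symm) _ ≪≫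
      Functor.associator _ _ _ ≪≫
      Functor.isoWhiskerLeft (T ⋙ Tm A) (restrictPullIso U φ₀).symm ≪≫
      (Functor.associator _ _ _).symm ≪≫ Functor.isoWhiskerRight e₂ _ ≪≫ e''
  haveI hqH : ∀ n, (H.obj n).IsQuasicoherent := fun n => (hH.1 n.unop).1
  haveI hqG : ∀ n, (G.obj n).IsQuasicoherent := fun n => (hG.1 n.unop).1
  let e₄ : Algz.sectMod A U H ≅ Algz.sectMod A U G :=
    sectCompletionIso I U H hH ≪≫
      Functor.isoWhiskerRight (Functor.isoWhiskerRight e₃ (Scheme.Modules.pushforward (specMap φ₀ ⁻¹ᵁ U).ι ⋙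
        moduleSpecΓFunctor (R := CommRingCat.of Â))) (ModuleCat.restrictScalars φ₀) ≪≫
      (sectCompletionIso I U G hG).symm
  exact ⟨T ⋙ Tm A, hT, ⟨Functor.isoWhiskerLeft _ (Scheme.Modules.restrictFunctorIsoPullback U.ι) ≪≫
    (sectRestrictIso U H).symm ≪≫
    Functor.isoWhiskerRight (Functor.isoWhiskerRight e₄ (tilde.functor (CommRingCat.of A))) _ ≪≫
    sectRestrictIso U G⟩⟩

end Groth.Agent.Algz14
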