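import Groth.Agent.Algz94.Scheme
import Groth.Agent.Dim62.Local
import Groth.Agent.E4O.FibreComp
import Groth.Agent.Cyc90.FlatRelDim

/-!
The distance function under morphisms of finite type (row S8820).
-/

set_option autoImplicit false

universe u v

open CategoryTheory AlgebraicGeometry TopologicalSpace Algz Specialization

namespace Groth.Agent.Algz14

theorem codimPt_eq_relHeight {B : Type u} [CommRing B] {m q : PrimeSpectrum B} (h : m ⤳ q) :
    codimPt m q h = E4O.relHeight m q := by
  have hmq : m ≤ q := (PrimeSpectrum.le_iff_specializes m q).2 h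
  rw [E4O.relHeight_eq hmq]
  let d : Set.Ici (toEquiv q) → PrimeSpectrum B := fun z => ofEquiv z.1
  have hd : ∀ a b : Set.Ici (toEquiv q), a < b → d b < d a := fun a b hab =>
    lt_of_le_not_ge ((PrimeSpectrum.le_iff_specializes _ _).2 (show d b ⤳ d a from hab.le))
      fun c => hab.not_ge (show d a ⤳ d b from (PrimeSpectrum.le_iff_specializes _ _).1 c)
  apply le_antisymm
  · refine Order.height_le fun p hp => ?_
    have hm : ∀ i, m ≤ d (p i) := fun i => by
      refine (PrimeSpectrum.le_iff_specializes _ _).2 ?_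
      have h1 : p i ≤ p.last := p.strictMono.monotone (Fin.le_last i)
      rw [hp] at h1
      exact h1
    let r : LTSeries (Set.Ici m) := LTSeries.mk p.length (fun i => ⟨d (p (Fin.rev i)), hm _⟩)
      fun a b hab => hd _ _ (p.strictMono (Fin.rev_lt_rev.2 hab))
    refine le_trans (Order.length_le_height_last (p := r)) (Order.height_mono ?_)
    show d (p (Fin.rev (Fin.last _))) ≤ q
    exact (PrimeSpectrum.le_iff_specializes _ _).2 (p _).2
  · refine Order.height_le fun p hp => ?_
    have hq : ∀ i, (p i).1 ≤ q := fun i => by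
      have h1 : p i ≤ p.last := p.strictMono.monotone (Fin.le_last i)
      rw [hp] at h1
      exact h1
    let r : LTSeries (Set.Ici (toEquiv q)) := LTSeries.mk p.length
      (fun i => ⟨toEquiv (p (Fin.rev i)).1, toEquiv_le_toEquiv.2 ((PrimeSpectrum.le_iff_specializes _ _).1 (hq _))⟩)
      fun a b hab => by
        have hlt : (p (Fin.rev b)).1 < (p (Fin.rev a)).1 := p.strictMono (Fin.rev_lt_rev.2 hab)
        exact lt_of_le_not_ge (toEquiv_le_toEquiv.2 ((PrimeSpectrum.le_iff_specializes _ _).1 hlt.le))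
          fun c => hlt.not_ge ((PrimeSpectrum.le_iff_specializes _ _).2 (toEquiv_le_toEquiv.1 c))
    refine le_trans (Order.length_le_height_last (p := r)) (Order.height_mono ?_)
    exact toEquiv_le_toEquiv.2 ((PrimeSpectrum.le_iff_specializes _ _).1 (p (Fin.rev (Fin.last _))).2)

theorem mem_range_of_specializes_of_isOpen {X : Type u} {X' : Type v} [TopologicalSpace X] [TopologicalSpace X']
    {g : X' → X} (hg : Topology.IsOpenEmbedding g) (z : X) (x : X') (h : z ⤳ g x) : z ∈ Set.range g :=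
  h.mem_open hg.isOpen_range ⟨x, rfl⟩

variable {Y Y' : Scheme.{u}} [IsLocallyNoetherian Y] (f : Y' ⟶ Y) [LocallyOfFiniteType f]

/-- The dimension formula along a specialization. -/
theorem exists_codimPt_data (hY : ∀ y : Y, CAlg.IsUniversallyCatenary (Y.presheaf.stalk y)) {w v : Y'}
    (h : w ⤳ v) (h' : f w ⤳ f v) :
    ∃ c' c : ℕ, codimPt w v h = (c' : ℕ∞) ∧ codimPt (f w) (f v) h' = (c : ℕ∞) ∧
      c' + E4O.fdeg f v = c + E4O.fdeg f w := by
  obtain ⟨C, ⟨q, rfl⟩, hN⟩ := E4O.exists_chart f v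
  obtain ⟨m, rfl⟩ := mem_range_of_specializes_of_isOpen C.isOpenEmbedding_pt w q h
  have := hN inferInstance
  have hmq : m ≤ q := (C.specializes_iff _ _).1 h
  obtain ⟨a, b, ha, hb, -, -, -, -, heq⟩ := Dim62.exists_component_data C hmq
  have hs : m ⤳ q := (PrimeSpectrum.le_iff_specializes m q).1 hmq
  refine ⟨b, a, ?_, ?_, heq (hY _)⟩
  · rw [Algz94.codimPt_map C.pt C.isOpenEmbedding_pt.isEmbedding
      (mem_range_of_specializes_of_isOpen C.isOpenEmbedding_pt) hs h, codimPt_eq_relHeight, hb]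
  · have hs' : Dim62.cpt C m ⤳ Dim62.cpt C q := hs.map (PrimeSpectrum.continuous_comap _)
    rw [Algz94.codimPt_congr (Dim62.apply_eq C m) (Dim62.apply_eq C q) h'
        (hs'.map C.isOpenEmbedding_ptY.continuous),
      Algz94.codimPt_map C.ptY C.isOpenEmbedding_ptY.isEmbedding
      (mem_range_of_specializes_of_isOpen C.isOpenEmbedding_ptY) hs', codimPt_eq_relHeight, ha]

omit [IsLocallyNoetherian Y] in
theorem fdeg_le_of_dim_fiber {e : ℕ}
    (hfib : ∀ y : Y, topologicalKrullDim ↥(f.fiber y) ≤ (e : WithBot ℕ∞)) (x : Y') : E4O.fdeg f x ≤ e := by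
  obtain ⟨y, hy⟩ : ∃ y, f x = y := ⟨_, rfl⟩
  obtain ⟨z, rfl⟩ := E4O.exists_fiberι_eq f hy
  have h : topologicalKrullDim ↥(closure ({z} : Set ↥(f.fiber _))) ≤ (e : WithBot ℕ∞) :=
    (Topology.IsInducing.subtypeVal.topologicalKrullDim_le).trans (hfib y)
  rw [E4O.dim_closure_fiber] at h
  exact_mod_cast h

theorem sum_telescope {k : ℕ} (g : Fin (k + 1) → ℤ) (i : Fin (k + 1)) :
    ∑ j ∈ Finset.univ.filter (fun j : Fin k => i.val ≤ j.val), (g j.succ - g j.castSucc) = g (Fin.last k) - g i := by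
  induction i using Fin.reverseInduction with
  | last =>
    rw [sub_self, Finset.sum_eq_zero]
    intro j hj
    have h1 := (Finset.mem_filter.1 hj).2
    have h2 := j.2
    simp only [Fin.val_last] at h1
    omega
  | cast i ih =>
    rw [show Finset.univ.filter (fun j : Fin k => (Fin.castSucc i).val ≤ j.val) =
        insert i (Finset.univ.filter fun j : Fin k => i.succ.val ≤ j.val) by
      ext j
      simp only [Finset.mem_filter, Finset.mem_univ, true_and, Finset.mem_insert, Fin.val_castSucc, Fin.val_succ,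
        Fin.ext_iff]
      omega,
      Finset.sum_insert (by simp), ih]
    ring

theorem sum_split {k : ℕ} (g : Fin (k + 1) → ℤ) (i : Fin (k + 1)) :
    ∑ j ∈ Finset.univ.filter (fun j : Fin (k + 1) => i ≤ j), g j =
      g (Fin.last k) + ∑ j ∈ Finset.univ.filter (fun j : Fin k => i.val ≤ j.val), g j.castSucc := by
  rw [Finset.sum_filter, Fin.sum_univ_castSucc, if_pos (Fin.le_last i), add_comm, Finset.sum_filter]
  rfl

theorem delta_add_le {Z : Set Y} {y' : Y'} {k : ℕ} (hY : ∀ y : Y, CAlg.IsUniversallyCatenary (Y.presheaf.stalk y))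
    (S' : DSystem (f ⁻¹' Z) y' k) (S : DSystem Z (f y') k) (hv : ∀ i, S.v i = f (S'.v i))
    (hw : ∀ i, S.w i = f (S'.w i)) {e : ℕ} (hT : ∀ x, E4O.fdeg f x ≤ e) :
    S.delta + E4O.fdeg f y' ≤ S'.delta + e := by
  choose c' c hc' hc hce using fun i => exists_codimPt_data f hY (S'.spec i) ((S'.spec i).map f.continuous)
  choose b' b hb' hb hbe using fun i => exists_codimPt_data f hY (S'.spec_succ i) ((S'.spec_succ i).map f.continuous)
  have hSc : ∀ i, S.c i = (c i : ℕ∞) := fun i => (Algz94.codimPt_congr (hw i) (hv i) _ _).trans (hc i)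
  have hSb : ∀ i, S.b i = (b i : ℕ∞) := fun i => (Algz94.codimPt_congr (hw _) (hv _) _ _).trans (hb i)
  let A : Fin (k + 1) → ℕ := fun i => ∑ j ∈ Finset.univ.filter (fun j : Fin (k + 1) => i ≤ j), c j
  let B : Fin (k + 1) → ℕ := fun i => ∑ j ∈ Finset.univ.filter (fun j : Fin k => i.val ≤ j.val), b j
  let A' : Fin (k + 1) → ℕ := fun i => ∑ j ∈ Finset.univ.filter (fun j : Fin (k + 1) => i ≤ j), c' j
  let B' : Fin (k + 1) → ℕ := fun i => ∑ j ∈ Finset.univ.filter (fun j : Fin k => i.val ≤ j.val), b' j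
  have key : ∀ i, A i - B i + E4O.fdeg f y' ≤ A' i - B' i + e := by
    intro i
    let T : Fin (k + 1) → ℤ := fun j => E4O.fdeg f (S'.v j)
    let W : Fin (k + 1) → ℤ := fun j => E4O.fdeg f (S'.w j)
    have hlast : W (Fin.last k) = E4O.fdeg f y' := by simp only [W, S'.last_eq]
    have h1 : (A' i : ℤ) - A i = W (Fin.last k) - T (Fin.last k) +
        ∑ j ∈ Finset.univ.filter (fun j : Fin k => i.val ≤ j.val), (W j.castSucc - T j.castSucc) := by
      rw [← sum_split (fun j => W j - T j) i]
      simp only [A, A', Nat.cast_sum, ← Finset.sum_sub_distrib]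
      refine Finset.sum_congr rfl fun j _ => ?_
      have := hce j
      simp only [W, T]
      omega
    have h2 : (B' i : ℤ) - B i =
        ∑ j ∈ Finset.univ.filter (fun j : Fin k => i.val ≤ j.val), (W j.castSucc - T j.succ) := by
      simp only [B, B', Nat.cast_sum, ← Finset.sum_sub_distrib]
      refine Finset.sum_congr rfl fun j _ => ?_
      have := hbe j
      simp only [W, T]
      omega
    have h3 := sum_telescope T i
    rw [Finset.sum_sub_distrib] at h1 h2 h3
    have h4 : (T i : ℤ) ≤ e := Int.ofNat_le.2 (hT (S'.v i))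
    have h5 := hT y'
    rw [hlast] at h1
    omega
  have hSc' : ∀ i, S'.c i = (c' i : ℕ∞) := hc'
  have hSb' : ∀ i, S'.b i = (b' i : ℕ∞) := hb'
  simp only [DSystem.delta, hSc, hSb, hSc', hSb', ← Nat.cast_sum, ← ENat.natCast_sub]
  rw [add_assoc, add_assoc]
  refine add_le_add le_rfl ?_
  obtain ⟨i, -, hi⟩ := Finset.exists_mem_eq_sup Finset.univ Finset.univ_nonempty fun i : Fin (k + 1) =>
    ((A i - B i : ℕ) : ℕ∞)
  rw [hi]
  refine le_trans ?_ (add_le_add (Finset.le_sup (f := fun i : Fin (k + 1) => ((A' i - B' i : ℕ) : ℕ∞))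
    (Finset.mem_univ i)) le_rfl)
  exact_mod_cast key i

/-- EGA-type inequality for the distance function. -/
theorem deltaZ_add_le (hY : ∀ y : Y, CAlg.IsUniversallyCatenary (Y.presheaf.stalk y)) (Z : Set Y) {e : ℕ}
    (hT : ∀ x, E4O.fdeg f x ≤ e) (y' : Y') :
    deltaZ Z (f y') + E4O.fdeg f y' ≤ deltaZ (f ⁻¹' Z) y' + e := by
  by_cases htop : deltaZ (f ⁻¹' Z) y' = ⊤
  · rw [htop, top_add]
    exact le_top
  obtain ⟨k, S', hS'⟩ := Algz94.exists_delta_eq htop
  let S : DSystem Z (f y') k :=
    { v := fun i => f (S'.v i)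
      w := fun i => f (S'.w i)
      spec := fun i => (S'.spec i).map f.continuous
      spec_succ := fun i => (S'.spec_succ i).map f.continuous
      start_mem := S'.start_mem
      last_eq := congrArg f S'.last_eq }
  rw [← hS']
  exact (add_le_add (Algz94.deltaZ_le S) le_rfl).trans
    (delta_add_le f hY S' S (fun _ => rfl) (fun _ => rfl) hT)

end Groth.Agent.Algz14
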