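import Groth.Agent.Algz14.RelInst

/-!
Algebraization of a formal system receiving a map from a completion, with bounded kernel and cokernel (row S0851).
-/

set_option autoImplicit false
set_option linter.style.haveILetI false
set_option linter.unusedSectionVars false

universe u

open CategoryTheory CategoryTheory.Limits AlgebraicGeometry Opposite

noncomputable section

namespace Groth.Agent.Algz14

open Formal27

section Biproduct

variable {X : Scheme.{u}} {r : ℕ} (f : Fin r → X.Modules) {V : X.Opens}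

/-- Sections of a finite biproduct from components. -/
theorem exists_biproduct_elt (x : ∀ i, Γ(f i, V)) :
    ∃ z : Γ(⨁ f, V), ∀ i, (biproduct.π f i).app V z = x i := by
  refine ⟨∑ j, (biproduct.ι f j).app V (x j), fun i => ?_⟩
  rw [map_sum]
  rw [Finset.sum_eq_single i]
  · exact congrArg (fun φ => (Scheme.Modules.Hom.app φ V) (x i)) (biproduct.ι_π_self f i)
  · intro j _ hj
    exact congrArg (fun φ => (Scheme.Modules.Hom.app φ V) (x j)) (biproduct.ι_π_ne f hj)
  · exact fun h => absurd (Finset.mem_univ i) h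

variable {f} in
theorem biproduct_elt_ext {z z' : Γ(⨁ f, V)} (h : ∀ i, (biproduct.π f i).app V z = (biproduct.π f i).app V z') :
    z = z' := by
  have key : ∀ w : Γ(⨁ f, V), w = ∑ j, (biproduct.ι f j).app V ((biproduct.π f j).app V w) := fun w => by
    let ev : (⨁ f ⟶ ⨁ f) →+ Γ(⨁ f, V) := AddMonoidHom.mk' (fun φ => φ.app V w) fun _ _ => rfl
    have e := congrArg ev (biproduct.total (f := f))
    rw [map_sum] at e
    exact e.symm
  rw [key z, key z']
  exact Finset.sum_congr rfl fun j _ => by rw [h]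

end Biproduct

variable {A : Type u} [CommRing A] {X : Scheme.{u}} [X.Over (Spec (CommRingCat.of A))]

/-- Finitely many elements of an ideal generate its image on finitely many affine opens. -/
theorem exists_generators [IsNoetherian X] (J : Ideal A) (S : Finset X.affineOpens) :
    ∃ (r : ℕ) (a : Fin r → A), (∀ i, a i ∈ J) ∧
      ∀ W ∈ S, J.map (gi A X W.1) ≤ Ideal.span (Set.range fun i => gi A X W.1 (a i)) := by
  classical
  have key : ∀ W : X.affineOpens, ∃ t : Finset A, ↑t ⊆ (J : Set A) ∧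
      J.map (gi A X W.1) ≤ Ideal.span (gi A X W.1 '' ↑t) := fun W => by
    haveI : IsNoetherianRing Γ(X, W.1) := IsLocallyNoetherian.component_noetherian W
    obtain ⟨s', hs', he⟩ := (Submodule.fg_span_iff_fg_span_finset_subset (gi A X W.1 '' (J : Set A))).1
      (IsNoetherian.noetherian (Submodule.span Γ(X, W.1) (gi A X W.1 '' (J : Set A))))
    choose b hb hbe using fun x : s' => hs' x.2
    refine ⟨Finset.univ.image b, ?_, ?_⟩
    · intro x hx
      obtain ⟨y, -, rfl⟩ := Finset.mem_image.1 (Finset.mem_coe.1 hx)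
      exact hb y
    · refine he.le.trans (Submodule.span_mono fun x hx => ?_)
      exact ⟨b ⟨x, hx⟩, Finset.mem_coe.2 (Finset.mem_image_of_mem b (Finset.mem_univ _)), hbe ⟨x, hx⟩⟩
  choose t ht htle using key
  let T := S.biUnion t
  let e := T.equivFin
  refine ⟨T.card, fun i => (e.symm i).1, fun i => ?_, fun W hW => (htle W).trans (Submodule.span_mono ?_)⟩
  · obtain ⟨W, -, hi⟩ := Finset.mem_biUnion.1 (e.symm i).2
    exact ht W hi
  · rintro _ ⟨x, hx, rfl⟩
    exact ⟨e ⟨x, Finset.mem_biUnion.2 ⟨W, hW, hx⟩⟩, by simp⟩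

namespace Right

variable (G : X.Modules) (I : Ideal A) (k₀ : ℕ) {r : ℕ} (a : Fin r → A)

/-- The tuples. -/
abbrev tup : X.Modules := ⨁ fun _ : Fin r => G

/-- Reduction of tuples. -/
abbrev red : tup G (r := r) ⟶ ⨁ fun _ : Fin r => Formal.modPow I k₀ G :=
  biproduct.map fun _ => Formal.modPowπ I k₀ G

/-- The relations between tuples of multiples. -/
abbrev rels : tup G (r := r) ⟶ ⨁ fun _ : Fin r => tup G (r := r) :=
  biproduct.lift fun i => biproduct.lift fun j =>
    biproduct.π (fun _ : Fin r => G) i ≫ Formal.smulMod A G (a j) -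
      biproduct.π (fun _ : Fin r => G) j ≫ Formal.smulMod A G (a i)

/-- The module of virtual multiples. -/
abbrev Φ : X.Modules := kernel (kernel.ι (red G I k₀ (r := r)) ≫ rels G a)

/-- Components. -/
abbrev comp (i : Fin r) : Φ G I k₀ a ⟶ G :=
  kernel.ι (kernel.ι (red G I k₀ (r := r)) ≫ rels G a) ≫ kernel.ι (red G I k₀ (r := r)) ≫
    biproduct.π (fun _ : Fin r => G) i

theorem Φ_hom_ext {H : X.Modules} {f g : H ⟶ Φ G I k₀ a} (h : ∀ i, f ≫ comp G I k₀ a i = g ≫ comp G I k₀ a i) :
    f = g := by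
  refine (cancel_mono (kernel.ι _)).1 ((cancel_mono (kernel.ι _)).1 (biproduct.hom_ext _ _ fun i => ?_))
  simp only [Category.assoc]
  exact h i

theorem exists_mult (ha : ∀ i, a i ∈ I ^ k₀) :
    ∃ v : G ⟶ Φ G I k₀ a, ∀ i, v ≫ comp G I k₀ a i = Formal.smulMod A G (a i) := by
  let v₀ : G ⟶ tup G (r := r) := biproduct.lift fun i => Formal.smulMod A G (a i)
  have h1 : v₀ ≫ red G I k₀ (r := r) = 0 := biproduct.hom_ext _ _ fun i => by
    rw [Category.assoc, biproduct.map_π, ← Category.assoc, biproduct.lift_π, zero_comp]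
    exact smulMod_modPowπ I k₀ G (ha i)
  have h2 : kernel.lift _ v₀ h1 ≫ kernel.ι (red G I k₀ (r := r)) ≫ rels G a = 0 := by
    rw [← Category.assoc, kernel.lift_ι]
    refine biproduct.hom_ext _ _ fun i => biproduct.hom_ext _ _ fun j => ?_
    simp only [v₀, Category.assoc, biproduct.lift_π, Preadditive.comp_sub, zero_comp]
    rw [← Category.assoc, biproduct.lift_π, ← Category.assoc, biproduct.lift_π, ← smulMod_mul, ← smulMod_mul,
      mul_comm, sub_self]
  refine ⟨kernel.lift _ (kernel.lift _ v₀ h1) h2, fun i => ?_⟩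
  rw [comp, ← Category.assoc, kernel.lift_ι, ← Category.assoc, kernel.lift_ι, biproduct.lift_π]

variable {G I k₀ a} {V : X.Opens}

theorem Φ_ext {φ φ' : Γ(Φ G I k₀ a, V)} (h : ∀ i, (comp G I k₀ a i).app V φ = (comp G I k₀ a i).app V φ') :
    φ = φ' :=
  QC70.app_injective_of_mono (kernel.ι _) V (QC70.app_injective_of_mono (kernel.ι _) V (biproduct_elt_ext h))

theorem comp_rel (φ : Γ(Φ G I k₀ a, V)) (i j : Fin r) :
    gi A X V (a j) • (comp G I k₀ a i).app V φ = gi A X V (a i) • (comp G I k₀ a j).app V φ := by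
  have h : kernel.ι (kernel.ι (red G I k₀ (r := r)) ≫ rels G a) ≫ kernel.ι (red G I k₀ (r := r)) ≫ rels G a ≫
      biproduct.π (fun _ : Fin r => tup G (r := r)) i ≫ biproduct.π (fun _ : Fin r => G) j = 0 := by
    rw [← Category.assoc (kernel.ι (red G I k₀ (r := r))), ← Category.assoc, kernel.condition, zero_comp]
  simp only [biproduct.lift_π, biproduct.lift_π_assoc, Preadditive.comp_sub, sub_eq_zero] at h
  exact congrArg (fun f => (Scheme.Modules.Hom.app f V) φ) h

theorem comp_mem [G.IsQuasicoherent] (hV : IsAffineOpen V) (φ : Γ(Φ G I k₀ a, V)) (i : Fin r) :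
    (comp G I k₀ a i).app V φ ∈ IM G (I ^ k₀) V := by
  refine (modPowπ_app_eq_zero_iff hV _).1 ?_
  have h : comp G I k₀ a i ≫ Formal.modPowπ I k₀ G = 0 := by
    rw [Category.assoc, Category.assoc, ← biproduct.map_π (fun _ : Fin r => Formal.modPowπ I k₀ G) i,
      ← Category.assoc (kernel.ι (red G I k₀ (r := r))), kernel.condition, zero_comp, comp_zero]
  exact congrArg (fun f => (Scheme.Modules.Hom.app f V) φ) h

theorem exists_Φ_elt (g : Fin r → Γ(G, V)) (h1 : ∀ i, (Formal.modPowπ I k₀ G).app V (g i) = 0)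
    (h2 : ∀ i j, gi A X V (a j) • g i = gi A X V (a i) • g j) :
    ∃ φ : Γ(Φ G I k₀ a, V), ∀ i, (comp G I k₀ a i).app V φ = g i := by
  obtain ⟨z, hz⟩ := exists_biproduct_elt (fun _ : Fin r => G) g
  obtain ⟨z₁, rfl⟩ := QC70.exists_kernel_app_eq (red G I k₀ (r := r)) V z (biproduct_elt_ext fun i => by
    rw [map_zero]
    refine (congrArg (fun f => (Scheme.Modules.Hom.app f V) z) (biproduct.map_π _ i)).trans ?_
    change (Formal.modPowπ I k₀ G).app V ((biproduct.π (fun _ : Fin r => G) i).app V z) = 0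
    rw [hz, h1])
  obtain ⟨φ, rfl⟩ := QC70.exists_kernel_app_eq (kernel.ι (red G I k₀ (r := r)) ≫ rels G a) V z₁
    (biproduct_elt_ext fun i => biproduct_elt_ext fun j => by
      rw [map_zero, map_zero]
      refine (congrArg (fun f => (Scheme.Modules.Hom.app f V) ((kernel.ι (red G I k₀ (r := r))).app V z₁))
        (show rels G a ≫ biproduct.π (fun _ : Fin r => tup G (r := r)) i ≫ biproduct.π (fun _ : Fin r => G) j =
          biproduct.π (fun _ : Fin r => G) i ≫ Formal.smulMod A G (a j) -
            biproduct.π (fun _ : Fin r => G) j ≫ Formal.smulMod A G (a i) by simp)).trans ?_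
      change gi A X V (a j) • (biproduct.π (fun _ : Fin r => G) i).app V _ -
        gi A X V (a i) • (biproduct.π (fun _ : Fin r => G) j).app V _ = 0
      rw [hz, hz, h2, sub_self])
  exact ⟨φ, hz⟩

variable (G I k₀ a)

theorem isCoh_Φ [IsNoetherian X] (hG : Coh.IsCoh G) : Coh.IsCoh (Φ G I k₀ a) := by
  haveI := hG.1
  have h1 : Coh.IsCoh (kernel (red G I k₀ (r := r))) :=
    QC70.isCoh_kernel _ (QC70.isCoh_biproduct _ fun _ => hG) (QC70.isCoh_biproduct _ fun _ => by
      haveI := hG.2
      exact ⟨isQuasicoherent_modPow G I k₀, QC70.isFiniteType_of_epi (Formal.modPowπ I k₀ G)⟩).1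
  exact QC70.isCoh_kernel _ h1 (QC70.isCoh_biproduct _ fun _ => QC70.isCoh_biproduct _ fun _ => hG).1

/-- Finite powers of a system. -/
abbrev powSys (F : ℕᵒᵖ ⥤ X.Modules) (r : ℕ) : ℕᵒᵖ ⥤ X.Modules where
  obj n := ⨁ fun _ : Fin r => F.obj n
  map f := biproduct.map fun _ => F.map f
  map_id n := biproduct.hom_ext _ _ fun i => by simp
  map_comp f g := biproduct.hom_ext _ _ fun i => by simp

variable {F : ℕᵒᵖ ⥤ X.Modules} (hF : Formal.IsCohFormal I F) (hG : Coh.IsCoh G) (α : Formal.completion I G ⟶ F)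

/-- The component of the map from tuples. -/
abbrev toF (n : ℕ) : G ⟶ F.obj (op n) := Formal.modPowπ I (n + 1) G ≫ α.app (op n)

theorem toF_comp {n m : ℕ} (h : n ≤ m) : toF G I α m ≫ sysMap F h = toF G I α n := by
  refine (Category.assoc _ _ _).trans ((congrArg (_ ≫ ·) (α.naturality (homOfLE h).op).symm).trans ?_)
  refine (Category.assoc _ _ _).symm.trans ?_
  exact congrArg (· ≫ α.app (op n)) (completion_map_π G h)

/-- The data relating the system to the virtual multiples. -/
def data [IsNoetherian X] : RelData I X where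
  F := F
  hF := hF
  G := Φ G I k₀ a
  hG := isCoh_Φ G I k₀ a hG
  B := powSys F r
  hB n := (QC70.isCoh_biproduct (fun _ : Fin r => F.obj (op n)) fun _ => hF.1 n).1
  μ := { app := fun n => biproduct.lift fun i => Formal.smulMod A (F.obj n) (a i)
         naturality := fun n m f => biproduct.hom_ext _ _ fun i => by
           simp [smulMod_comp] }
  ν n := biproduct.lift fun i => comp G I k₀ a i ≫ toF G I α n
  hν {n m} h := biproduct.hom_ext _ _ fun i => by
    show (biproduct.lift (fun i => comp G I k₀ a i ≫ toF G I α m) ≫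
      biproduct.map fun _ : Fin r => F.map (homOfLE h).op) ≫ biproduct.π _ i =
      biproduct.lift (fun i => comp G I k₀ a i ≫ toF G I α n) ≫ biproduct.π _ i
    refine ((Category.assoc _ _ _).trans ((congrArg _ (biproduct.map_π _ i)).trans
      ((Category.assoc _ _ _).symm.trans (congrArg (· ≫ F.map (homOfLE h).op) (biproduct.lift_π _ i))))).trans ?_
    refine Eq.trans ?_ (biproduct.lift_π (fun i => comp G I k₀ a i ≫ toF G I α n) i).symm
    exact (Category.assoc _ _ _).trans (congrArg (comp G I k₀ a i ≫ ·) (toF_comp G I α h))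


variable [IsNoetherian X] {V : X.Opens}

theorem mem_smul_top_of_forall {R : Type*} [CommRing R] {M : Type*} [AddCommGroup M] [Module R M] {r : ℕ}
    {J : Ideal R} {x : Fin r → M} (h : ∀ i, x i ∈ J • (⊤ : Submodule R M)) :
    x ∈ J • (⊤ : Submodule R (Fin r → M)) := by
  rw [← Finset.univ_sum_single x]
  refine Submodule.sum_mem _ fun i _ => ?_
  have := Submodule.mem_map_of_mem (f := LinearMap.single R (fun _ => M) i) (h i)
  rw [Submodule.map_smul''] at this
  exact Submodule.smul_mono le_rfl le_top this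

theorem apply_mem_smul_top {R : Type*} [CommRing R] {M : Type*} [AddCommGroup M] [Module R M] {r : ℕ} {J : Ideal R}
    {x : Fin r → M} (h : x ∈ J • (⊤ : Submodule R (Fin r → M))) (i : Fin r) : x i ∈ J • (⊤ : Submodule R M) := by
  have := Submodule.mem_map_of_mem (f := LinearMap.proj (φ := fun _ : Fin r => M) i) h
  rw [Submodule.map_smul''] at this
  exact Submodule.smul_mono le_rfl le_top this

theorem exists_mem_smul_top {R : Type*} [CommRing R] {M N : Type*} [AddCommGroup M] [Module R M] [AddCommGroup N]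
    [Module R N] (f : M →ₗ[R] N) {J : Ideal R} {x : N} (h : x ∈ J • LinearMap.range f) :
    ∃ y ∈ J • (⊤ : Submodule R M), f y = x := by
  rw [← Submodule.map_top, ← Submodule.map_smul''] at h
  exact h

theorem secRel {c : ℕ} (hker : ∀ n, Formal.KilledBy (I ^ c) (kernel (α.app (op n))))
    (hcoker : ∀ n, Formal.KilledBy (I ^ c) (cokernel (α.app (op n)))) (hV : IsAffineOpen V)
    (hAR : ARBound I c G V k₀) (ha : ∀ i, a i ∈ I ^ (k₀ + c))
    (hgen : (I ^ (k₀ + c)).map (gi A X V) ≤ Ideal.span (Set.range fun i => gi A X V (a i))) :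
    ∃ k, (data G I k₀ a hF hG α).SecRel V (k₀ + c) k := by
  let d := data G I k₀ a hF hG α
  haveI := hG.1
  haveI := hG.2
  haveI : IsNoetherianRing Γ(X, V) := IsLocallyNoetherian.component_noetherian ⟨V, hV⟩
  haveI : Module.Finite Γ(X, V) Γ(G, V) := QC70.finite_sections_of_isFiniteType G hV
  let R := Γ(X, V)
  let J : Ideal R := I.map (gi A X V)
  let M := Γ(G, V)
  let θ : ∀ n, M →ₗ[R] Γ(F.obj (op n), V) := fun n => QC70.appLinear (toF G I α n) V
  have hθtr : ∀ {n m : ℕ} (h : n ≤ m) (g : M), sectTr F V h (θ m g) = θ n g := fun {n m} h g =>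
    congrArg (fun f => (Scheme.Modules.Hom.app f V) g) (toF_comp G I α h)
  have hT := isTower_sect hF hV
  have hθ0 : ∀ n, ∀ g ∈ J ^ (n + 1) • (⊤ : Submodule R M), θ n g = 0 := fun n g hg => by
    refine Submodule.smul_induction_on hg (fun b hb y _ => ?_) fun x y hx hy => by rw [map_add, hx, hy, add_zero]
    rw [map_smul]
    exact hT.kill n b hb _
  -- images of multiples
  have hθimg : ∀ n, J ^ c • (⊤ : Submodule R Γ(F.obj (op n), V)) ≤ LinearMap.range (θ n) := fun n => by
    rw [← IM_eq]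
    intro y hy
    refine IM_induction (p := fun y => y ∈ LinearMap.range (θ n)) hy (fun b hb z => ?_) (zero_mem _)
      fun x y hx hy => add_mem hx hy
    haveI := isQuasicoherent_modPow G I (n + 1)
    haveI : ((Formal.completion I G).obj (op n)).IsQuasicoherent := isQuasicoherent_modPow G I (n + 1)
    haveI := (hF.1 n).1
    obtain ⟨x, hx⟩ := exists_app_eq_smul (α.app (op n)) (hcoker n) hV hb z
    obtain ⟨g, rfl⟩ := modPowπ_app_surjective (M := G) I (n + 1) hV x
    exact ⟨g, hx⟩
  -- small elements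
  have hsmall : ∀ n s (g : M), θ n g = 0 → g ∈ J ^ k₀ • (⊤ : Submodule R M) → s + k₀ ≤ n + 1 → k₀ ≤ s →
      g ∈ J ^ s • (⊤ : Submodule R M) := by
    intro n s g h0 hg hs hk
    obtain ⟨t, ht, htg⟩ := hAR.1 s g fun b hb => by
      refine Submodule.smul_mono_left (Ideal.map_mono (Ideal.pow_le_pow_right hs)) ?_
      refine (modPowπ_app_eq_zero_iff hV _).1 ?_
      rw [Scheme.Modules.Hom.app_smul]
      exact smul_ker_eq_zero (α.app (op n)) (hker n) hb _ h0
    rw [IM_eq] at htg
    have ht0 : t = 0 := hAR.2 t (by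
      rw [IM_eq]
      have := sub_mem hg (Submodule.smul_mono_left (Ideal.pow_le_pow_right hk) htg)
      rwa [sub_sub_cancel] at this) ht
    rwa [ht0, sub_zero] at htg
  -- the components
  let cmpL : Γ(Φ G I k₀ a, V) →ₗ[R] (Fin r → M) := LinearMap.pi fun i => QC70.appLinear (comp G I k₀ a i) V
  have hcmp : Function.Injective cmpL := fun φ φ' h => Φ_ext fun i => congrFun h i
  have hcmem : ∀ φ i, cmpL φ i ∈ J ^ k₀ • (⊤ : Submodule R M) := fun φ i => by
    rw [← IM_eq]
    exact comp_mem hV φ i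
  obtain ⟨k₁, hk₁⟩ := J.exists_pow_inf_eq_pow_smul (LinearMap.range cmpL)
  -- the relations
  let N₀ : Submodule R (Fin r → M) := Submodule.pi Set.univ fun _ => J ^ k₀ • (⊤ : Submodule R M)
  let ρ : (Fin r → M) →ₗ[R] (Fin r → Fin r → M) := LinearMap.pi fun i => LinearMap.pi fun j =>
    gi A X V (a j) • LinearMap.proj (φ := fun _ : Fin r => M) i -
      gi A X V (a i) • LinearMap.proj (φ := fun _ : Fin r => M) j
  obtain ⟨k₂, hk₂⟩ := J.exists_pow_inf_eq_pow_smul (LinearMap.range (ρ.comp N₀.subtype))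
  have hrel : ∀ n (y : Γ(F.obj (op n), V)) (φ : Γ(Φ G I k₀ a, V)),
      ((y, φ) ∈ d.rel V n ↔ ∀ i, gi A X V (a i) • y = θ n (cmpL φ i)) := fun n y φ => by
    have e1 : ∀ i, (biproduct.π (fun _ : Fin r => F.obj (op n)) i).app V ((d.μ.app (op n)).app V y) =
        gi A X V (a i) • y := fun i =>
      congrArg (fun f => (Scheme.Modules.Hom.app f V) y)
        (biproduct.lift_π (fun i => Formal.smulMod A (F.obj (op n)) (a i)) i)
    have e2 : ∀ i, (biproduct.π (fun _ : Fin r => F.obj (op n)) i).app V ((d.ν n).app V φ) = θ n (cmpL φ i) := fun i =>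
      congrArg (fun f => (Scheme.Modules.Hom.app f V) φ)
        (biproduct.lift_π (fun i => comp G I k₀ a i ≫ toF G I α n) i)
    constructor
    · intro h i
      rw [← e1, ← e2]
      exact congrArg _ h
    · intro h
      exact biproduct_elt_ext fun i => (e1 i).trans ((h i).trans (e2 i).symm)
  refine ⟨k₀ + k₀ + k₁ + k₂, ⟨fun h y g hy => d.rel_mono h y g hy, fun n y => ?_, fun n φ hφ => ?_,
    fun n φ hφ => (hrel n 0 φ).2 fun i => ?_, fun n y hy b hb => ?_, fun n φ b hb => ?_⟩⟩
  · let m := n + (k₀ + k₀ + k₁ + k₂)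
    change Γ(F.obj (op m), V) at y
    have hy : ∀ i, gi A X V (a i) • y ∈ (J ^ k₀ • (⊤ : Submodule R M)).map (θ m) := fun i => by
      rw [Submodule.map_smul'', Submodule.map_top]
      refine Submodule.smul_mono le_rfl (hθimg m) ?_
      rw [← mul_smul, ← pow_add, ← Ideal.map_pow]
      exact Submodule.smul_mem_smul (Ideal.mem_map_of_mem _ (ha i)) Submodule.mem_top
    choose g hg hge using hy
    have hgN : g ∈ N₀ := fun i _ => hg i
    have hρ : ρ g ∈ J ^ (m + 1 - k₀) • (⊤ : Submodule R (Fin r → Fin r → M)) ⊓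
        LinearMap.range (ρ.comp N₀.subtype) := by
      refine ⟨mem_smul_top_of_forall fun i => mem_smul_top_of_forall fun j => ?_, ⟨⟨g, hgN⟩, rfl⟩⟩
      refine hsmall m _ _ ?_ ?_ (by omega) (by omega)
      · show θ m (gi A X V (a j) • g i - gi A X V (a i) • g j) = 0
        rw [map_sub, map_smul, map_smul, hge, hge, smul_comm, sub_self]
      · exact sub_mem (Submodule.smul_mem _ _ (hg i)) (Submodule.smul_mem _ _ (hg j))
    rw [hk₂ _ (by omega)] at hρ
    obtain ⟨⟨ε, hεN⟩, hε, hεe⟩ := exists_mem_smul_top _ (Submodule.smul_mono le_rfl inf_le_right hρ)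
    have hε' : ε ∈ J ^ (n + 1) • (⊤ : Submodule R (Fin r → M)) := by
      have h := Submodule.mem_map_of_mem (f := N₀.subtype) hε
      rw [Submodule.map_smul''] at h
      exact Submodule.smul_mono (Ideal.pow_le_pow_right (by omega)) le_top h
    have hεe' : ρ ε = ρ g := hεe
    obtain ⟨φ, hφ⟩ := exists_Φ_elt (G := G) (I := I) (k₀ := k₀) (a := a) (V := V) (g - ε)
      (fun i => modPowπ_app_eq_zero_of_mem (by rw [IM_eq]; exact sub_mem (hg i) (hεN i trivial))) fun i j => by
        have := congrFun (congrFun hεe' i) j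
        change gi A X V (a j) • ε i - gi A X V (a i) • ε j = gi A X V (a j) • g i - gi A X V (a i) • g j at this
        change gi A X V (a j) • (g i - ε i) = gi A X V (a i) • (g j - ε j)
        rw [smul_sub, smul_sub, ← sub_eq_zero]
        linear_combination (norm := abel) -this
    refine ⟨φ, (hrel n _ φ).2 fun i => ?_⟩
    show gi A X V (a i) • sectTr F V (Nat.le_add_right n _) y = θ n ((comp G I k₀ a i).app V φ)
    rw [hφ, ← map_smul, ← hge i]
    refine (hθtr _ (g i)).trans ?_
    show θ n (g i) = θ n (g i - ε i)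
    rw [map_sub, hθ0 n _ (apply_mem_smul_top hε' i), sub_zero]
  · have h := (hrel _ 0 φ).1 hφ
    have hmem : cmpL φ ∈ J ^ (n + (k₀ + k₀ + k₁ + k₂) + 1 - k₀) • (⊤ : Submodule R (Fin r → M)) ⊓
        LinearMap.range cmpL :=
      ⟨mem_smul_top_of_forall fun i => hsmall _ _ _ ((h i).symm.trans (smul_zero _)) (hcmem φ i) (by omega) (by omega),
        LinearMap.mem_range_self _ φ⟩
    rw [hk₁ _ (by omega)] at hmem
    obtain ⟨φ', hφ', e⟩ := exists_mem_smul_top _ (Submodule.smul_mono (Ideal.pow_le_pow_right (show n + 1 ≤ _ by omega))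
      inf_le_right hmem)
    rwa [← hcmp e]
  · change φ ∈ J ^ (n + 1) • (⊤ : Submodule R Γ(Φ G I k₀ a, V)) at hφ
    rw [smul_zero]
    refine (hθ0 n _ ?_).symm
    have h := Submodule.mem_map_of_mem (f := QC70.appLinear (comp G I k₀ a i) V) hφ
    rw [Submodule.map_smul''] at h
    exact Submodule.smul_mono le_rfl le_top h
  · replace hy := d.rel_mono (Nat.le_add_right n (k₀ + k₀ + k₁ + k₂)) y 0 hy
    revert hy
    generalize sectTr d.F V (Nat.le_add_right n (k₀ + k₀ + k₁ + k₂)) y = y
    intro hy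
    change Γ(F.obj (op n), V) at y
    rw [← Ideal.map_pow] at hb
    obtain ⟨l, rfl⟩ := (Submodule.mem_span_range_iff_exists_fun R).1 (hgen hb)
    show (∑ i, l i • gi A X V (a i)) • (y : Γ(F.obj (op n), V)) = 0
    rw [Finset.sum_smul]
    refine Finset.sum_eq_zero fun i _ => ?_
    rw [smul_assoc, (hrel n y 0).1 hy i, map_zero]
    show l i • θ n 0 = 0
    rw [map_zero, smul_zero]
  · change Γ(Φ G I k₀ a, V) at φ
    rw [← Ideal.map_pow] at hb
    obtain ⟨l, rfl⟩ := (Submodule.mem_span_range_iff_exists_fun R).1 (hgen hb)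
    refine ⟨θ n (∑ j, l j • cmpL φ j), (hrel n _ _).2 fun i => ?_⟩
    show gi A X V (a i) • θ n (∑ j, l j • cmpL φ j) =
      θ n (cmpL ((∑ i, l i • gi A X V (a i)) • (φ : Γ(Φ G I k₀ a, V))) i)
    rw [← map_smul, map_smul cmpL, Pi.smul_apply, Finset.smul_sum, Finset.sum_smul]
    refine congrArg _ (Finset.sum_congr rfl fun j _ => ?_)
    rw [smul_comm, smul_assoc]
    exact congrArg _ (comp_rel φ j i)

end Right

/-- A formal system receiving a completion with bounded kernel and cokernel is algebraizable. -/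
theorem exists_algebraization_right [IsNoetherian X] {I : Ideal A} {G : X.Modules} (hG : Coh.IsCoh G)
    {F : ℕᵒᵖ ⥤ X.Modules} (hF : Formal.IsCohFormal I F) (α : Formal.completion I G ⟶ F)
    (hα : Formal2.KerCokerKilledByIPow I α) :
    ∃ (F' : X.Modules) (w : G ⟶ F') (β : Formal.completion I F' ≅ F), Coh.IsCoh F' ∧
      Formal2.KerCokerKilledByIPowHom I w ∧
      ∀ n : ℕ, Formal.modPowπ I (n + 1) G ≫ α.app (op n) =
        w ≫ Formal.modPowπ I (n + 1) F' ≫ β.hom.app (op n) := by
  classical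
  obtain ⟨t, ht⟩ := hα
  obtain ⟨S, hS⟩ := Formal27.exists_cover (X := X)
  haveI := hG.1
  choose kW hkW using fun W : X.affineOpens => exists_arBound I (t + 1) G hG W.2
  let k₀ := S.sup kW
  obtain ⟨r, a, ha, hgen⟩ := exists_generators (I ^ (k₀ + (t + 1))) S
  let d := Right.data G I k₀ a hF hG α
  have hrel : ∀ W ∈ S, ∃ k, d.SecRel W.1 (k₀ + (t + 1)) k := fun W hW =>
    Right.secRel G I k₀ a hF hG α (fun n => (ht n).1) (fun n => (ht n).2) W.2
      ((hkW W).mono (Finset.le_sup hW)) ha (hgen W hW)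
  obtain ⟨F', q, β, hF', hq, -, -, huniv⟩ := d.exists_algebraization S hS _ hrel
  obtain ⟨v, hv⟩ := Right.exists_mult G I k₀ a fun i => Ideal.pow_le_pow_right (Nat.le_add_right k₀ _) (ha i)
  obtain ⟨w, hw, hwp⟩ := huniv G (fun n => Right.toF G I α n) v (fun h => Right.toF_comp G I α h) fun n =>
    biproduct.hom_ext _ _ fun i => by
      show (Right.toF G I α n ≫ biproduct.lift fun i => Formal.smulMod A (F.obj (op n)) (a i)) ≫ biproduct.π _ i =
        (v ≫ biproduct.lift fun i => Right.comp G I k₀ a i ≫ Right.toF G I α n) ≫ biproduct.π _ i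
      refine ((Category.assoc _ _ _).trans (congrArg _ (biproduct.lift_π _ i))).trans ?_
      refine Eq.trans ?_ ((Category.assoc _ _ _).trans (congrArg (v ≫ ·)
        (biproduct.lift_π (fun i => Right.comp G I k₀ a i ≫ Right.toF G I α n) i))).symm
      refine (smulMod_comp (Right.toF G I α n) (a i)).trans ?_
      exact (congrArg (· ≫ Right.toF G I α n) (hv i)).symm.trans (Category.assoc _ _ _)
  refine ⟨F', w, β.symm, hF', ?_, fun n => (hwp n).symm⟩
  haveI := hF'.1
  have hv' : ∀ (V : X.Opens) (g : Γ(G, V)) (i : Fin r),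
      (Right.comp G I k₀ a i).app V (v.app V g) = gi A X V (a i) • g := fun V g i =>
    congrArg (fun f => (Scheme.Modules.Hom.app f V) g) (hv i)
  refine ⟨k₀ + (t + 1) + (k₀ + t), fun b hb => ?_, fun b hb => ?_⟩
  · have hb' : b ∈ I ^ (k₀ + (t + 1)) := Ideal.pow_le_pow_right (by omega) hb
    haveI := QC70.isQuasicoherent_kernel w
    refine eq_zero_of_cover _ (S : Set X.affineOpens) hS fun W hW x => ?_
    refine QC70.app_injective_of_mono (kernel.ι w) W.1 ?_
    rw [map_zero, smulMod_app, Scheme.Modules.Hom.app_smul]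
    have h0 : v.app W.1 ((kernel.ι w).app W.1 x) = 0 := by
      rw [← hw]
      show q.app W.1 (w.app W.1 ((kernel.ι w).app W.1 x)) = 0
      rw [show w.app W.1 ((kernel.ι w).app W.1 x) = 0 from
        QC70.app_f_g (ShortComplex.mk (kernel.ι w) w (kernel.condition w)) W.1 x, map_zero]
    obtain ⟨l, hl⟩ := (Submodule.mem_span_range_iff_exists_fun Γ(X, W.1)).1
      (hgen W hW (Ideal.mem_map_of_mem (gi A X W.1) hb'))
    rw [← hl, Finset.sum_smul]
    refine Finset.sum_eq_zero fun i _ => ?_
    rw [smul_assoc, ← hv' _ _ i, h0, map_zero, smul_zero]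
  · have hmul : I ^ (k₀ + (t + 1) + (k₀ + t) + 1) = I ^ (k₀ + (t + 1)) * I ^ (k₀ + (t + 1)) := by
      rw [← pow_add]; congr 1
    rw [hmul] at hb
    refine (cancel_epi (cokernel.π w)).1 ?_
    rw [comp_zero, smulMod_comp]
    refine eq_zero_of_cover _ (S : Set X.affineOpens) hS fun W hW x => ?_
    change (cokernel.π w).app W.1 (gi A X W.1 b • x) = 0
    refine Submodule.mul_induction_on hb (fun b₁ hb₁ b₂ hb₂ => ?_) fun b₁ b₂ h₁ h₂ => ?_
    · obtain ⟨l, hl⟩ := (Submodule.mem_span_range_iff_exists_fun Γ(X, W.1)).1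
        (hgen W hW (Ideal.mem_map_of_mem (gi A X W.1) hb₂))
      rw [map_mul, mul_smul, ← hl, Finset.sum_smul, Finset.smul_sum, map_sum]
      refine Finset.sum_eq_zero fun j _ => ?_
      rw [smul_assoc, smul_comm, Scheme.Modules.Hom.app_smul]
      refine (congrArg (l j • ·) ?_).trans (smul_zero _)
      let g := (Right.comp G I k₀ a j).app W.1 (q.app W.1 x)
      have h0 : q.app W.1 (gi A X W.1 (a j) • x - w.app W.1 g) = 0 := by
        rw [map_sub, Scheme.Modules.Hom.app_smul, sub_eq_zero]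
        refine Right.Φ_ext fun i => ?_
        refine Eq.trans ?_ (congrArg ((Right.comp G I k₀ a i).app W.1)
          (congrArg (fun f => (Scheme.Modules.Hom.app f W.1) g) hw)).symm
        exact ((Scheme.Modules.Hom.app_smul (Right.comp G I k₀ a i) _ (q.app W.1 x)).trans
          (Right.comp_rel (q.app W.1 x) i j)).trans (hv' _ g i).symm
      have h1 := smul_ker_eq_zero q hq hb₁ _ h0
      rw [smul_sub, sub_eq_zero] at h1
      rw [h1, ← Scheme.Modules.Hom.app_smul w]
      exact QC70.app_f_g (ShortComplex.mk w (cokernel.π w) (cokernel.condition w)) W.1 _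
    · rw [map_add, add_smul, map_add, h₁, h₂, add_zero]

end Groth.Agent.Algz14
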