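import Groth.Agent.Algz14.CompExt
import Groth.Agent.Algz14.ExistRight
import Groth.Agent.Desc59.QCohDesc
import Groth.Agent.S0829
import Mathlib.CategoryTheory.Abelian.Exact
import Mathlib.AlgebraicGeometry.Morphisms.Flat

/-!
Being extendable only depends on a formal system up to bounded torsion (row S9537).
-/

set_option autoImplicit false
set_option linter.style.haveILetI false
set_option linter.unusedSectionVars false

universe u

open CategoryTheory CategoryTheory.Limits AlgebraicGeometry Opposite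

noncomputable section

namespace Groth.Agent.Algz14

open Formal27

section Killed

variable {A : Type u} [CommRing A] {X : Scheme.{u}} [X.Over (Spec (CommRingCat.of A))]

theorem killedBy_of_mono {J : Ideal A} {K K' : X.Modules} (i : K ⟶ K') [Mono i] (h : Formal.KilledBy J K') :
    Formal.KilledBy J K := fun a ha => by
  rw [← cancel_mono i, ← smulMod_comp, h a ha, comp_zero, zero_comp]

variable {I : Ideal A} {F G H : ℕᵒᵖ ⥤ X.Modules}

theorem kerCoker_iso_comp (e : H ≅ F) {α : F ⟶ G} (hα : Formal2.KerCokerKilledByIPow I α) :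
    Formal2.KerCokerKilledByIPow I (e.hom ≫ α) := by
  obtain ⟨t, ht⟩ := hα
  refine ⟨t, fun n => ⟨?_, ?_⟩⟩
  · exact killedBy_of_mono (kernelIsIsoComp (e.hom.app (op n)) (α.app (op n))).hom (ht n).1
  · exact killedBy_of_mono (cokernelEpiComp (e.hom.app (op n)) (α.app (op n))).hom (ht n).2

theorem kerCoker_comp_iso (e : G ≅ H) {α : F ⟶ G} (hα : Formal2.KerCokerKilledByIPow I α) :
    Formal2.KerCokerKilledByIPow I (α ≫ e.hom) := by
  obtain ⟨t, ht⟩ := hα
  refine ⟨t, fun n => ⟨?_, ?_⟩⟩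
  · exact killedBy_of_mono (kernelCompMono (α.app (op n)) (e.hom.app (op n))).hom (ht n).1
  · exact killedBy_of_mono (cokernelCompIsIso (α.app (op n)) (e.hom.app (op n))).hom (ht n).2

end Killed

section OverChange

variable {A B : Type u} [CommRing A] [CommRing B] (φ : A →+* B) (X : Scheme.{u}) [X.Over (Spec (CommRingCat.of B))]

/-- The structure over the smaller ring. -/
@[implicit_reducible] def overRestrict : X.Over (Spec (CommRingCat.of A)) :=
  ⟨(X ↘ Spec (CommRingCat.of B)) ≫ specMap φ⟩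

variable {X}

theorem toGlobal_comp_specMap (f : X ⟶ Spec (CommRingCat.of B)) (a : A) :
    Coh.toGlobal (f ≫ specMap φ) a = Coh.toGlobal f (φ a) := by
  have h := congrArg (fun t => t.hom a) (Scheme.ΓSpecIso_inv_naturality (CommRingCat.ofHom φ))
  simp only [Coh.toGlobal]
  exact (congrArg f.appTop.hom h.symm)

theorem smulMod_restrict (N : X.Modules) (a : A) :
    Formal.smulMod B N (φ a) = @Formal.smulMod A _ X (overRestrict φ X) N a :=
  (congrArg (Formal.smulModΓ N) (toGlobal_comp_specMap φ (X ↘ Spec (CommRingCat.of B)) a)).symm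

theorem smulMod_comp_eq_zero_restrict {J : Ideal A} {N Z : X.Modules} (g : N ⟶ Z)
    (h : ∀ a ∈ J, @Formal.smulMod A _ X (overRestrict φ X) N a ≫ g = 0) :
    ∀ b ∈ J.map φ, Formal.smulMod B N b ≫ g = 0 := by
  intro b hb
  induction hb using Submodule.span_induction with
  | mem x hx =>
    obtain ⟨a, ha, rfl⟩ := hx
    rw [smulMod_restrict]
    exact h a ha
  | zero => rw [smulMod_zero, zero_comp]
  | add x y _ _ hx hy => rw [smulMod_add, Preadditive.add_comp, hx, hy, add_zero]
  | smul c x _ hx => rw [smul_eq_mul, smulMod_mul, ← smulMod_comp, Category.assoc, hx, comp_zero]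

theorem killedBy_map {J : Ideal A} {N : X.Modules} (h : @Formal.KilledBy A _ X (overRestrict φ X) J N) :
    Formal.KilledBy (J.map φ) N := fun b hb => by
  simpa using smulMod_comp_eq_zero_restrict φ (𝟙 N) (fun a ha => by rw [Category.comp_id]; exact h a ha) b hb

theorem isCohFormal_of_restrict {I : Ideal A} (G : ℕᵒᵖ ⥤ X.Modules)
    (hG : @Formal.IsCohFormal A _ X (overRestrict φ X) I G) : Formal.IsCohFormal (I.map φ) G := by
  have hmap : ∀ n, (I.map φ) ^ (n + 1) = (I ^ (n + 1)).map φ := fun n => (Ideal.map_pow φ I (n + 1)).symm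
  refine ⟨hG.1, fun n => hmap n ▸ killedBy_map φ (hG.2.1 n), fun n => ?_⟩
  obtain ⟨hz, hiso⟩ := hG.2.2 n
  let t := G.map (homOfLE (Nat.le_succ n)).op
  have hzA : ∀ a ∈ I ^ (n + 1), @Formal.smulMod A _ X (overRestrict φ X) (G.obj (op (n + 1))) a ≫ t = 0 :=
    fun a ha => by
      letI := overRestrict φ X
      rw [← smulMod_comp, hG.2.1 n a ha, comp_zero]
  have hz' : Formal.smulFamily ((I.map φ) ^ (n + 1)) (G.obj (op (n + 1))) ≫ t = 0 :=
    smulFamily_comp_eq_zero _ fun b hb => smulMod_comp_eq_zero_restrict φ t hzA b (hmap n ▸ hb)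
  refine ⟨hz', ?_⟩
  let π' := Formal.modPowπ (I.map φ) (n + 1) (G.obj (op (n + 1)))
  have hπ : ∀ a ∈ I ^ (n + 1), @Formal.smulMod A _ X (overRestrict φ X) (G.obj (op (n + 1))) a ≫ π' = 0 :=
    fun a ha => by
      rw [← smulMod_restrict]
      exact smulMod_modPowπ (I.map φ) (n + 1) _ (hmap n ▸ Ideal.mem_map_of_mem φ ha)
  have hπ' : @Formal.smulFamily A _ X (overRestrict φ X) (I ^ (n + 1)) (G.obj (op (n + 1))) ≫ π' = 0 :=
    letI := overRestrict φ X
    smulFamily_comp_eq_zero _ hπ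
  haveI := hiso
  have ht : t = cokernel.π _ ≫ cokernel.desc _ _ hz := (cokernel.π_desc _ _ _).symm
  haveI : Epi t := by
    rw [ht]
    exact @epi_comp _ _ _ _ _ _ inferInstance _ (@IsIso.epi_of_iso _ _ _ _ _ hiso)
  refine @isIso_desc_of_factor _ _ _ _ _ _ _ _ _ hz' (inferInstanceAs (Epi t))
    (inv (cokernel.desc _ _ hz) ≫ cokernel.desc _ π' hπ') ?_
  exact (congrArg (· ≫ _) ht).trans ((Category.assoc _ _ _).trans
    ((congrArg (cokernel.π _ ≫ ·) (IsIso.hom_inv_id_assoc _ _)).trans (cokernel.π_desc _ _ _)))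

end OverChange

section Pullback

variable {A : Type u} [CommRing A] {X Y : Scheme.{u}} [X.Over (Spec (CommRingCat.of A))]
  [Y.Over (Spec (CommRingCat.of A))] (f : X ⟶ Y) (hf : f ≫ (Y ↘ Spec (CommRingCat.of A)) = X ↘ Spec (CommRingCat.of A))

include hf in
theorem killedBy_pullback {J : Ideal A} {M : Y.Modules} (h : Formal.KilledBy J M) :
    Formal.KilledBy J ((Scheme.Modules.pullback f).obj M) := fun a ha => by
  rw [← pullback_map_smulMod f hf, h a ha, Functor.map_zero]

include hf in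
theorem kerCoker_pullback [Flat f] {I : Ideal A} {F G : ℕᵒᵖ ⥤ Y.Modules} (α : F ⟶ G)
    (hα : Formal2.KerCokerKilledByIPow I α) :
    Formal2.KerCokerKilledByIPow I (Functor.whiskerRight α (Scheme.Modules.pullback f)) := by
  obtain ⟨t, ht⟩ := hα
  haveI : (Scheme.Modules.pullback f).PreservesMonomorphisms :=
    ⟨fun u _ => Desc59.QCohDesc.mono_pullback f u⟩
  haveI := Functor.preservesHomology_of_preservesMonos_and_cokernels (Scheme.Modules.pullback f)
  haveI : ∀ n, PreservesLimit (parallelPair (α.app (op n)) 0) (Scheme.Modules.pullback f) := fun n =>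
    Functor.PreservesHomology.preservesKernel _ _
  refine ⟨t, fun n => ⟨?_, ?_⟩⟩
  · exact killedBy_of_mono (PreservesKernel.iso (Scheme.Modules.pullback f) (α.app (op n))).inv
      (killedBy_pullback f hf (ht n).1)
  · exact killedBy_of_mono (PreservesCokernel.iso (Scheme.Modules.pullback f) (α.app (op n))).inv
      (killedBy_pullback f hf (ht n).2)

end Pullback

variable {A : Type u} [CommRing A] [IsNoetherianRing A]

theorem extends_iff_of_kerCoker (I : Ideal A) (U : (Spec (CommRingCat.of A)).Opens)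
    (G G' : ℕᵒᵖ ⥤ (U : Scheme.{u}).Modules) (hG : Formal.IsCohFormal I G) (hG' : Formal.IsCohFormal I G')
    (α : G ⟶ G') (hα : Formal2.KerCokerKilledByIPow I α) :
    @Algz.Extends A _ (Spec (CommRingCat.of A)) ⟨𝟙 (Spec (CommRingCat.of A))⟩ I U G ↔
      @Algz.Extends A _ (Spec (CommRingCat.of A)) ⟨𝟙 (Spec (CommRingCat.of A))⟩ I U G' := by
  let φ₀ : A →+* AdicCompletion I A := algebraMap A (AdicCompletion I A)
  haveI := CAlg1.isNoetherianRing_adicCompletion I (IsNoetherian.noetherian I)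
  haveI : IsNoetherianRing ↑(CommRingCat.of (AdicCompletion I A)) := ‹IsNoetherianRing (AdicCompletion I A)›
  haveI : IsLocallyNoetherian (↑(specMap φ₀ ⁻¹ᵁ U) : Scheme.{u}) :=
    isLocallyNoetherian_of_isOpenImmersion (specMap φ₀ ⁻¹ᵁ U).ι
  haveI : CompactSpace (↑(specMap φ₀ ⁻¹ᵁ U) : Scheme.{u}) :=
    isCompact_iff_compactSpace.mp (TopologicalSpace.NoetherianSpace.isCompact _)
  haveI : AlgebraicGeometry.IsNoetherian (↑(specMap φ₀ ⁻¹ᵁ U) : Scheme.{u}) := ⟨⟩
  let f := specMap φ₀ ∣_ U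
  haveI : Flat (specMap φ₀) :=
    (HasRingHomProperty.Spec_iff (P := @Flat)).2 (RingHom.flat_algebraMap_iff.2 inferInstance)
  haveI : Flat f := IsZariskiLocalAtTarget.restrict ‹Flat (specMap φ₀)› U
  let P := Scheme.Modules.pullback f
  letI iA : (↑(specMap φ₀ ⁻¹ᵁ U) : Scheme.{u}).Over (Spec (CommRingCat.of A)) :=
    overRestrict φ₀ _
  have hf : f ≫ ((U : Scheme.{u}) ↘ Spec (CommRingCat.of A)) =
      (↑(specMap φ₀ ⁻¹ᵁ U) : Scheme.{u}) ↘ Spec (CommRingCat.of A) := morphismRestrict_ι (specMap φ₀) U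
  have hcoh : ∀ (H : ℕᵒᵖ ⥤ (U : Scheme.{u}).Modules), Formal.IsCohFormal I H →
      Formal.IsCohFormal (I.map φ₀) (H ⋙ P) := fun H hH => by
    refine isCohFormal_of_restrict φ₀ _ (Formal27.isCohFormal_pullback f hf H hH fun n => ?_)
    haveI := (hH.1 n).1
    haveI := (hH.1 n).2
    exact ⟨QCPull72.isQuasicoherent_pullback _ _, QCPull72.isFiniteType_pullback _ _⟩
  have hα' : Formal2.KerCokerKilledByIPow (I.map φ₀) (Functor.whiskerRight α P) := by
    obtain ⟨t, ht⟩ := kerCoker_pullback f hf α hα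
    exact ⟨t, fun n => ⟨(Ideal.map_pow φ₀ I (t + 1)) ▸ killedBy_map φ₀ (ht n).1,
      (Ideal.map_pow φ₀ I (t + 1)) ▸ killedBy_map φ₀ (ht n).2⟩⟩
  constructor
  · intro h
    obtain ⟨F', hF', ⟨e⟩⟩ := exists_completion_of_extends I U G h
    obtain ⟨F'', w, β, hF'', -, -⟩ := exists_algebraization_right hF' (hcoh G' hG') (e.hom ≫ Functor.whiskerRight α P)
      (kerCoker_iso_comp e hα')
    exact extends_of_completion I U G' hG' F'' hF'' β
  · intro h
    obtain ⟨F', hF', ⟨e⟩⟩ := exists_completion_of_extends I U G' h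
    obtain ⟨F'', a, β, hF'', -, -⟩ := S0829.result (AdicCompletion I A) (I.map φ₀) _ F' hF' (G ⋙ P) (hcoh G hG)
      (Functor.whiskerRight α P ≫ e.inv) (kerCoker_comp_iso e.symm hα')
    exact extends_of_completion I U G hG F'' hF'' β.symm

end Groth.Agent.Algz14
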