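import Groth.Agent.Algz14.Existence
import Groth.Agent.Desc59.FlatH0
import Groth.Agent.TildePull72.Basic

/-!
Sections of a quasi-coherent module on an open of `Spec A` commute with flat base change.
-/

set_option autoImplicit false
set_option linter.style.haveILetI false

universe u

open CategoryTheory CategoryTheory.Limits AlgebraicGeometry Opposite TensorProduct
open Groth.Agent.QC70

noncomputable section

namespace Groth.Agent.Algz14

section Injective

open Desc59.FlatH0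

variable {X Y X' Y' : Scheme.{u}} {f : X ⟶ Y} {g : Y' ⟶ Y} {f' : X' ⟶ Y'} {g' : X' ⟶ X}
  [IsAffine Y] [IsAffine Y'] (F : X.Modules) [F.IsQuasicoherent] [CompactSpace X] [Flat g]

theorem μ_top_injective (H : IsPullback g' f' f g) : Function.Injective (μ f g f' g' F H ⊤) := by
  classical
  obtain ⟨n, U, hU, hcov⟩ := exists_finite_affine_cover (X := X) (O := ⊤) isCompact_univ
  letI : ∀ O : X.Opens, Module Γ(Y, ⊤) Γ(F, O) := baseModule f F
  letI := g.appTop.hom.toAlgebra
  haveI : Module.Flat Γ(Y, ⊤) Γ(Y', ⊤) := by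
    have h : RingHom.Flat (g.appLE ⊤ ⊤ le_top).hom :=
      HasRingHomProperty.appLE @Flat g inferInstance ⟨⊤, isAffineOpen_top _⟩ ⟨⊤, isAffineOpen_top _⟩ le_top
    have eg : g.appLE ⊤ ⊤ le_top = g.appTop := (Scheme.Hom.app_eq_appLE g (U := ⊤)).symm
    rw [eg] at h
    exact h
  refine (injective_iff_map_eq_zero _).2 fun z hz => ?_
  let ι : Γ(F, ⊤) →ₗ[Γ(Y, ⊤)] ∀ i, Γ(F, U i) := LinearMap.pi fun i => resLin f F (le_top : U i ≤ ⊤)
  have hι : Function.Injective ι := fun s t h =>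
    eq_of_cover F U (fun i => le_top) (fun x hx => hcov x hx) fun i => congrFun h i
  refine Module.Flat.lTensor_preserves_injective_linearMap (M := Γ(Y', ⊤)) ι hι ?_
  rw [map_zero]
  refine (TensorProduct.piRight Γ(Y, ⊤) Γ(Y, ⊤) Γ(Y', ⊤) fun i => Γ(F, U i)).injective (funext fun i => ?_)
  rw [map_zero, Pi.zero_apply]
  have hproj : ∀ w, TensorProduct.piRight Γ(Y, ⊤) Γ(Y, ⊤) Γ(Y', ⊤) (fun i => Γ(F, U i)) (ι.lTensor Γ(Y', ⊤) w) i =
      (resLin f F (le_top : U i ≤ ⊤)).lTensor Γ(Y', ⊤) w := by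
    intro w
    induction w with
    | zero => simp
    | add a b ha hb => rw [map_add, map_add, Pi.add_apply, ha, hb, map_add]
    | tmul a x => simp [ι]
  rw [hproj]
  refine (μ_bijective f f' g' F H (hU i).1).1 ?_
  rw [← μ_natural f f' g' F H, hz, map_zero]
  exact res_zero _

end Injective

/-- Transpose of a natural transformation along an adjunction. -/
def transposeNat {C D E : Type*} [Category C] [Category D] [Category E] {F : C ⥤ D} {L : D ⥤ E} {R : E ⥤ D}
    {H : C ⥤ E} (adj : L ⊣ R) (c : F ⟶ H ⋙ R) : F ⋙ L ⟶ H :=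
  Functor.whiskerRight c L ≫ (Functor.associator H R L).hom ≫ Functor.whiskerLeft H adj.counit ≫
    H.rightUnitor.hom

section Comparison

variable {A A' : Type u} [CommRing A] [CommRing A'] (φ : A →+* A')

/-- `Spec A' ⟶ Spec A`. -/
abbrev specMap : Spec (CommRingCat.of A') ⟶ Spec (CommRingCat.of A) := Spec.map (CommRingCat.ofHom φ)

variable (U : (Spec (CommRingCat.of A)).Opens)

/-- Sections over `U`, as a module over `A`. -/
abbrev secU {A : Type u} [CommRing A] (U : (Spec (CommRingCat.of A)).Opens) (G : (U : Scheme.{u}).Modules) :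
    ModuleCat.{u} A :=
  (Γm A).obj ((Scheme.Modules.pushforward U.ι).obj G)

/-- An element of `secU` as a section. -/
def toSec {A : Type u} [CommRing A] {U : (Spec (CommRingCat.of A)).Opens} {G : (U : Scheme.{u}).Modules}
    (x : secU U G) : Γ(G, U.ι ⁻¹ᵁ ⊤) := x

theorem toSec_smul (G : (U : Scheme.{u}).Modules) (a : A) (x : secU U G) :
    toSec (a • x) = U.ι.app ⊤ ((Scheme.ΓSpecIso (CommRingCat.of A)).inv.hom a) • toSec x :=
  rfl

theorem toSec_add (G : (U : Scheme.{u}).Modules) (x y : secU U G) : toSec (x + y) = toSec x + toSec y :=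
  rfl

/-- An element of `secU` as a global section of `U`. -/
def topSec {A : Type u} [CommRing A] {U : (Spec (CommRingCat.of A)).Opens} {G : (U : Scheme.{u}).Modules}
    (x : secU U G) : Γ(G, ⊤) := x

/-- A global section of `U` as an element of `secU`. -/
def ofTop {A : Type u} [CommRing A] (U : (Spec (CommRingCat.of A)).Opens) {G : (U : Scheme.{u}).Modules}
    (x : Γ(G, ⊤)) : secU U G := x

theorem topSec_smul (G : (U : Scheme.{u}).Modules) (a : A) (x : secU U G) :
    topSec (a • x) = U.ι.appLE ⊤ ⊤ le_top ((Scheme.ΓSpecIso (CommRingCat.of A)).inv.hom a) • topSec x := by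
  have h : U.ι.app ⊤ = U.ι.appLE ⊤ (U.ι ⁻¹ᵁ ⊤) le_rfl := Scheme.Hom.app_eq_appLE _
  exact (toSec_smul U G a x).trans (congrArg
    (fun t : Γ(Spec (CommRingCat.of A), ⊤) ⟶ Γ((U : Scheme.{u}), U.ι ⁻¹ᵁ ⊤) =>
      t ((Scheme.ΓSpecIso (CommRingCat.of A)).inv.hom a) • toSec x) h)

theorem topSec_ofTop_smul (G : (U : Scheme.{u}).Modules) (r : Γ(Spec (CommRingCat.of A), ⊤)) (x : Γ(G, ⊤)) :
    ofTop U (U.ι.appLE ⊤ ⊤ le_top r • x) =
      (Scheme.ΓSpecIso (CommRingCat.of A)).hom.hom r • ofTop U x := by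
  refine Eq.trans ?_ (topSec_smul U G _ (ofTop U x)).symm
  rw [show (Scheme.ΓSpecIso (CommRingCat.of A)).inv.hom ((Scheme.ΓSpecIso (CommRingCat.of A)).hom.hom r) = r from
    congrArg (fun t => t.hom r) (Scheme.ΓSpecIso (CommRingCat.of A)).hom_inv_id]
  rfl

theorem app_eq_app (a : A) :
    (specMap φ ∣_ U).app (U.ι ⁻¹ᵁ ⊤) (U.ι.app ⊤ ((Scheme.ΓSpecIso (CommRingCat.of A)).inv.hom a)) =
      (specMap φ ⁻¹ᵁ U).ι.app ⊤ ((Scheme.ΓSpecIso (CommRingCat.of A')).inv.hom (φ a)) := by
  have h : (Scheme.ΓSpecIso (CommRingCat.of A)).inv ≫ ((specMap φ ∣_ U) ≫ U.ι).appTop =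
      CommRingCat.ofHom φ ≫ (Scheme.ΓSpecIso (CommRingCat.of A')).inv ≫ (specMap φ ⁻¹ᵁ U).ι.appTop := by
    rw [morphismRestrict_ι, Scheme.Hom.comp_appTop, Scheme.ΓSpecIso_inv_naturality_assoc]
  exact congrArg (fun t => t.hom a) h

/-- Sections over `U` of a module to sections over `U'` of its inverse image. -/
def cmpFun (G : (U : Scheme.{u}).Modules) (x : secU U G) :
    secU (specMap φ ⁻¹ᵁ U) ((Scheme.Modules.pullback (specMap φ ∣_ U)).obj G) :=
  Amp73.pullS (specMap φ ∣_ U) G (U.ι ⁻¹ᵁ ⊤) (toSec x)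

theorem toSec_cmpFun (G : (U : Scheme.{u}).Modules) (x : secU U G) :
    toSec (cmpFun φ U G x) = Amp73.pullS (specMap φ ∣_ U) G (U.ι ⁻¹ᵁ ⊤) (toSec x) := rfl

theorem cmpFun_smul (G : (U : Scheme.{u}).Modules) (a : A) (x : secU U G) :
    cmpFun φ U G (a • x) = φ a • cmpFun φ U G x := by
  show toSec (cmpFun φ U G (a • x)) = toSec (φ a • cmpFun φ U G x)
  rw [toSec_smul, toSec_cmpFun, toSec_cmpFun, toSec_smul, Amp73.pullS_smul, app_eq_app φ]
  rfl

theorem cmpFun_add (G : (U : Scheme.{u}).Modules) (x y : secU U G) :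
    cmpFun φ U G (x + y) = cmpFun φ U G x + cmpFun φ U G y :=
  map_add (((Scheme.Modules.pullbackPushforwardAdjunction (specMap φ ∣_ U)).unit.app G).app _).hom (toSec x) (toSec y)

/-- `cmpFun` as a linear map. -/
def cmpLin (G : (U : Scheme.{u}).Modules) :
    secU U G ⟶ (ModuleCat.restrictScalars φ).obj
      (secU (specMap φ ⁻¹ᵁ U) ((Scheme.Modules.pullback (specMap φ ∣_ U)).obj G)) :=
  ModuleCat.ofHom (X := secU U G)
    (Y := (ModuleCat.restrictScalars φ).obj
      (secU (specMap φ ⁻¹ᵁ U) ((Scheme.Modules.pullback (specMap φ ∣_ U)).obj G)))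
    { toFun := cmpFun φ U G
      map_add' := cmpFun_add φ U G
      map_smul' := cmpFun_smul φ U G }

theorem cmpFun_naturality {G G' : (U : Scheme.{u}).Modules} (α : G ⟶ G') (x : secU U G) :
    ((Γm A').map ((Scheme.Modules.pushforward (specMap φ ⁻¹ᵁ U).ι).map
        ((Scheme.Modules.pullback (specMap φ ∣_ U)).map α))).hom (cmpFun φ U G x) =
      cmpFun φ U G' (((Γm A).map ((Scheme.Modules.pushforward U.ι).map α)).hom x) :=
  Amp73.map_app_pullS (specMap φ ∣_ U) α _ (toSec x)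

/-- `cmpLin` as a natural transformation. -/
def cmpNat : Scheme.Modules.pushforward U.ι ⋙ Γm A ⟶
    (Scheme.Modules.pullback (specMap φ ∣_ U) ⋙ Scheme.Modules.pushforward (specMap φ ⁻¹ᵁ U).ι ⋙ Γm A') ⋙
      ModuleCat.restrictScalars φ where
  app G := cmpLin φ U G
  naturality G G' α := ModuleCat.hom_ext (LinearMap.ext fun x => (cmpFun_naturality φ U α x).symm)

/-- The comparison as a natural transformation. -/
def cmp : (Scheme.Modules.pushforward U.ι ⋙ Γm A) ⋙ ModuleCat.extendScalars φ ⟶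
    Scheme.Modules.pullback (specMap φ ∣_ U) ⋙ Scheme.Modules.pushforward (specMap φ ⁻¹ᵁ U).ι ⋙ Γm A' :=
  transposeNat (ModuleCat.extendRestrictScalarsAdj.{u, u, u} φ) (cmpNat φ U)

theorem cmp_app_tmul (G : (U : Scheme.{u}).Modules) (a : A') (x : secU U G) :
    (letI := φ.toAlgebra; ((cmp φ U).app G).hom (a ⊗ₜ[A] x)) = a • cmpFun φ U G x := rfl

variable [IsNoetherianRing A]

theorem cmp_app_bijective (hφ : φ.Flat) (G : (U : Scheme.{u}).Modules) [G.IsQuasicoherent] :
    Function.Bijective ((cmp φ U).app G).hom := by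
  haveI : Flat (specMap φ) := HasRingHomProperty.Spec_iff.mpr hφ
  haveI : CompactSpace (U : Scheme.{u}) :=
    isCompact_iff_compactSpace.1 (TopologicalSpace.NoetherianSpace.isCompact (U : Set (Spec (CommRingCat.of A))))
  haveI : QuasiSeparatedSpace (U : Scheme.{u}) :=
    quasiSeparatedSpace_of_quasiSeparated (U.ι ≫ terminal.from _)
  have H := isPullback_morphismRestrict (specMap φ) U
  let e := Scheme.ΓSpecIso (CommRingCat.of A)
  let e' := Scheme.ΓSpecIso (CommRingCat.of A')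
  have hinj := μ_top_injective G H
  have hsurj := Desc59.FlatH0.exists_eq_μ U.ι (specMap φ ⁻¹ᵁ U).ι (specMap φ ∣_ U) G H
  letI := Desc59.FlatH0.baseModule U.ι G ⊤
  letI := (specMap φ).appTop.hom.toAlgebra
  letI := φ.toAlgebra
  let S := secU U G
  let Dom := Γ(Spec (CommRingCat.of A'), ⊤) ⊗[Γ(Spec (CommRingCat.of A), ⊤)] Γ(G, ⊤)
  have hsm : ∀ a : A, (specMap φ).appTop (e.inv.hom a) = e'.inv.hom (φ a) := fun a =>
    congrArg (fun t => t.hom a) (Scheme.ΓSpecIso_inv_naturality (CommRingCat.ofHom φ)).symm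
  let τ : A' ⊗[A] S →+ Dom := TensorProduct.liftAddHom
    (AddMonoidHom.mk' (fun a => AddMonoidHom.mk' (fun x : S => e'.inv.hom a ⊗ₜ topSec x)
        fun x y => (congrArg _ (show topSec (x + y) = topSec x + topSec y from rfl)).trans (TensorProduct.tmul_add _ _ _))
      fun a b => by ext x; exact (congrArg (· ⊗ₜ _) (map_add e'.inv.hom a b)).trans (TensorProduct.add_tmul _ _ _))
    fun r a x => by
      show e'.inv.hom (φ r * a) ⊗ₜ topSec x = e'.inv.hom a ⊗ₜ topSec (r • x)
      rw [topSec_smul, map_mul, ← hsm]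
      exact TensorProduct.smul_tmul (R := Γ(Spec (CommRingCat.of A), ⊤)) (e.inv.hom r) (e'.inv.hom a) (topSec x)
  let τ' : Dom →+ A' ⊗[A] S := TensorProduct.liftAddHom
    (AddMonoidHom.mk' (fun a => AddMonoidHom.mk' (fun x : Γ(G, ⊤) => e'.hom.hom a ⊗ₜ ofTop U x)
        fun x y => (congrArg _ (show ofTop U (x + y) = ofTop U x + ofTop U y from rfl)).trans (TensorProduct.tmul_add _ _ _))
      fun a b => by ext x; exact (congrArg (· ⊗ₜ _) (map_add e'.hom.hom a b)).trans (TensorProduct.add_tmul _ _ _))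
    fun r a x => by
      show e'.hom.hom ((specMap φ).appTop r * a) ⊗ₜ ofTop U x = e'.hom.hom a ⊗ₜ ofTop U (U.ι.appLE ⊤ ⊤ le_top r • x)
      rw [topSec_ofTop_smul, ← TensorProduct.smul_tmul, map_mul]
      congr 2
      exact congrArg (fun t => t.hom r) (Scheme.ΓSpecIso_naturality (CommRingCat.ofHom φ))
  have htm : ∀ (a : A') (x : S), Desc59.FlatH0.μ U.ι (specMap φ) (specMap φ ⁻¹ᵁ U).ι (specMap φ ∣_ U) G H ⊤
      (e'.inv.hom a ⊗ₜ topSec x) = topSec (a • cmpFun φ U G x) := fun a x =>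
    (topSec_smul (specMap φ ⁻¹ᵁ U) _ a (cmpFun φ U G x)).symm
  have hμτ : ∀ z, Desc59.FlatH0.μ U.ι (specMap φ) (specMap φ ⁻¹ᵁ U).ι (specMap φ ∣_ U) G H ⊤ (τ z) =
      ((cmp φ U).app G).hom z := fun z => by
    induction z using TensorProduct.induction_on with
    | zero => exact ((congrArg _ (map_zero τ)).trans (map_zero _)).trans (map_zero ((cmp φ U).app G).hom).symm
    | add a b ha hb =>
      exact ((congrArg _ (map_add τ a b)).trans (map_add _ _ _)).trans
        ((congrArg₂ (· + ·) ha hb).trans (map_add ((cmp φ U).app G).hom a b).symm)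
    | tmul a x => exact (htm a x).trans (cmp_app_tmul φ U G a x).symm
  have hττ : ∀ z, τ' (τ z) = z := fun z => by
    induction z using TensorProduct.induction_on with
    | zero => rw [map_zero, map_zero]
    | add a b ha hb => rw [map_add, map_add, ha, hb]
    | tmul a x =>
      show e'.hom.hom (e'.inv.hom a) ⊗ₜ x = a ⊗ₜ x
      rw [show e'.hom.hom (e'.inv.hom a) = a from congrArg (fun t => t.hom a) e'.inv_hom_id]
  have hττ' : ∀ z, τ (τ' z) = z := fun z => by
    induction z using TensorProduct.induction_on with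
    | zero => rw [map_zero, map_zero]
    | add a b ha hb => rw [map_add, map_add, ha, hb]
    | tmul a x =>
      show e'.inv.hom (e'.hom.hom a) ⊗ₜ x = a ⊗ₜ x
      rw [show e'.inv.hom (e'.hom.hom a) = a from congrArg (fun t => t.hom a) e'.hom_inv_id]
  refine ⟨fun z w h => ?_, fun s => ?_⟩
  · refine (hττ z).symm.trans ((congrArg τ' (hinj ?_)).trans (hττ w))
    exact ((hμτ z).trans h).trans (hμτ w).symm
  · obtain ⟨z, hz⟩ := hsurj s
    exact ⟨τ' z, (hμτ (τ' z)).symm.trans ((congrArg _ (hττ' z)).trans hz)⟩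

/-- Sections of systems of quasi-coherent modules commute with flat base change. -/
def sectBCIso (hφ : φ.Flat) (G : ℕᵒᵖ ⥤ (U : Scheme.{u}).Modules) (hq : ∀ n, (G.obj n).IsQuasicoherent) :
    Algz.sectMod A U G ⋙ ModuleCat.extendScalars φ ≅
      Algz.sectMod A' (specMap φ ⁻¹ᵁ U) (G ⋙ Scheme.Modules.pullback (specMap φ ∣_ U)) :=
  NatIso.ofComponents
    (fun n => @asIso _ _ _ _ ((cmp φ U).app (G.obj n))
      ((ConcreteCategory.isIso_iff_bijective _).2 (@cmp_app_bijective _ _ _ _ φ U _ hφ _ (hq n))))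
    fun {i j} f => (cmp φ U).naturality (G.map f)

end Comparison

end Groth.Agent.Algz14
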