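import Groth.Agent.Algz14.Sect
import Mathlib.Algebra.Category.ModuleCat.Subobject

/-!
Mittag-Leffler systems of modules and generation by the limit of sections (row S9551).
-/

set_option autoImplicit false
set_option linter.style.haveILetI false

universe u

open CategoryTheory CategoryTheory.Limits AlgebraicGeometry Opposite

noncomputable section

namespace Groth.Agent.Algz14

section Modules

variable {R : Type u} [CommRing R]

theorem range_eq_of_imageSubobject_eq {X X' Y : ModuleCat.{u} R} {f : X ⟶ Y} {g : X' ⟶ Y}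
    (h : imageSubobject f = imageSubobject g) : LinearMap.range f.hom = LinearMap.range g.hom := by
  have key : ∀ {X : ModuleCat.{u} R} (f : X ⟶ Y),
      LinearMap.range f.hom = LinearMap.range (imageSubobject f).arrow.hom := fun {X} f => by
    have hs : LinearMap.range (factorThruImageSubobject f).hom = ⊤ :=
      LinearMap.range_eq_top.2 ((ModuleCat.epi_iff_surjective _).1 inferInstance)
    conv_lhs => rw [← imageSubobject_arrow_comp f, ModuleCat.hom_comp, LinearMap.range_comp, hs,
      Submodule.map_top]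
  rw [key f, key g, h]

variable (X : ℕᵒᵖ ⥤ ModuleCat.{u} R)

theorem map_tr_comp {n m k : ℕ} (h : n ≤ m) (h' : m ≤ k) (x : X.obj (op k)) :
    (X.map (homOfLE h).op).hom ((X.map (homOfLE h').op).hom x) = (X.map (homOfLE (h.trans h')).op).hom x := by
  rw [show (homOfLE (h.trans h')).op = (homOfLE h').op ≫ (homOfLE h).op from rfl, Functor.map_comp]
  rfl

/-- The stable image. -/
def stable (n : ℕ) : Set (X.obj (op n)) :=
  {x | ∀ m (h : n ≤ m), x ∈ LinearMap.range (X.map (homOfLE h).op).hom}

theorem exists_stable_range (h : ARSys.IsML X) (n : ℕ) :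
    ∃ m, ∃ hm : n ≤ m, ∀ x, x ∈ LinearMap.range (X.map (homOfLE hm).op).hom → x ∈ stable X n := by
  obtain ⟨r, hr⟩ := h n
  refine ⟨n + r, Nat.le_add_right n r, fun x hx m hm => ?_⟩
  rcases le_total m (n + r) with h' | h'
  · obtain ⟨y, rfl⟩ := hx
    exact ⟨_, map_tr_comp X hm h' y⟩
  · obtain ⟨s, rfl⟩ := Nat.exists_eq_add_of_le hm
    exact (range_eq_of_imageSubobject_eq (hr s (by omega))).symm ▸ hx

theorem exists_stable_lift (h : ARSys.IsML X) (n : ℕ) (x : X.obj (op n)) (hx : x ∈ stable X n) :
    ∃ y ∈ stable X (n + 1), (X.map (homOfLE (Nat.le_succ n)).op).hom y = x := by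
  obtain ⟨m, hm, hst⟩ := exists_stable_range X h (n + 1)
  obtain ⟨z, hz⟩ := hx m ((Nat.le_succ n).trans hm)
  exact ⟨_, hst _ ⟨z, rfl⟩, (map_tr_comp X (Nat.le_succ n) hm z).trans hz⟩

theorem mem_range_limit_π (h : ARSys.IsML X) (n : ℕ) (x : X.obj (op n)) (hx : x ∈ stable X n) :
    x ∈ LinearMap.range (limit.π X (op n)).hom := by
  choose g hg₁ hg₂ using exists_stable_lift X h
  let z : ∀ k : ℕ, {y : X.obj (op (n + k)) // y ∈ stable X (n + k)} := fun k =>
    Nat.rec (motive := fun k => {y : X.obj (op (n + k)) // y ∈ stable X (n + k)}) ⟨x, hx⟩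
      (fun k p => ⟨g (n + k) p.1 p.2, hg₁ _ _ _⟩) k
  let y : ∀ k : ℕ, X.obj (op k) := fun k => (X.map (homOfLE (Nat.le_add_left k n)).op).hom (z k).1
  have hy : ∀ k, (X.map (homOfLE (Nat.le_succ k)).op).hom (y (k + 1)) = y k := fun k => by
    show (X.map _).hom ((X.map _).hom _) = (X.map _).hom (z k).1
    rw [map_tr_comp, ← hg₂ (n + k) (z k).1 (z k).2]
    exact (map_tr_comp X (Nat.le_add_left k n) (Nat.le_succ (n + k)) (z (k + 1)).1).symm
  have hy' : ∀ {i j : ℕ} (h : i ≤ j), (X.map (homOfLE h).op).hom (y j) = y i := by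
    intro i j hij
    induction j, hij using Nat.le_induction with
    | base =>
      rw [show (homOfLE (le_refl i)).op = 𝟙 (op i) from rfl, CategoryTheory.Functor.map_id]
      rfl
    | succ j hij ih => rw [← map_tr_comp X hij (Nat.le_succ j), hy, ih]
  have hyn : y n = x := by
    have : ∀ k, (X.map (homOfLE (Nat.le_add_right n k)).op).hom (z k).1 = x := fun k => by
      induction k with
      | zero => exact congrArg (fun φ => φ.hom x) (X.map_id (op n))
      | succ k ih =>
        refine Eq.trans ?_ ih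
        rw [← hg₂ (n + k) (z k).1 (z k).2]
        exact (map_tr_comp X (Nat.le_add_right n k) (Nat.le_succ (n + k)) (z (k + 1)).1).symm
    exact this n
  let c : Cone X :=
    { pt := ModuleCat.of R R
      π :=
        { app := fun k => ModuleCat.ofHom (LinearMap.toSpanSingleton R _ (y k.unop))
          naturality := fun j k f => ModuleCat.hom_ext (LinearMap.ext fun r => by
            show r • y k.unop = (X.map f).hom (r • y j.unop)
            rw [map_smul]
            exact congrArg (r • ·) (hy' (leOfHom f.unop)).symm) } }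
  refine ⟨(limit.lift X c).hom (1 : R), ?_⟩
  have := congrArg (fun φ => φ.hom (1 : R)) (limit.lift_π c (op n))
  refine (this : _).trans ?_
  show (1 : R) • y n = x
  rw [one_smul, hyn]

theorem range_limit_π_eq (h : ARSys.IsML X) (n : ℕ) :
    ∃ m, ∃ hm : n ≤ m, LinearMap.range (limit.π X (op n)).hom = LinearMap.range (X.map (homOfLE hm).op).hom := by
  obtain ⟨m, hm, hst⟩ := exists_stable_range X h n
  refine ⟨m, hm, le_antisymm ?_ fun x hx => mem_range_limit_π X h n x (hst x hx)⟩
  rintro _ ⟨x, rfl⟩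
  exact ⟨(limit.π X (op m)).hom x, congrArg (fun φ => φ.hom x) (limit.w X (homOfLE hm).op)⟩

end Modules

variable {A : Type u} [CommRing A] [IsNoetherianRing A] (U : (Spec (CommRingCat.of A)).Opens)

/-- The map out of the restricted tilde adjoint to a map into the sections. -/
def adjoint {T : ModuleCat.{u} A} {F : (U : Scheme.{u}).Modules}
    (h : T ⟶ (moduleSpecΓFunctor (R := CommRingCat.of A)).obj ((Scheme.Modules.pushforward U.ι).obj F)) :
    (Scheme.Modules.restrictFunctor U.ι).obj ((tilde.functor (CommRingCat.of A)).obj T) ⟶ F :=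
  ((Scheme.Modules.restrictAdjunction U.ι).homEquiv _ F).symm
    (((tilde.adjunction (R := CommRingCat.of A)).homEquiv T ((Scheme.Modules.pushforward U.ι).obj F)).symm h)

theorem adjoint_comp {S T : ModuleCat.{u} A} {F : (U : Scheme.{u}).Modules} (g : S ⟶ T)
    (h : T ⟶ (moduleSpecΓFunctor (R := CommRingCat.of A)).obj ((Scheme.Modules.pushforward U.ι).obj F)) :
    adjoint U (g ≫ h) = (Scheme.Modules.restrictFunctor U.ι).map ((tilde.functor (CommRingCat.of A)).map g) ≫
      adjoint U h := by
  rw [adjoint, adjoint, Adjunction.homEquiv_naturality_left_symm, Adjunction.homEquiv_naturality_left_symm]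

theorem adjoint_map {T : ModuleCat.{u} A} {F F' : (U : Scheme.{u}).Modules} (φ : F ⟶ F')
    (h : T ⟶ (moduleSpecΓFunctor (R := CommRingCat.of A)).obj ((Scheme.Modules.pushforward U.ι).obj F)) :
    adjoint U (h ≫ (moduleSpecΓFunctor (R := CommRingCat.of A)).map ((Scheme.Modules.pushforward U.ι).map φ)) =
      adjoint U h ≫ φ := by
  rw [adjoint, adjoint, Adjunction.homEquiv_naturality_right_symm, Adjunction.homEquiv_naturality_right_symm]

theorem epi_adjoint_id (F : (U : Scheme.{u}).Modules) (hF : F.IsQuasicoherent) :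
    Epi (adjoint U (F := F) (𝟙 _)) := by
  haveI := isIso_fromTilde _ (isQuasicoherent_push U F)
  rw [adjoint, Adjunction.homEquiv_counit, Adjunction.homEquiv_counit, CategoryTheory.Functor.map_id,
    Category.id_comp]
  haveI : IsIso ((tilde.adjunction (R := CommRingCat.of A)).counit.app ((Scheme.Modules.pushforward U.ι).obj F)) :=
    isIso_fromTilde _ (isQuasicoherent_push U F)
  infer_instance

omit [IsNoetherianRing A] in
theorem exists_image_factor {X Y T : ModuleCat.{u} A} (f : X ⟶ Y) (q : T ⟶ Y)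
    (hr : LinearMap.range f.hom ≤ LinearMap.range q.hom) :
    ∃ (S : ModuleCat.{u} A) (a : X ⟶ S) (b : S ⟶ Y) (c : T ⟶ S), a ≫ b = f ∧ c ≫ b = q ∧ Epi c :=
  ⟨ModuleCat.of A (LinearMap.range q.hom),
    ModuleCat.ofHom (LinearMap.codRestrict (LinearMap.range q.hom) f.hom fun x => hr ⟨x, rfl⟩),
    ModuleCat.ofHom (LinearMap.range q.hom).subtype, ModuleCat.ofHom q.hom.rangeRestrict,
    rfl, rfl, (ModuleCat.epi_iff_surjective _).2 q.hom.surjective_rangeRestrict⟩

theorem epi_adjoint_of_range {G : ℕᵒᵖ ⥤ (U : Scheme.{u}).Modules} (n : ℕ)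
    {m : ℕ} (hm : n ≤ m) (hq : (G.obj (op m)).IsQuasicoherent) (he : Epi (G.map (homOfLE hm).op))
    {T : ModuleCat.{u} A} (q : T ⟶ (Algz.sectMod A U G).obj (op n))
    (hr : LinearMap.range ((Algz.sectMod A U G).map (homOfLE hm).op).hom ≤ LinearMap.range q.hom) :
    Epi (adjoint U (F := G.obj (op n)) q) := by
  obtain ⟨S, a, b, c, hab, hcb, hc⟩ := exists_image_factor ((Algz.sectMod A U G).map (homOfLE hm).op) q hr
  have h1 : Epi (adjoint U (F := G.obj (op n)) ((Algz.sectMod A U G).map (homOfLE hm).op)) := by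
    have e : adjoint U (F := G.obj (op n)) ((Algz.sectMod A U G).map (homOfLE hm).op) =
        adjoint U (F := G.obj (op m)) (𝟙 _) ≫ G.map (homOfLE hm).op := by
      rw [← adjoint_map, Category.id_comp]
      rfl
    rw [e]
    exact @epi_comp _ _ _ _ _ _ (epi_adjoint_id U (G.obj (op m)) hq) _ he
  rw [(congrArg (adjoint U (F := G.obj (op n))) hab).symm.trans (adjoint_comp U a b)] at h1
  haveI := h1
  haveI : Epi (adjoint U (F := G.obj (op n)) b) :=
    epi_of_epi ((Scheme.Modules.restrictFunctor U.ι).map ((tilde.functor (CommRingCat.of A)).map a)) _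
  haveI := Functor.preservesEpimorphisms_of_adjunction (tilde.adjunction (R := CommRingCat.of A))
  haveI : Epi ((tilde.functor (CommRingCat.of A)).map c) :=
    @Functor.map_epi _ _ _ _ (tilde.functor (CommRingCat.of A)) _ _ _ c hc
  rw [(congrArg (adjoint U (F := G.obj (op n))) hcb).symm.trans (adjoint_comp U c b)]
  exact epi_comp _ _

theorem epi_limit (I : Ideal A) (G : ℕᵒᵖ ⥤ (U : Scheme.{u}).Modules) (hG : Formal.IsCohFormal I G)
    (ha : ARSys.IsML (Algz.sectMod A U G)) (n : ℕ) :
    Epi (adjoint U (F := G.obj (op n)) (limit.π (Algz.sectMod A U G) (op n))) := by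
  obtain ⟨m, hm, hr⟩ := range_limit_π_eq _ ha n
  exact epi_adjoint_of_range U n hm (hG.1 m).1 (epi_sysMap hG hm) _ hr.ge

end Groth.Agent.Algz14
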