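import Groth.Agent.Algz14.RelTower

/-!
An Artin–Rees lemma for submodules of adic towers, and stabilization of kernels of maps of towers.
-/

set_option autoImplicit false

universe u v

namespace Groth.Agent.Algz14.RelTower

variable {R : Type u} [CommRing R] {J : Ideal R} {F : ℕ → Type v} [∀ n, AddCommGroup (F n)] [∀ n, Module R (F n)]
variable {tr : ∀ ⦃n m : ℕ⦄, n ≤ m → F m →ₗ[R] F n}

theorem IsTower.exists_lift_mem (hT : IsTower J tr) (T : ∀ n, Submodule R (F n))
    (htr : ∀ n, (T (n + 1)).map (tr (Nat.le_succ n)) = T n) {n m : ℕ} (h : n ≤ m) {x : F n} (hx : x ∈ T n) :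
    ∃ x' ∈ T m, tr h x' = x := by
  induction m, h using Nat.le_induction with
  | base => exact ⟨x, hx, hT.self n x⟩
  | succ m h ih =>
    obtain ⟨x', hx', hx''⟩ := ih
    rw [← htr m] at hx'
    obtain ⟨z, hz, rfl⟩ := hx'
    exact ⟨z, hz, by rw [← hT.comp h (Nat.le_succ m), hx'']⟩

theorem IsTower.tr_mem (hT : IsTower J tr) (T : ∀ n, Submodule R (F n))
    (htr : ∀ n, (T (n + 1)).map (tr (Nat.le_succ n)) = T n) {n m : ℕ} (h : n ≤ m) {x : F m} (hx : x ∈ T m) :
    tr h x ∈ T n := by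
  induction m, h using Nat.le_induction with
  | base => rwa [hT.self]
  | succ m h ih =>
    rw [← hT.comp h (Nat.le_succ m)]
    exact ih ((htr m).le ⟨x, hx, rfl⟩)

/-- Artin–Rees for a tower of submodules with surjective transition maps. -/
theorem IsTower.exists_artinRees (hT : IsTower J tr) [IsNoetherianRing R] [Module.Finite R (F 0)]
    (T : ∀ n, Submodule R (F n)) (htr : ∀ n, (T (n + 1)).map (tr (Nat.le_succ n)) = T n) :
    ∃ d, ∀ {p m : ℕ} (h : p ≤ m), ∀ x ∈ T m, tr h x = 0 → x ∈ J ^ (p + 1 - d) • T m := by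
  obtain ⟨r, φ, hφs, hφ⟩ := hT.exists_gen
  have hsmul : ∀ {n m j : ℕ} (h : n ≤ m), m + 1 ≤ j + (n + 1) → ∀ a ∈ J ^ j, ∀ v, φ n v ∈ T n →
      ∃ x ∈ T m, φ m (a • v) = a • x := fun {n m j} h hj a ha v hv => by
    obtain ⟨x, hx, hxv⟩ := hT.exists_lift_mem T htr h hv
    refine ⟨x, hx, ?_⟩
    rw [map_smul]
    refine sub_eq_zero.1 ?_
    rw [← smul_sub]
    exact hT.smul_eq_zero hj ha (hT.ker h _ (by rw [map_sub, hφ, hxv, sub_self]))
  let S : J.Filtration (Fin r → R) :=
    { N := fun n => J ^ n • ⊤ ⊓ (T n).comap (φ n)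
      mono := fun n v hv => by
        refine ⟨Submodule.smul_mono_left (Ideal.pow_le_pow_right n.le_succ) hv.1, ?_⟩
        have h0 : φ n v = 0 := by
          refine Submodule.smul_induction_on hv.1 (fun a ha w _ => ?_) (fun x y hx hy => by rw [map_add, hx, hy, add_zero])
          rw [map_smul]
          exact hT.kill n a ha _
        show φ n v ∈ T n
        rw [h0]
        exact zero_mem _
      smul_le := fun n => Submodule.smul_le.2 fun a ha v hv => by
        refine ⟨?_, ?_⟩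
        · rw [pow_succ', mul_smul]
          exact Submodule.smul_mem_smul ha hv.1
        · obtain ⟨x, hx, e⟩ := hsmul (Nat.le_succ n) (j := 1) (by omega) a (by rwa [pow_one]) v hv.2
          show φ (n + 1) (a • v) ∈ T (n + 1)
          rw [e]
          exact Submodule.smul_mem _ _ hx }
  have hS : S.Stable := (J.stableFiltration_stable ⊤).of_le fun n => inf_le_left
  obtain ⟨n0, hn0⟩ := hS.exists_pow_smul_eq
  have hstep : ∀ q, n0 ≤ q + 1 → ∀ x ∈ T (q + 1), tr (Nat.le_succ q) x = 0 → x ∈ J ^ (q + 1 - n0) • T (q + 1) := by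
    intro q hq x hx h0
    have hx' := hT.ker (Nat.le_succ q) x h0
    rw [← LinearMap.range_eq_top.2 (hφs (q + 1)), ← Submodule.map_top, ← Submodule.map_smul''] at hx'
    obtain ⟨v, hv, rfl⟩ := hx'
    have hvS : v ∈ S.N (n0 + (q + 1 - n0)) := by
      rw [show n0 + (q + 1 - n0) = q + 1 by omega]
      exact ⟨hv, hx⟩
    rw [hn0] at hvS
    refine Submodule.smul_induction_on hvS (fun a ha w hw => ?_)
      (fun x y hx hy => by rw [map_add]; exact add_mem hx hy)
    obtain ⟨z, hz, e⟩ := hsmul (show n0 ≤ q + 1 by omega) (by omega) a ha w hw.2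
    rw [e]
    exact Submodule.smul_mem_smul ha hz
  refine ⟨n0, fun {p m} h => ?_⟩
  induction m, h using Nat.le_induction with
  | base =>
    intro x _ h0
    rw [hT.self] at h0
    rw [h0]
    exact zero_mem _
  | succ m h ih =>
    intro x hx h0
    rcases le_or_gt (p + 1) n0 with hp | hp
    · rw [show p + 1 - n0 = 0 by omega, pow_zero, Ideal.one_eq_top, Submodule.top_smul]
      exact hx
    rw [← hT.comp h (Nat.le_succ m)] at h0
    have h1 := ih (tr (Nat.le_succ m) x) ((htr m).le ⟨x, hx, rfl⟩) h0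
    rw [← htr m, ← Submodule.map_smul''] at h1
    obtain ⟨z, hz, hze⟩ := h1
    have h2 := hstep m (by omega) (x - z) (sub_mem hx (Submodule.smul_le_right hz)) (by rw [map_sub, hze, sub_self])
    have := add_mem hz (Submodule.smul_mono_left (Ideal.pow_le_pow_right (show p + 1 - n0 ≤ m + 1 - n0 by omega)) h2)
    rwa [add_sub_cancel] at this

variable {G : ℕ → Type v} [∀ n, AddCommGroup (G n)] [∀ n, Module R (G n)]
variable {trG : ∀ ⦃n m : ℕ⦄, n ≤ m → G m →ₗ[R] G n}

/-- Kernels of maps of towers satisfy a uniform Mittag-Leffler condition. -/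
theorem IsTower.exists_lift_ker (hT : IsTower J tr) (hG : IsTower J trG) [IsNoetherianRing R] [Module.Finite R (G 0)]
    (α : ∀ n, F n →ₗ[R] G n) (hα : ∀ {n m : ℕ} (h : n ≤ m) (x : F m), trG h (α m x) = α n (tr h x)) :
    ∃ D, ∀ {n m : ℕ} (h : n + D ≤ m) (y : F (n + D)), α (n + D) y = 0 →
      ∃ y', α m y' = 0 ∧ tr ((Nat.le_add_right n D).trans h) y' = tr (Nat.le_add_right n D) y := by
  obtain ⟨d, hd⟩ := hG.exists_artinRees (fun n => LinearMap.range (α n)) fun n => by
    refine le_antisymm ?_ ?_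
    · rintro _ ⟨_, ⟨x, rfl⟩, rfl⟩
      exact ⟨tr (Nat.le_succ n) x, (hα _ x).symm⟩
    · rintro _ ⟨x, rfl⟩
      obtain ⟨x', rfl⟩ := hT.surj (Nat.le_succ n) x
      exact ⟨_, LinearMap.mem_range_self _ x', hα _ x'⟩
  refine ⟨d, fun {n m} h y hy => ?_⟩
  obtain ⟨Y, rfl⟩ := hT.surj h y
  have h1 := hd h (α m Y) (LinearMap.mem_range_self _ Y) (by rw [hα, hy])
  rw [show n + d + 1 - d = n + 1 by omega, ← Submodule.map_top, ← Submodule.map_smul''] at h1
  obtain ⟨z, hz, hze⟩ := h1
  refine ⟨Y - z, by rw [map_sub, hze, sub_self], ?_⟩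
  rw [map_sub, hT.tr_eq_zero _ le_rfl hz, sub_zero, hT.comp]

end Groth.Agent.Algz14.RelTower
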