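import Groth.Agent.Algz14.RelInst
import Groth.Agent.Algz14.TowerAR

/-!
Kernels of maps of coherent formal systems (row S0834).
-/

set_option autoImplicit false
set_option linter.style.haveILetI false
set_option linter.unusedSectionVars false

universe u

open CategoryTheory CategoryTheory.Limits AlgebraicGeometry Opposite

noncomputable section

namespace Groth.Agent.Algz14.KerSys

open Formal27

variable {A : Type u} [CommRing A] {X : Scheme.{u}} [X.Over (Spec (CommRingCat.of A))] {I : Ideal A}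
variable {F G : ℕᵒᵖ ⥤ X.Modules} (φ : F ⟶ G)

/-- Componentwise kernels. -/
abbrev kc (n : ℕ) : X.Modules := kernel (φ.app (op n))

theorem trK_aux {n m : ℕ} (h : n ≤ m) :
    (kernel.ι (φ.app (op m)) ≫ sysMap F h) ≫ φ.app (op n) = 0 := by
  rw [Category.assoc, φ.naturality, ← Category.assoc, kernel.condition, zero_comp]

/-- Transition maps of componentwise kernels. -/
def trK {n m : ℕ} (h : n ≤ m) : kc φ m ⟶ kc φ n :=
  kernel.lift _ (kernel.ι (φ.app (op m)) ≫ sysMap F h) (trK_aux φ h)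

theorem trK_ι {n m : ℕ} (h : n ≤ m) :
    trK φ h ≫ kernel.ι (φ.app (op n)) = kernel.ι (φ.app (op m)) ≫ sysMap F h := kernel.lift_ι _ _ _

theorem trK_comp {l n m : ℕ} (h : l ≤ n) (h' : n ≤ m) : trK φ h' ≫ trK φ h = trK φ (h.trans h') := by
  rw [← cancel_mono (kernel.ι (φ.app (op l))), Category.assoc, trK_ι, ← Category.assoc, trK_ι, Category.assoc,
    sysMap_comp, trK_ι]

variable (D : ℕ)

/-- Stable images of the componentwise kernels. -/
abbrev T (n : ℕ) : X.Modules := Abelian.image (trK φ (Nat.le_add_right n D))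

/-- The projection to the stable image. -/
abbrev e (n : ℕ) : kc φ (n + D) ⟶ T φ D n := Abelian.factorThruImage (trK φ (Nat.le_add_right n D))

/-- The stable image in the system. -/
abbrev ιT (n : ℕ) : T φ D n ⟶ F.obj (op n) :=
  Abelian.image.ι (trK φ (Nat.le_add_right n D)) ≫ kernel.ι (φ.app (op n))

theorem e_ιT (n : ℕ) : e φ D n ≫ ιT φ D n = kernel.ι (φ.app (op (n + D))) ≫ sysMap F (Nat.le_add_right n D) := by
  rw [← Category.assoc, Abelian.image.fac, trK_ι]

theorem trT_aux {n m : ℕ} (h : n ≤ m) :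
    (Abelian.image.ι (trK φ (Nat.le_add_right m D)) ≫ trK φ h) ≫ cokernel.π (trK φ (Nat.le_add_right n D)) = 0 := by
  rw [← cancel_epi (e φ D m), comp_zero, ← Category.assoc, ← Category.assoc, Abelian.image.fac, trK_comp,
    ← trK_comp φ (Nat.le_add_right n D) (Nat.add_le_add_right h D), Category.assoc, cokernel.condition, comp_zero]

/-- Transition maps of stable images. -/
def trT {n m : ℕ} (h : n ≤ m) : T φ D m ⟶ T φ D n := kernel.lift _ _ (trT_aux φ D h)

theorem trT_ιT {n m : ℕ} (h : n ≤ m) : trT φ D h ≫ ιT φ D n = ιT φ D m ≫ sysMap F h := by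
  have h1 : trT φ D h ≫ Abelian.image.ι (trK φ (Nat.le_add_right n D)) =
      Abelian.image.ι (trK φ (Nat.le_add_right m D)) ≫ trK φ h := kernel.lift_ι _ _ _
  rw [← Category.assoc, h1, Category.assoc, trK_ι, ← Category.assoc]

theorem e_trT {n m : ℕ} (h : n ≤ m) : e φ D m ≫ trT φ D h = trK φ (Nat.add_le_add_right h D) ≫ e φ D n := by
  rw [← cancel_mono (ιT φ D n), Category.assoc, trT_ιT, ← Category.assoc, e_ιT, Category.assoc, sysMap_comp,
    Category.assoc, e_ιT, ← Category.assoc, trK_ι, Category.assoc, sysMap_comp]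

theorem trT_comp {l n m : ℕ} (h : l ≤ n) (h' : n ≤ m) : trT φ D h' ≫ trT φ D h = trT φ D (h.trans h') := by
  rw [← cancel_mono (ιT φ D l), Category.assoc, trT_ιT, ← Category.assoc, trT_ιT, Category.assoc, sysMap_comp, trT_ιT]

theorem trT_self (n : ℕ) : trT φ D (le_refl n) = 𝟙 _ := by
  rw [← cancel_mono (ιT φ D n), trT_ιT, sysMap_self, Category.comp_id, Category.id_comp]

theorem trT_app_surjective {V : X.Opens}
    (hs : ∀ n, Function.Surjective ((trT φ D (Nat.le_succ n)).app V)) {n m : ℕ} (h : n ≤ m) :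
    Function.Surjective ((trT φ D h).app V) := by
  induction m, h using Nat.le_induction with
  | base =>
    intro y
    rw [trT_self]
    exact ⟨y, rfl⟩
  | succ m h ih =>
    rw [← trT_comp φ D h (Nat.le_succ m), Scheme.Modules.Hom.comp_app]
    exact ih.comp (hs m)

variable (hF : Formal.IsCohFormal I F) (hG : Formal.IsCohFormal I G) [IsNoetherian X]

include hF hG in
theorem isCoh_kc (n : ℕ) : Coh.IsCoh (kc φ n) := QC70.isCoh_kernel _ (hF.1 n) (hG.1 n).1

include hF hG in
theorem isCoh_T (n : ℕ) : Coh.IsCoh (T φ D n) := by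
  haveI := (isCoh_kc φ hF hG n).1
  haveI := (isCoh_kc φ hF hG (n + D)).1
  exact QC70.isCoh_of_mono (Abelian.image.ι (trK φ (Nat.le_add_right n D)))
    (QC70.isQuasicoherent_abelianImage _) (isCoh_kc φ hF hG n)

/-- The bounds on an affine open. -/
def Bounds (I : Ideal A) (D d : ℕ) (V : X.Opens) : Prop :=
  (∀ n, Function.Surjective ((trT φ D (Nat.le_succ n)).app V)) ∧
  (∀ {p m : ℕ} (h : p ≤ m) (x : Γ(T φ D m, V)), (trT φ D h).app V x = 0 → x ∈ IM (T φ D m) (I ^ (p + 1 - d)) V)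

include hF hG in
theorem exists_bounds {V : X.Opens} (hV : IsAffineOpen V) :
    ∃ D₀, ∀ D, D₀ ≤ D → ∃ d₀, ∀ d, d₀ ≤ d → Bounds φ I D d V := by
  haveI : IsNoetherianRing Γ(X, V) := IsLocallyNoetherian.component_noetherian ⟨V, hV⟩
  haveI := finite_sect hF hV 0
  haveI := finite_sect hG hV 0
  have hT := isTower_sect hF hV
  let αl : ∀ n : ℕ, Γ(F.obj (op n), V) →ₗ[Γ(X, V)] Γ(G.obj (op n), V) := fun n => QC70.appLinear (φ.app (op n)) V
  have hαl : ∀ {n m : ℕ} (h : n ≤ m) (x : Γ(F.obj (op m), V)), sectTr G V h (αl m x) = αl n (sectTr F V h x) :=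
    fun {n m} h x => (congrArg (fun f => (Scheme.Modules.Hom.app f V) x) (φ.naturality (homOfLE h).op)).symm
  obtain ⟨D₀, hD₀⟩ := hT.exists_lift_ker (isTower_sect hG hV) αl hαl
  refine ⟨D₀, fun D hD => ?_⟩
  let S : ∀ n : ℕ, Submodule Γ(X, V) Γ(F.obj (op n), V) := fun n => LinearMap.range (QC70.appLinear (ιT φ D n) V)
  haveI : ∀ n, (T φ D n).IsQuasicoherent := fun n => (isCoh_T φ D hF hG n).1
  haveI : ∀ n, (kc φ n).IsQuasicoherent := fun n => (isCoh_kc φ hF hG n).1
  have hsurj : ∀ n, Function.Surjective ((trT φ D (Nat.le_succ n)).app V) := fun n q => by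
    obtain ⟨z, rfl⟩ := app_surjective_of_epi (e φ D n) hV q
    let y : Γ(F.obj (op (n + D)), V) := (kernel.ι (φ.app (op (n + D)))).app V z
    have hy : αl (n + D) y = 0 := QC70.app_f_g (ShortComplex.mk _ _ (kernel.condition (φ.app (op (n + D))))) V z
    have hy0 : αl (n + D₀) (sectTr F V (Nat.add_le_add_left hD n) y) = 0 := by rw [← hαl, hy, map_zero]
    obtain ⟨y', hy', hye⟩ := hD₀ (show n + D₀ ≤ n + 1 + D by omega) _ hy0
    obtain ⟨z', hz'⟩ := QC70.exists_kernel_app_eq (φ.app (op (n + 1 + D))) V y' hy'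
    refine ⟨(e φ D (n + 1)).app V z', QC70.app_injective_of_mono (ιT φ D n) V ?_⟩
    refine (congrArg (fun f => (Scheme.Modules.Hom.app f V) ((e φ D (n + 1)).app V z')) (trT_ιT φ D (Nat.le_succ n))).trans ?_
    refine Eq.trans ?_ (congrArg (fun f => (Scheme.Modules.Hom.app f V) z) (e_ιT φ D n)).symm
    refine (congrArg ((sysMap F (Nat.le_succ n)).app V)
      (congrArg (fun f => (Scheme.Modules.Hom.app f V) z') (e_ιT φ D (n + 1)))).trans ?_
    refine ((congrArg (fun t => sectTr F V (Nat.le_succ n) (sectTr F V (Nat.le_add_right (n + 1) D) t)) hz').trans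
      (hT.comp _ _ y')).trans ?_
    exact (hye.trans (hT.comp _ _ y) : _)
  have hnat : ∀ {p m : ℕ} (h : p ≤ m) (x : Γ(T φ D m, V)),
      sectTr F V h ((ιT φ D m).app V x) = (ιT φ D p).app V ((trT φ D h).app V x) := fun {p m} h x =>
    (congrArg (fun f => (Scheme.Modules.Hom.app f V) x) (trT_ιT φ D h)).symm
  obtain ⟨d₀, hd₀⟩ := hT.exists_artinRees S fun n => by
    refine le_antisymm ?_ ?_
    · rintro _ ⟨_, ⟨x, rfl⟩, rfl⟩
      exact ⟨_, (hnat (Nat.le_succ n) x).symm⟩
    · rintro _ ⟨x, rfl⟩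
      obtain ⟨x', rfl⟩ := hsurj n x
      exact ⟨_, LinearMap.mem_range_self _ x', hnat (Nat.le_succ n) x'⟩
  refine ⟨d₀, fun d hd => ⟨hsurj, fun {p m} h x hx => ?_⟩⟩
  have h1 := hd₀ h ((ιT φ D m).app V x) ⟨x, rfl⟩ (by rw [hnat, hx, map_zero])
  change _ ∈ (I.map (gi A X V)) ^ (p + 1 - d₀) • LinearMap.range (QC70.appLinear (ιT φ D m) V) at h1
  rw [← Submodule.map_top, ← Submodule.map_smul''] at h1
  obtain ⟨x', hx', hxe⟩ := h1
  rw [← QC70.app_injective_of_mono (ιT φ D m) V hxe, IM_eq]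
  exact Submodule.smul_mono_left (Ideal.pow_le_pow_right (by omega)) hx'

variable (d : ℕ) (I)

/-- The truncated stable images. -/
abbrev KObj (n : ℕ) : X.Modules := Formal.modPow I (n + 1) (T φ D (n + d))

/-- The projection to the truncated stable image. -/
abbrev pK (n : ℕ) : T φ D (n + d) ⟶ KObj I φ D d n := Formal.modPowπ I (n + 1) (T φ D (n + d))

instance epi_pK (n : ℕ) : Epi (pK I φ D d n) := inferInstanceAs (Epi (cokernel.π _))

omit [X.Over (Spec (CommRingCat.of A))] in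
theorem comp_app_apply {M N P : X.Modules} (f : M ⟶ N) (g : N ⟶ P) (V : X.Opens) (x : Γ(M, V)) :
    (f ≫ g).app V x = g.app V (f.app V x) := rfl

theorem trM_aux {i j : ℕ} (h : i ≤ j) : ∀ a ∈ I ^ (j + 1),
    Formal.smulMod A (T φ D (j + d)) a ≫ trT φ D (Nat.add_le_add_right h d) ≫ pK I φ D d i = 0 := fun a ha => by
  rw [← Category.assoc, ← smulMod_comp, Category.assoc, smulMod_modPowπ I (i + 1) _
    (Ideal.pow_le_pow_right (Nat.succ_le_succ h) ha), comp_zero]

/-- Transition maps of the truncated stable images. -/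
def trM {i j : ℕ} (h : i ≤ j) : KObj I φ D d j ⟶ KObj I φ D d i :=
  cokernel.desc _ (trT φ D (Nat.add_le_add_right h d) ≫ pK I φ D d i) (smulFamily_comp_eq_zero _ (trM_aux I φ D d h))

theorem pK_trM {i j : ℕ} (h : i ≤ j) :
    pK I φ D d j ≫ trM I φ D d h = trT φ D (Nat.add_le_add_right h d) ≫ pK I φ D d i := cokernel.π_desc _ _ _

theorem trM_self (i : ℕ) : trM I φ D d (le_refl i) = 𝟙 _ := by
  rw [← cancel_epi (pK I φ D d i), pK_trM, trT_self, Category.id_comp, Category.comp_id]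

theorem trM_comp {i j k : ℕ} (h : i ≤ j) (h' : j ≤ k) :
    trM I φ D d h' ≫ trM I φ D d h = trM I φ D d (h.trans h') := by
  rw [← cancel_epi (pK I φ D d k), pK_trM, ← Category.assoc, pK_trM, Category.assoc, pK_trM, ← Category.assoc,
    trT_comp]

/-- The kernel system. -/
def KSys : ℕᵒᵖ ⥤ X.Modules where
  obj n := KObj I φ D d n.unop
  map {i j} f := trM I φ D d (leOfHom f.unop)
  map_id i := trM_self I φ D d i.unop
  map_comp {i j k} f g := (trM_comp I φ D d (leOfHom g.unop) (leOfHom f.unop)).symm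

/-- The map to the system before descending. -/
abbrev qK (n : ℕ) : T φ D (n + d) ⟶ F.obj (op n) := ιT φ D (n + d) ≫ sysMap F (Nat.le_add_right n d)

include hF in
theorem qK_aux (n : ℕ) : ∀ a ∈ I ^ (n + 1), Formal.smulMod A (T φ D (n + d)) a ≫ qK φ D d n = 0 := fun a ha => by
  rw [← smulMod_comp, hF.2.1 n a ha, comp_zero]

/-- The components of the inclusion. -/
def ιK (n : ℕ) : KObj I φ D d n ⟶ F.obj (op n) :=
  cokernel.desc _ (qK φ D d n) (smulFamily_comp_eq_zero _ (qK_aux I φ D hF d n))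

theorem pK_ιK (n : ℕ) : pK I φ D d n ≫ ιK I φ D hF d n = qK φ D d n := cokernel.π_desc _ _ _

theorem ιK_natural {i j : ℕ} (h : i ≤ j) :
    trM I φ D d h ≫ ιK I φ D hF d i = ιK I φ D hF d j ≫ sysMap F h := by
  rw [← cancel_epi (pK I φ D d j), ← Category.assoc, pK_trM, Category.assoc, pK_ιK, ← Category.assoc (pK I φ D d j),
    pK_ιK]
  unfold qK
  rw [← Category.assoc, trT_ιT]
  simp only [ιT, Category.assoc, sysMap_comp]

/-- The inclusion of the kernel system. -/
def ιSys : KSys I φ D d ⟶ F where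
  app n := ιK I φ D hF d n.unop
  naturality {i j} f := by
    rw [show F.map f = sysMap F (leOfHom f.unop) from congrArg F.map (Subsingleton.elim _ _)]
    exact ιK_natural I φ D hF d (leOfHom f.unop)

theorem ιSys_comp : ιSys I φ D hF d ≫ φ = 0 := by
  refine NatTrans.ext (funext fun n => ?_)
  refine (cancel_epi (pK I φ D d n.unop)).1 ?_
  refine Eq.trans ?_ comp_zero.symm
  refine ((Category.assoc _ _ _).symm.trans (congrArg (· ≫ φ.app n) (pK_ιK I φ D hF d n.unop))).trans ?_
  refine (Category.assoc _ _ _).trans ((congrArg (ιT φ D (n.unop + d) ≫ ·) (φ.naturality _)).trans ?_)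
  rw [← Category.assoc, show ιT φ D (n.unop + d) ≫ φ.app (op (n.unop + d)) = 0 by
    rw [Category.assoc, kernel.condition, comp_zero], zero_comp]

variable (S : Finset X.affineOpens) (hS : ∀ x : X, ∃ W ∈ S, x ∈ W.1) (hb : ∀ W ∈ S, Bounds φ I D d W.1)

include hF hG hS hb in
theorem epi_trT (n : ℕ) : Epi (trT φ D (Nat.add_le_add_right (Nat.le_succ n) d)) := by
  haveI hqT : ∀ n, (T φ D n).IsQuasicoherent := fun n => (isCoh_T φ D hF hG n).1
  refine Abelian.epi_of_cokernel_π_eq_zero _ (eq_zero_of_cover _ (S : Set X.affineOpens) hS fun W hW y => ?_)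
  obtain ⟨x, rfl⟩ := trT_app_surjective φ D (hb W hW).1 (Nat.add_le_add_right (Nat.le_succ n) d) y
  exact QC70.app_f_g (ShortComplex.mk _ _ (cokernel.condition (trT φ D (Nat.add_le_add_right (Nat.le_succ n) d)))) W.1 x

include hF hG hS hb in
theorem ker_trT (n : ℕ) : kernel.ι (trT φ D (Nat.add_le_add_right (Nat.le_succ n) d)) ≫ pK I φ D d (n + 1) ≫
    Formal.modPowπ I (n + 1) (KObj I φ D d (n + 1)) = 0 := by
  haveI hqT : ∀ n, (T φ D n).IsQuasicoherent := fun n => (isCoh_T φ D hF hG n).1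
  haveI : (kernel (trT φ D (Nat.add_le_add_right (Nat.le_succ n) d))).IsQuasicoherent :=
    QC70.isQuasicoherent_kernel _
  refine eq_zero_of_cover _ (S : Set X.affineOpens) hS fun W hW x => ?_
  have h0 := (hb W hW).2 _ ((kernel.ι (trT φ D (Nat.add_le_add_right (Nat.le_succ n) d))).app W.1 x)
    (QC70.app_f_g (ShortComplex.mk _ _ (kernel.condition (trT φ D (Nat.add_le_add_right (Nat.le_succ n) d)))) W.1 x)
  rw [show n + d + 1 - d = n + 1 by omega] at h0
  have h1 := app_mem_IM (pK I φ D d (n + 1)) h0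
  have h2 := modPowπ_app_eq_zero_of_mem (M := KObj I φ D d (n + 1)) h1
  rw [comp_app_apply, comp_app_apply]
  exact h2

include hF hG hS hb in
theorem isCohFormal_KSys : Formal.IsCohFormal I (KSys I φ D d) := by
  haveI hqT : ∀ n, (T φ D n).IsQuasicoherent := fun n => (isCoh_T φ D hF hG n).1
  refine ⟨fun n => ⟨isQuasicoherent_modPow _ I _,
      @QC70.isFiniteType_of_epi _ _ _ (pK I φ D d n) (epi_pK I φ D d n) (isCoh_T φ D hF hG (n + d)).2⟩,
    fun n a ha => ?_, fun n => ?_⟩
  · show Formal.smulMod A (KObj I φ D d n) a = 0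
    rw [← cancel_epi (pK I φ D d n), comp_zero, smulMod_comp]
    exact smulMod_modPowπ I (n + 1) _ ha
  · haveI hTepi := epi_trT I φ D hF hG d S hS hb n
    have hker := ker_trT I φ D hF hG d S hS hb n
    let v₀ : T φ D (n + d) ⟶ Formal.modPow I (n + 1) (KObj I φ D d (n + 1)) :=
      Abelian.epiDesc (trT φ D (Nat.add_le_add_right (Nat.le_succ n) d))
        (pK I φ D d (n + 1) ≫ Formal.modPowπ I (n + 1) (KObj I φ D d (n + 1))) hker
    have hv₀ : trT φ D (Nat.add_le_add_right (Nat.le_succ n) d) ≫ v₀ =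
        pK I φ D d (n + 1) ≫ Formal.modPowπ I (n + 1) (KObj I φ D d (n + 1)) := Abelian.comp_epiDesc _ _ _
    have hv0' : ∀ a ∈ I ^ (n + 1), Formal.smulMod A (T φ D (n + d)) a ≫ v₀ = 0 := fun a ha => by
      rw [← cancel_epi (trT φ D (Nat.add_le_add_right (Nat.le_succ n) d)), comp_zero, ← Category.assoc, smulMod_comp,
        Category.assoc, hv₀, ← Category.assoc, ← smulMod_comp, Category.assoc, smulMod_modPowπ I (n + 1) _ ha,
        comp_zero]
    let v := cokernel.desc _ v₀ (smulFamily_comp_eq_zero _ hv0')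
    have hv : pK I φ D d n ≫ v = v₀ := cokernel.π_desc _ _ _
    haveI : Epi (trM I φ D d (Nat.le_succ n)) := @epi_of_epi_fac _ _ _ _ _ _ _ _
      (@epi_comp _ _ _ _ _ _ hTepi _ (epi_pK I φ D d n)) (pK_trM I φ D d (Nat.le_succ n))
    have hz : Formal.smulFamily (I ^ (n + 1)) ((KSys I φ D d).obj (op (n + 1))) ≫ trM I φ D d (Nat.le_succ n) = 0 :=
      smulFamily_comp_eq_zero _ fun a ha => by
        refine (cancel_epi (pK I φ D d (n + 1))).1 ?_
        refine Eq.trans ?_ comp_zero.symm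
        refine (Category.assoc _ _ _).symm.trans ((congrArg (· ≫ _) (smulMod_comp (pK I φ D d (n + 1)) a)).trans
          ((Category.assoc _ _ _).trans ?_))
        rw [pK_trM, ← Category.assoc, ← smulMod_comp, Category.assoc, smulMod_modPowπ I (n + 1) _ ha, comp_zero]
    refine ⟨hz, @isIso_desc_of_factor _ _ _ _ _ _ _ _ _ hz ‹Epi (trM I φ D d (Nat.le_succ n))› v ?_⟩
    refine (cancel_epi (pK I φ D d (n + 1))).1 ?_
    refine (Category.assoc _ _ _).symm.trans ((congrArg (· ≫ v) (pK_trM I φ D d (Nat.le_succ n))).trans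
      ((Category.assoc _ _ _).trans ?_))
    exact (congrArg (trT φ D (Nat.add_le_add_right (Nat.le_succ n) d) ≫ ·) hv).trans hv₀

include hF hG hS hb in
theorem exists_lift_KSys {H : ℕᵒᵖ ⥤ X.Modules} (hH : Formal.IsCohFormal I H) (u : H ⟶ F) (hu : u ≫ φ = 0) :
    ∃ w : H ⟶ KSys I φ D d, w ≫ ιSys I φ D hF d = u := by
  have hu' : ∀ m, u.app (op m) ≫ φ.app (op m) = 0 := fun m => congr_arg (fun t => NatTrans.app t (op m)) hu
  let l : ∀ m, H.obj (op m) ⟶ kc φ m := fun m => kernel.lift _ (u.app (op m)) (hu' m)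
  have hl : ∀ {i j : ℕ} (h : i ≤ j), sysMap H h ≫ l i = l j ≫ trK φ h := fun {i j} h => by
    rw [← cancel_mono (kernel.ι (φ.app (op i))), Category.assoc, Category.assoc, trK_ι, kernel.lift_ι,
      ← Category.assoc, kernel.lift_ι]
    exact u.naturality _
  let w' : ∀ n, H.obj (op (n + d + D)) ⟶ KObj I φ D d n := fun n => l (n + d + D) ≫ e φ D (n + d) ≫ pK I φ D d n
  have hw'k : ∀ n, ∀ a ∈ I ^ (n + 1), Formal.smulMod A (H.obj (op (n + d + D))) a ≫ w' n = 0 := fun n a ha => by
    rw [← smulMod_comp, show Formal.smulMod A (KObj I φ D d n) a = 0 from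
      (isCohFormal_KSys I φ D hF hG d S hS hb).2.1 n a ha, comp_zero]
  choose w hw using fun n => Formal27.exists_factor hH (show n ≤ n + d + D by omega) (w' n) (hw'k n)
  let wN : H ⟶ KSys I φ D d :=
    { app := fun n => w n.unop
      naturality := fun i j f => by
        rw [show H.map f = sysMap H (leOfHom f.unop) from congrArg H.map (Subsingleton.elim _ _)]
        have hle : j.unop ≤ i.unop := leOfHom f.unop
        haveI := Formal27.epi_sysMap hH (show i.unop ≤ i.unop + d + D by omega)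
        refine (cancel_epi (sysMap H (show i.unop ≤ i.unop + d + D by omega))).1 ?_
        refine Eq.trans ?_ ((congrArg (· ≫ trM I φ D d hle) (hw i.unop)).symm.trans (Category.assoc _ _ _))
        refine ((Category.assoc _ _ _).symm.trans (congrArg (· ≫ w j.unop)
          ((sysMap_comp H _ _).trans (sysMap_comp H (show j.unop ≤ j.unop + d + D by omega)
            (show j.unop + d + D ≤ i.unop + d + D by omega)).symm))).trans ?_
        rw [Category.assoc, hw]
        simp only [w']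
        rw [← Category.assoc, hl]
        simp only [Category.assoc]
        refine Eq.trans ?_ (congrArg (fun t => l _ ≫ e φ D _ ≫ t) (pK_trM I φ D d hle)).symm
        rw [← Category.assoc (e φ D _), e_trT, Category.assoc] }
  refine ⟨wN, NatTrans.ext (funext fun n => ?_)⟩
  haveI := Formal27.epi_sysMap hH (show n.unop ≤ n.unop + d + D by omega)
  refine (cancel_epi (sysMap H (show n.unop ≤ n.unop + d + D by omega))).1 ?_
  refine ((Category.assoc _ _ _).symm.trans (congrArg (· ≫ ιK I φ D hF d n.unop) (hw n.unop))).trans ?_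
  simp only [w']
  refine ((Category.assoc _ _ _).trans (congrArg (l _ ≫ ·) ((Category.assoc _ _ _).trans
    (congrArg (e φ D _ ≫ ·) (pK_ιK I φ D hF d n.unop))))).trans ?_
  unfold qK
  rw [← Category.assoc (e φ D _), e_ιT, Category.assoc, sysMap_comp, ← Category.assoc, kernel.lift_ι]
  exact (u.naturality _).symm

include hF hG hS hb in
theorem eq_zero_of_comp_ιSys {H : ℕᵒᵖ ⥤ X.Modules} (hH : Formal.IsCohFormal I H) (δ : H ⟶ KSys I φ D d)
    (hδ : δ ≫ ιSys I φ D hF d = 0) : δ = 0 := by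
  haveI hqT : ∀ n, (T φ D n).IsQuasicoherent := fun n => (isCoh_T φ D hF hG n).1
  refine NatTrans.ext (funext fun n => ?_)
  have h0 : kernel.ι (ιK I φ D hF d (n.unop + d)) ≫ trM I φ D d (Nat.le_add_right n.unop d) = 0 := by
    haveI : (KObj I φ D d (n.unop + d)).IsQuasicoherent := isQuasicoherent_modPow _ I _
    haveI : (F.obj (op (n.unop + d))).IsQuasicoherent := (hF.1 _).1
    haveI : (kernel (ιK I φ D hF d (n.unop + d))).IsQuasicoherent := QC70.isQuasicoherent_kernel _
    refine eq_zero_of_cover _ (S : Set X.affineOpens) hS fun W hW x => ?_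
    obtain ⟨z, hz⟩ := modPowπ_app_surjective (M := T φ D (n.unop + d + d)) I (n.unop + d + 1) W.2
      ((kernel.ι (ιK I φ D hF d (n.unop + d))).app W.1 x)
    have h1 : (qK φ D d (n.unop + d)).app W.1 z = 0 := by
      rw [← pK_ιK I φ D hF d]
      refine (congrArg ((ιK I φ D hF d (n.unop + d)).app W.1) hz).trans ?_
      exact QC70.app_f_g (ShortComplex.mk _ _ (kernel.condition (ιK I φ D hF d (n.unop + d)))) W.1 x
    have h2 : z ∈ IM (T φ D (n.unop + d + d)) (I ^ (n.unop + d + 1 - d)) W.1 := by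
      refine (hb W hW).2 (Nat.le_add_right (n.unop + d) d) z ?_
      refine QC70.app_injective_of_mono (ιT φ D (n.unop + d)) W.1 (Eq.trans ?_ (map_zero _).symm)
      exact (congrArg (fun f => (Scheme.Modules.Hom.app f W.1) z) (trT_ιT φ D (Nat.le_add_right (n.unop + d) d))).trans h1
    rw [show n.unop + d + 1 - d = n.unop + 1 by omega] at h2
    rw [comp_app_apply, ← hz, ← comp_app_apply (Formal.modPowπ I _ (T φ D (n.unop + d + d))),
      pK_trM I φ D d (Nat.le_add_right n.unop d), comp_app_apply]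
    exact modPowπ_app_eq_zero_of_mem (app_mem_IM (trT φ D _) h2)
  have h1 : δ.app (op (n.unop + d)) ≫ ιK I φ D hF d (n.unop + d) = 0 :=
    congr_arg (fun t => NatTrans.app t (op (n.unop + d))) hδ
  haveI := Formal27.epi_sysMap hH (Nat.le_add_right n.unop d)
  refine (cancel_epi (sysMap H (Nat.le_add_right n.unop d))).1 ?_
  refine ((δ.naturality _).trans ?_).trans comp_zero.symm
  rw [← kernel.lift_ι (ιK I φ D hF d (n.unop + d)) (δ.app (op (n.unop + d))) h1]
  exact (Category.assoc _ _ _).trans ((congrArg (_ ≫ ·) h0).trans comp_zero)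

omit d S in
include hF hG in
/-- Kernels exist in coherent formal systems. -/
theorem exists_kernel :
    ∃ (K : ℕᵒᵖ ⥤ X.Modules) (ι : K ⟶ F), Formal.IsCohFormal I K ∧ ι ≫ φ = 0 ∧
      ∀ H : ℕᵒᵖ ⥤ X.Modules, Formal.IsCohFormal I H →
        (∀ u : H ⟶ F, u ≫ φ = 0 → ∃ w : H ⟶ K, w ≫ ι = u) ∧ ∀ δ : H ⟶ K, δ ≫ ι = 0 → δ = 0 := by
  classical
  obtain ⟨S, hS⟩ := exists_cover (X := X)
  choose D₀ hD₀ using fun W : X.affineOpens => exists_bounds φ hF hG W.2
  obtain ⟨D, hD⟩ : ∃ D, S.sup D₀ = D := ⟨_, rfl⟩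
  have hd' : ∀ W : X.affineOpens, ∃ d₀, W ∈ S → ∀ d, d₀ ≤ d → Bounds φ I D d W.1 := fun W => by
    by_cases hW : W ∈ S
    · obtain ⟨d₀, h⟩ := hD₀ W D (hD ▸ Finset.le_sup hW)
      exact ⟨d₀, fun _ => h⟩
    · exact ⟨0, fun h => absurd h hW⟩
  choose d₀ hd₀ using hd'
  obtain ⟨d, hd⟩ : ∃ d, S.sup d₀ = d := ⟨_, rfl⟩
  have hb : ∀ W ∈ S, Bounds φ I D d W.1 := fun W hW => hd₀ W hW d (hd ▸ Finset.le_sup hW)
  exact ⟨KSys I φ D d, ιSys I φ D hF d, isCohFormal_KSys I φ D hF hG d S hS hb, ιSys_comp I φ D hF d,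
    fun H hH => ⟨exists_lift_KSys I φ D hF hG d S hS hb hH, eq_zero_of_comp_ιSys I φ D hF hG d S hS hb hH⟩⟩

end Groth.Agent.Algz14.KerSys
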