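import Groth.Agent.Algz14.Limit
import Groth.Agent.LC17.PunctSections
import Groth.Agent.S9498
import Groth.Agent.QC70.Coherent
import Groth.Agent.LC16.PunctH0

/-!
The comparison map from the system of quotients of the limit of sections to the system itself (row S9553).
-/

set_option autoImplicit false
set_option linter.style.haveILetI false

universe u

open CategoryTheory CategoryTheory.Limits AlgebraicGeometry Opposite

noncomputable section

namespace Groth.Agent.Algz14

variable {A : Type u} [CommRing A] [IsNoetherianRing A] (U : (Spec (CommRingCat.of A)).Opens)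

theorem isCoh_restrict_quotPow (I : Ideal A) (G : ℕᵒᵖ ⥤ (U : Scheme.{u}).Modules) (hG : Formal.IsCohFormal I G)
    (hb : ∀ k : ℕ, ∃ n : ℕ, LinearMap.ker (limit.π (Algz.sectMod A U G) (op n)).hom ≤
      I ^ k • (⊤ : Submodule A ↑(limit (Algz.sectMod A U G)))) (n : ℕ) :
    Coh.IsCoh ((Scheme.Modules.restrictFunctor U.ι).obj
      (Formal2.tmod A (Formal2.quotPow A I ↑(limit (Algz.sectMod A U G)) n))) := by
  let M := Algz.sectMod A U G
  obtain ⟨N, hN⟩ := hb (n + 1)
  let R : ModuleCat.{u} A := ModuleCat.of A (LinearMap.range (limit.π M (op N)).hom)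
  let incl : R ⟶ M.obj (op N) := ModuleCat.ofHom (X := R) (Y := M.obj (op N)) (LinearMap.range (limit.π M (op N)).hom).subtype
  haveI : Mono incl := (ModuleCat.mono_iff_injective _).2 fun a b h => Subtype.ext h
  let q : R ⟶ ModuleCat.of A (Formal2.quotPow A I ↑(limit M) n) :=
    ModuleCat.ofHom ((Submodule.liftQ _ (Formal2.quotPowπ A I ↑(limit M) n)
      (fun w hw => (Submodule.Quotient.mk_eq_zero _).2 (hN hw))).comp
      (limit.π M (op N)).hom.quotKerEquivRange.symm.toLinearMap)
  haveI : Epi q := (ModuleCat.epi_iff_surjective _).2 fun y => by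
    obtain ⟨z, rfl⟩ := Submodule.Quotient.mk_surjective _ y
    exact ⟨⟨(limit.π M (op N)).hom z, LinearMap.mem_range_self _ z⟩,
      liftQ_quotKerEquivRange_symm (limit.π M (op N)).hom (Formal2.quotPowπ A I ↑(limit M) n)
      (fun w hw => (Submodule.Quotient.mk_eq_zero _).2 (hN hw)) z _ rfl⟩
  haveI : PreservesFiniteLimits (tilde.functor (CommRingCat.of A)) := (S9498.tilde_exact _).1
  haveI : PreservesFiniteColimits (tilde.functor (CommRingCat.of A)) := (S9498.tilde_exact _).2
  haveI : PreservesFiniteLimits (Scheme.Modules.restrictFunctor U.ι) :=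
    ZClos93.preservesFiniteLimits_restrictFunctor _
  haveI : (Scheme.Modules.restrictFunctor U.ι).IsLeftAdjoint :=
    (Scheme.Modules.restrictAdjunction U.ι).isLeftAdjoint
  let Φ := tilde.functor (CommRingCat.of A) ⋙ Scheme.Modules.restrictFunctor U.ι
  haveI hqG : ∀ n, (G.obj n).IsQuasicoherent := fun k => (hG.1 k.unop).1
  haveI := (hG.1 N).2
  let e : Φ.obj (M.obj (op N)) ≅ G.obj (op N) := (sectRestrictIso U G).app (op N)
  let μ : Φ.obj R ⟶ G.obj (op N) := Φ.map incl ≫ e.hom
  haveI : Mono (Φ.map incl) :=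
    inferInstanceAs (Mono ((Scheme.Modules.restrictFunctor U.ι).map ((tilde.functor (CommRingCat.of A)).map incl)))
  haveI : Mono μ := mono_comp _ _
  haveI : (Φ.obj R).IsQuasicoherent :=
    inferInstanceAs ((Scheme.Modules.restrictFunctor U.ι).obj (tilde (R := CommRingCat.of A) R)).IsQuasicoherent
  haveI : (Φ.obj R).IsFiniteType := QC70.isFiniteType_of_mono μ
  have hepi : Epi (Φ.map q) :=
    @Functor.map_epi _ _ _ _ (Scheme.Modules.restrictFunctor U.ι) inferInstance _ _ ((tilde.functor (CommRingCat.of A)).map q) inferInstance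
  exact ⟨inferInstanceAs ((Scheme.Modules.restrictFunctor U.ι).obj (tilde (R := CommRingCat.of A)
      (ModuleCat.of A (Formal2.quotPow A I ↑(limit M) n)))).IsQuasicoherent,
    @QC70.isFiniteType_of_epi _ _ _ (Φ.map q) hepi inferInstance⟩

/-- A morphism of modules on `Spec A` on sections, as a linear map. -/
def appL {P Q : (Spec (CommRingCat.of A)).Modules} (φ : P ⟶ Q) (V : (Spec (CommRingCat.of A)).Opens) :=
  ((modulesSpecToSheaf.map φ).1.app (op V)).hom

omit [IsNoetherianRing A] in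
theorem appL_tres {P Q : (Spec (CommRingCat.of A)).Modules} (φ : P ⟶ Q) {V W : (Spec (CommRingCat.of A)).Opens}
    (h : W ≤ V) (s : (modulesSpecToSheaf.obj P).presheaf.obj (op V)) :
    appL φ W (((modulesSpecToSheaf.obj P).presheaf.map (homOfLE h).op).hom s) =
      ((modulesSpecToSheaf.obj Q).presheaf.map (homOfLE h).op).hom (appL φ V s) :=
  congrArg (fun t => t.hom s) ((modulesSpecToSheaf.map φ).1.naturality (homOfLE h).op)

omit [IsNoetherianRing A] in
theorem exists_pow_smul_eq_zero_of_res {N : (Spec (CommRingCat.of A)).Modules} [hN : N.IsQuasicoherent] (f : A)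
    (w : (Γm A).obj N)
    (hw : ((modulesSpecToSheaf.obj N).presheaf.map
      (homOfLE (le_top : (PrimeSpectrum.basicOpen f : (Spec (CommRingCat.of A)).Opens) ≤ ⊤)).op).hom w = 0) :
    ∃ m : ℕ, f ^ m • w = 0 := by
  haveI := isIso_counitm A N hN
  let σ := inv ((adjm A).counit.app N)
  have h1 : appL σ ⊤ w = LC17.ttoOpen (R := A) ((Γm A).obj N) ⊤ w := by
    have e : (Γm A).map σ = (adjm A).unit.app ((Γm A).obj N) := by
      rw [Functor.map_inv]
      exact IsIso.inv_eq_of_inv_hom_id ((adjm A).right_triangle_components N)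
    exact congrArg (fun t => t.hom w) e
  refine LC17.exists_pow_smul_eq_zero_of_toOpen (R := A) ((Γm A).obj N) (f := f) (m := w) ?_
  rw [← LC17.tres_ttoOpen (R := A) ((Γm A).obj N) (le_top : (PrimeSpectrum.basicOpen f : (Spec (CommRingCat.of A)).Opens) ≤ ⊤)]
  refine ((congrArg _ h1.symm).trans (appL_tres σ le_top w).symm).trans ?_
  exact (congrArg _ hw).trans (map_zero _)

omit [IsNoetherianRing A] in
theorem homEquiv_symm_app_toOpen {Q : ModuleCat.{u} A} {N : (Spec (CommRingCat.of A)).Modules}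
    (ℓ : Q ⟶ (Γm A).obj N) (V : (Spec (CommRingCat.of A)).Opens) (y : Q) :
    appL (((adjm A).homEquiv Q N).symm ℓ) V (LC17.ttoOpen (R := A) Q V y) =
      ((modulesSpecToSheaf.obj N).presheaf.map (homOfLE (le_top : V ≤ ⊤)).op).hom (ℓ.hom y) := by
  rw [← LC17.tres_ttoOpen (R := A) Q (le_top : V ≤ ⊤)]
  refine (appL_tres _ le_top (LC17.ttoOpen (R := A) Q ⊤ y)).trans (congrArg _ ?_)
  exact (congrArg (fun t => t.hom y) ((adjm A).homEquiv_unit Q N (((adjm A).homEquiv Q N).symm ℓ)).symm).trans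
    (congrArg (fun t : Q ⟶ (Γm A).obj N => t.hom y) (((adjm A).homEquiv Q N).apply_symm_apply ℓ))

theorem eq_zero_of_compatible (I 𝔞 : Ideal A) (G : ℕᵒᵖ ⥤ (↑(LocCoh.puncturedOpen A 𝔞) : Scheme.{u}).Modules)
    (hG : Formal.IsCohFormal I G)
    (hb : ∀ k : ℕ, ∃ n : ℕ, LinearMap.ker (limit.π (Algz.sectMod A (LocCoh.puncturedOpen A 𝔞) G) (op n)).hom ≤
      I ^ k • (⊤ : Submodule A ↑(limit (Algz.sectMod A (LocCoh.puncturedOpen A 𝔞) G))))
    (ℓ : ∀ n : ℕ, ModuleCat.of A (Formal2.quotPow A I ↑(limit (Algz.sectMod A (LocCoh.puncturedOpen A 𝔞) G)) n) ⟶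
      (Algz.sectMod A (LocCoh.puncturedOpen A 𝔞) G).obj (op n))
    (hℓ : ∀ n : ℕ, ModuleCat.ofHom (Formal2.quotPowπ A I ↑(limit (Algz.sectMod A (LocCoh.puncturedOpen A 𝔞) G)) n) ≫ ℓ n =
      limit.π (Algz.sectMod A (LocCoh.puncturedOpen A 𝔞) G) (op n))
    (f : A)
    (x : ∀ n : ℕ, LC17.tsheaf (Formal2.quotPow A I ↑(limit (Algz.sectMod A (LocCoh.puncturedOpen A 𝔞) G)) n)
      |>.presheaf.obj (op (PrimeSpectrum.basicOpen f)))
    (ht : ∀ n : ℕ, appL (Formal2.tmodMap A (Formal2.quotPowTrans A I ↑(limit (Algz.sectMod A (LocCoh.puncturedOpen A 𝔞) G)) n))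
      (PrimeSpectrum.basicOpen f) (x (n + 1)) = x n)
    (h0 : ∀ n : ℕ, appL (((adjm A).homEquiv _ ((Scheme.Modules.pushforward (LocCoh.puncturedOpen A 𝔞).ι).obj
      (G.obj (op n)))).symm (ℓ n)) (PrimeSpectrum.basicOpen f) (x n) = 0) (n : ℕ) : x n = 0 := by
  let U := LocCoh.puncturedOpen A 𝔞
  let M := Algz.sectMod A U G
  let D : (Spec (CommRingCat.of A)).Opens := PrimeSpectrum.basicOpen f
  have down : ∀ (d : ℕ) (c : A) (z : ↑(limit M)),
      c • x (n + d) = LC17.ttoOpen _ D (Formal2.quotPowπ A I ↑(limit M) (n + d) z) →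
        c • x n = LC17.ttoOpen _ D (Formal2.quotPowπ A I ↑(limit M) n z) := by
    intro d
    induction d with
    | zero => exact fun c z h => h
    | succ d ih =>
      intro c z h
      refine ih c z ?_
      rw [← ht (n + d)]
      refine (map_smul _ _ _).symm.trans ((congrArg _ h).trans ?_)
      exact congrArg (fun t => t.hom (Formal2.quotPowπ A I ↑(limit M) (n + d + 1) z))
        (tilde.toOpen_map_app (R := CommRingCat.of A)
          (ModuleCat.ofHom (Formal2.quotPowTrans A I ↑(limit M) (n + d))) D)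
  obtain ⟨N0, hN0⟩ := hb (n + 1)
  let N := n + N0
  have hker : LinearMap.ker (limit.π M (op N)).hom ≤ I ^ (n + 1) • (⊤ : Submodule A ↑(limit M)) := fun z hz => by
    refine hN0 ?_
    rw [LinearMap.mem_ker] at hz ⊢
    rw [← limit_w M (Nat.le_add_left N0 n) z, hz, map_zero]
  obtain ⟨k, y, hy⟩ := LC17.exists_num _ (x N)
  obtain ⟨z, rfl⟩ := Submodule.Quotient.mk_surjective _ y
  haveI := (hG.1 N).1
  haveI := isQuasicoherent_push U (G.obj (op N))
  obtain ⟨m, hm⟩ := exists_pow_smul_eq_zero_of_res (N := (Scheme.Modules.pushforward U.ι).obj (G.obj (op N))) f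
    ((ℓ N).hom (Formal2.quotPowπ A I ↑(limit M) N z)) (by
      refine (homEquiv_symm_app_toOpen (ℓ N) D _).symm.trans ?_
      refine ((congrArg _ hy.symm).trans (map_smul _ _ _)).trans ?_
      exact (congrArg (f ^ k • ·) (h0 N)).trans (smul_zero _))
  have hπ : f ^ m • (limit.π M (op N)).hom z = 0 :=
    (congrArg (f ^ m • ·) (congrArg (fun t => t.hom z) (hℓ N)).symm).trans hm
  have hz : f ^ m • z ∈ I ^ (n + 1) • (⊤ : Submodule A ↑(limit M)) := hker (by
    rw [LinearMap.mem_ker, map_smul]; exact hπ)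
  have hn := down N0 (f ^ k) z hy
  refine LC17.smul_injective _ (x n) (m + k) ?_
  refine ((congrArg (· • x n) (pow_add f m k)).trans (mul_smul _ _ _)).trans ?_
  refine ((congrArg (f ^ m • ·) hn).trans (map_smul _ _ _).symm).trans ?_
  refine (congrArg _ (map_smul _ _ _).symm).trans ?_
  exact (congrArg (LC17.ttoOpen _ D) ((Submodule.Quotient.mk_eq_zero _).2 hz)).trans (map_zero _)

end Groth.Agent.Algz14
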