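import Groth.Agent.Algz14.Existence
import Groth.Agent.CAlg9.NisSize.Gen
import Groth.Agent.TildePull72.Basic
import Groth.Agent.Props58.Ext.Local
import Groth.Agent.Var76.RegPow
import Groth.Agent.Amp73.Pullback
import Groth.Prelude.Def_FlatMod2

/-!
Numbers of generators descend along Nisnevich covers by schemes (row S17867).
-/

set_option autoImplicit false
set_option linter.style.haveILetI false

universe u

open CategoryTheory CategoryTheory.Limits AlgebraicGeometry Opposite TensorProduct W4c5algebraiztannaka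

noncomputable section

namespace Groth.Agent.Algz14

open CAlg9.NisSize

/-- Sections of a quotient of a free module on an affine scheme. -/
theorem genBy_of_epi {S : Type u} [CommRing S] (T : ModuleCat.{u} S) {N : ℕ}
    (ψ : FlatMod.freeMod (Spec (CommRingCat.of S)) N ⟶ (Tm S).obj T) [Epi ψ] : GenBy S T N := by
  haveI hq := Props58.Ext.isQuasicoherent_freeMod (Spec (CommRingCat.of S)) N
  haveI := isQuasicoherent_Tm S T
  haveI := isIso_counitm S _ hq
  haveI := isIso_counitm S _ (isQuasicoherent_Tm S T)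
  haveI : Epi ((adjm S).counit.app (FlatMod.freeMod (Spec (CommRingCat.of S)) N) ≫ ψ) :=
    @epi_comp _ _ _ _ _ _ (IsIso.epi_of_iso _) _ inferInstance
  haveI : Epi ((Tm S).map ((Γm S).map ψ) ≫ (adjm S).counit.app ((Tm S).obj T)) := by
    have h := (adjm S).counit_naturality ψ
    rw [h]
    infer_instance
  haveI : Epi ((Tm S).map ((Γm S).map ψ)) := by
    have h := (Category.assoc ((Tm S).map ((Γm S).map ψ)) ((adjm S).counit.app ((Tm S).obj T))
      (inv ((adjm S).counit.app ((Tm S).obj T)))).trans ((congrArg _ (IsIso.hom_inv_id _)).trans (Category.comp_id _))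
    rw [← h]
    exact @epi_comp _ _ _ _ _ _ ‹Epi ((Tm S).map ((Γm S).map ψ) ≫ _)› _ (IsIso.epi_of_iso _)
  haveI : (Tm S).Faithful := (tilde.fullyFaithfulFunctor (R := CommRingCat.of S)).faithful
  haveI : Epi ((Γm S).map ψ) := (Tm S).epi_of_epi_map inferInstance
  have hsurj := (ModuleCat.epi_iff_surjective ((Γm S).map ψ)).1 inferInstance
  let η := (adjm S).unit.app T
  let e : Fin N → (Γm S).obj ((Tm S).obj T) := fun j =>
    ψ.app ⊤ ((Sigma.ι (fun _ : Fin N => Coh.structureModule (Spec (CommRingCat.of S))) j).app ⊤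
      (1 : Γ(Spec (CommRingCat.of S), ⊤)))
  have hspan : Submodule.span S (Set.range e) = ⊤ := by
    refine eq_top_iff.2 fun y _ => ?_
    obtain ⟨z, rfl⟩ := hsurj y
    obtain ⟨c, hc⟩ := Var76.Reg.exists_sum_free ψ ⊤ z
    refine (Submodule.mem_span_range_iff_exists_fun S).2
      ⟨fun j => (Scheme.ΓSpecIso (CommRingCat.of S)).hom.hom (c j), ?_⟩
    refine Eq.trans (Finset.sum_congr rfl fun j _ => ?_) hc.symm
    show (Scheme.ΓSpecIso (CommRingCat.of S)).inv.hom ((Scheme.ΓSpecIso (CommRingCat.of S)).hom.hom (c j)) •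
      (show Γ((Tm S).obj T, ⊤) from e j) = _
    rw [show (Scheme.ΓSpecIso (CommRingCat.of S)).inv.hom ((Scheme.ΓSpecIso (CommRingCat.of S)).hom.hom (c j)) = c j
      from congrArg (fun t => t.hom (c j)) (Scheme.ΓSpecIso (CommRingCat.of S)).hom_inv_id]
    exact congrArg (c j • ·) (QC70.res_self (M := (Tm S).obj T) _).symm
  exact (show GenBy S ((Γm S).obj ((Tm S).obj T)) N from ⟨e, hspan⟩).of_surjective
    (asIso η).inv.hom (ConcreteCategory.bijective_of_isIso (asIso η).inv).2

/-- Pullback of a finite free module. -/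
def pullbackFreeModIso {X Y : Scheme.{u}} (f : X ⟶ Y) (N : ℕ) :
    (Scheme.Modules.pullback f).obj (FlatMod.freeMod Y N) ≅ FlatMod.freeMod X N :=
  haveI : (Scheme.Modules.pullback f).IsLeftAdjoint :=
    (Scheme.Modules.pullbackPushforwardAdjunction f).isLeftAdjoint
  PreservesCoproduct.iso _ _ ≪≫ Sigma.mapIso fun _ => PicLoc.pullbackStructureIso f

/-- Generation modulo the radical ideals of the strata. -/
theorem genBy_strata {R : Type u} [CommRing R] {U : Scheme.{u}} (f : U ⟶ Spec (CommRingCat.of R)) (M : Type u)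
    [AddCommGroup M] [Module R M] {N : ℕ}
    (φ : FlatMod.freeMod U N ⟶ (Scheme.Modules.pullback f).obj (tilde (R := CommRingCat.of R) (ModuleCat.of R M)))
    [Epi φ] {W : Set (Spec (CommRingCat.of R))} (hW : HasSectOver f W) (I : Ideal R) (hI : I.IsRadical)
    (hsub : PrimeSpectrum.zeroLocus (I : Set R) ⊆ W) :
    ∃ g : Fin N → M, Submodule.span R (Set.range g) ⊔ I • ⊤ = ⊤ := by
  obtain ⟨T, g, s, hg, hrange, hsg⟩ := hW
  have : _root_.IsReduced (R ⧸ I) := (Ideal.isRadical_iff_quotient_reduced I).mp hI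
  obtain ⟨l, hl⟩ := exists_lift g (Spec.map (CommRingCat.ofHom (Ideal.Quotient.mk I))) (by
    show _ ⊆ Set.range (fun t : T => g t)
    rw [hrange]
    refine subset_trans (le_of_eq ?_) hsub
    exact (_root_.range_comap_of_surjective _ _ Ideal.Quotient.mk_surjective).trans
      (by rw [Ideal.mk_ker]))
  have hq : (l ≫ s) ≫ f = Spec.map (CommRingCat.ofHom (algebraMap R (R ⧸ I))) := by
    rw [Category.assoc, hsg]
    exact hl
  obtain ⟨e⟩ := TildePull72.nonempty_pullback_tilde_iso R (R ⧸ I) M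
  let e' : (Scheme.Modules.pullback (l ≫ s)).obj ((Scheme.Modules.pullback f).obj (tilde (R := CommRingCat.of R) (ModuleCat.of R M))) ≅
      (Tm (R ⧸ I)).obj (ModuleCat.of (R ⧸ I) ((R ⧸ I) ⊗[R] M)) :=
    (Scheme.Modules.pullbackComp (l ≫ s) f).app _ ≪≫ (Scheme.Modules.pullbackCongr hq).app _ ≪≫ e
  haveI : (Scheme.Modules.pullback (l ≫ s)).IsLeftAdjoint :=
    (Scheme.Modules.pullbackPushforwardAdjunction (l ≫ s)).isLeftAdjoint
  haveI h1 : Epi ((pullbackFreeModIso (l ≫ s) N).inv ≫ (Scheme.Modules.pullback (l ≫ s)).map φ ≫ e'.hom) :=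
    @epi_comp _ _ _ _ _ _ inferInstance _ (@epi_comp _ _ _ _ _ _ (Functor.map_epi _ φ) _ inferInstance)
  obtain ⟨h, hh⟩ := genBy_of_epi (ModuleCat.of (R ⧸ I) ((R ⧸ I) ⊗[R] M))
    ((pullbackFreeModIso (l ≫ s) N).inv ≫ (Scheme.Modules.pullback (l ≫ s)).map φ ≫ e'.hom)
  exact Flag.genBy_quotient I (AlgHom.id R (R ⧸ I)) M ⟨h, hh⟩

theorem genBy_of_strata {R : Type u} [CommRing R] {m s : ℕ} (Z : Fin (m + 1) → Set (PrimeSpectrum R))
    (h0 : Z 0 = ∅) (h1 : Z (Fin.last m) = Set.univ) (hc : ∀ k, IsClosed (Z k)) (M : Type u) [AddCommGroup M]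
    [Module R M] [Module.Finite R M]
    (hgen : ∀ (k : Fin m) (I : Ideal R), I.IsRadical →
      PrimeSpectrum.zeroLocus (I : Set R) ⊆ Z k.succ \ Z k.castSucc →
        ∃ g : Fin s → M, Submodule.span R (Set.range g) ⊔ I • ⊤ = ⊤) :
    GenBy R M (m * s) := by
  suffices H : ∀ (j : ℕ) (hj : j ≤ m) (M : Type u) [AddCommGroup M] [Module R M] [Module.Finite R M],
      (∀ (k : Fin m) (I : Ideal R), I.IsRadical →
        PrimeSpectrum.zeroLocus (I : Set R) ⊆ Z k.succ \ Z k.castSucc →
          ∃ g : Fin s → M, Submodule.span R (Set.range g) ⊔ I • ⊤ = ⊤) →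
      Disjoint (Module.support R M) (Z ⟨m - j, by omega⟩) → GenBy R M (j * s) by
    refine H m le_rfl M hgen ?_
    simp [h0]
  clear! M
  intro j
  induction j with
  | zero =>
    intro _ M _ _ _ _ hd
    have : Subsingleton M := Module.support_eq_empty_iff.mp <| by
      rw [show (⟨m - 0, by omega⟩ : Fin (m + 1)) = Fin.last m from Fin.ext (by simp), h1] at hd
      simpa using hd
    simpa using genBy_of_subsingleton R M
  | succ j ih =>
    intro hj M _ _ _ hgen hd
    let k : Fin m := ⟨m - (j + 1), by omega⟩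
    let I := PrimeSpectrum.vanishingIdeal (Module.support R M ∩ Z k.succ)
    have hcl : IsClosed (Module.support R M ∩ Z k.succ) := by
      rw [Module.support_eq_zeroLocus]
      exact (PrimeSpectrum.isClosed_zeroLocus _).inter (hc _)
    have hI : PrimeSpectrum.zeroLocus (I : Set R) = Module.support R M ∩ Z k.succ := by
      rw [PrimeSpectrum.zeroLocus_vanishingIdeal_eq_closure, hcl.closure_eq]
    obtain ⟨g, hg⟩ := hgen k I (PrimeSpectrum.isRadical_vanishingIdeal _) (by
      rw [hI]
      exact fun p hp => ⟨hp.2, Set.disjoint_left.mp hd hp.1⟩)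
    let S := Submodule.span R (Set.range g)
    obtain ⟨e, he, hann⟩ := Submodule.exists_sub_one_mem_and_smul_eq_zero_of_fg_of_le_smul I
      (⊤ : Submodule R (M ⧸ S)) Module.Finite.fg_top (by
        have := congrArg (Submodule.map S.mkQ) hg
        rw [Submodule.map_sup, Submodule.mkQ_map_self, bot_sup_eq, Submodule.map_smul'',
          Submodule.map_top, Submodule.range_mkQ] at this
        exact this.ge)
    have hd' : Disjoint (Module.support R (M ⧸ S)) (Z ⟨m - j, by omega⟩) := by
      rw [show (⟨m - j, by omega⟩ : Fin (m + 1)) = k.succ from Fin.ext (by simp [k]; omega)]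
      refine Set.disjoint_left.mpr fun p hp hpZ => ?_
      have hpM : p ∈ Module.support R M := Module.support_subset_of_surjective _ (Submodule.mkQ_surjective S) hp
      have hpI : I ≤ p.asIdeal := (PrimeSpectrum.mem_zeroLocus _ _).mp (hI.ge ⟨hpM, hpZ⟩)
      have hep : e ∈ p.asIdeal := by
        rw [Module.support_eq_zeroLocus] at hp
        exact hp (Module.mem_annihilator.mpr fun y => hann y trivial)
      exact p.isPrime.ne_top ((Ideal.eq_top_iff_one _).mpr
        (by simpa using Ideal.sub_mem _ hep (hpI he)))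
    obtain ⟨g', hg'⟩ := ih (by omega) (M ⧸ S) (fun k' I' hI' hsub' => by
      obtain ⟨g₁, hg₁⟩ := hgen k' I' hI' hsub'
      refine ⟨S.mkQ ∘ g₁, ?_⟩
      have := congrArg (Submodule.map S.mkQ) hg₁
      rwa [Submodule.map_sup, Submodule.map_span, ← Set.range_comp, Submodule.map_smul'', Submodule.map_top,
        Submodule.range_mkQ] at this) hd'
    choose y hy using fun i => Submodule.mkQ_surjective S (g' i)
    rw [Nat.succ_mul]
    refine ⟨Fin.addCases y g, top_le_iff.mp fun x _ => ?_⟩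
    have hx : S.mkQ x ∈ (Submodule.span R (Set.range y)).map S.mkQ := by
      rw [Submodule.map_span, ← Set.range_comp, show S.mkQ ∘ y = g' from funext hy, hg']
      trivial
    obtain ⟨z, hz, hzx⟩ := hx
    have hxz : x - z ∈ S := (Submodule.Quotient.eq _).mp hzx.symm
    rw [show x = z + (x - z) by abel]
    refine Submodule.add_mem _ (Submodule.span_mono ?_ hz) (Submodule.span_mono ?_ hxz)
    · rintro _ ⟨i, rfl⟩; exact ⟨Fin.castAdd s i, by simp⟩
    · rintro _ ⟨i, rfl⟩; exact ⟨Fin.natAdd (j * s) i, by simp⟩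

theorem genBy_of_isNisCoverLen (R : CommRingCat.{u}) (M : ModuleCat.{u} R) [Module.Finite R M] {U : Scheme.{u}}
    (f : U ⟶ Spec R) (m N : ℕ) (hf : IsNisCoverLen f m)
    (hgen : ∃ φ : FlatMod.freeMod U N ⟶ (Scheme.Modules.pullback f).obj (tilde M), Epi φ) :
    ∃ s : Fin (N * m) → M, Submodule.span R (Set.range s) = ⊤ := by
  obtain ⟨Z, h0, h1, -, hc, hs⟩ := hf.flag
  obtain ⟨φ, hφ⟩ := hgen
  have h := genBy_of_strata Z h0 h1 (fun k => (hc k).1) M fun k I hI hsub =>
    @genBy_strata R _ U f M _ _ N φ hφ _ (hs k) I hI hsub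
  rw [mul_comm N m]
  exact h

end Groth.Agent.Algz14
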