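import Groth.Agent.LimTop61.PullBC
import Groth.Agent.QC70.Loc
import Groth.Agent.Props58.LocFree.FP
import Mathlib.Algebra.Module.FinitePresentation
import Mathlib.RingTheory.Localization.Away.Basic

/-!
Products of finitely presented modules with bounded presentations (row S17871).
-/

set_option autoImplicit false
set_option linter.style.haveILetI false

universe u

open CategoryTheory AlgebraicGeometry Opposite TopologicalSpace TensorProduct
open Groth.Agent.QC70 Groth.Agent.QCPull72

noncomputable section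

namespace Groth.Agent.Algz14

section Algebra

variable {R : Type u} [CommRing R] {M : Type u} [AddCommGroup M] [Module R M]

/-- A presentation of `M` with generators indexed by `G` and relations indexed by `L`. -/
def HasPres (R : Type u) [CommRing R] (G L : Type) (M : Type u) [AddCommGroup M] [Module R M] [Fintype G] : Prop :=
  ∃ (y : G → M) (r : L → G → R), Submodule.span R (Set.range y) = ⊤ ∧
    Submodule.span R (Set.range r) = LinearMap.ker (Fintype.linearCombination R y)

/-- A presentation of `M` up to powers of `g`. -/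
def HasLocPres (g : R) (n m : ℕ) (M : Type u) [AddCommGroup M] [Module R M] : Prop :=
  ∃ (y : Fin n → M) (r : Fin m → Fin n → R),
    (∀ x : M, ∃ N : ℕ, g ^ N • x ∈ Submodule.span R (Set.range y)) ∧
    (∀ l, ∃ N : ℕ, g ^ N • Fintype.linearCombination R y (r l) = 0) ∧
    ∀ a : Fin n → R, Fintype.linearCombination R y a = 0 → ∃ N : ℕ, g ^ N • a ∈ Submodule.span R (Set.range r)

theorem mem_of_forall_exists_pow {N' : Type u} [AddCommGroup N'] [Module R N'] {k : ℕ} (g : Fin k → R)
    (hg : Ideal.span (Set.range g) = ⊤) (P : Submodule R N') (x : N') (h : ∀ j, ∃ N : ℕ, g j ^ N • x ∈ P) :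
    x ∈ P := by
  refine Submodule.mem_of_span_top_of_smul_mem P (Set.range fun j => g j ^ (h j).choose) ?_ x fun r => ?_
  · rw [eq_top_iff, ← Ideal.span_pow_eq_top (Set.range g) hg (Finset.univ.sup fun j => (h j).choose), Ideal.span_le]
    rintro _ ⟨_, ⟨j, rfl⟩, rfl⟩
    exact Ideal.mem_of_dvd _ (pow_dvd_pow (g j) (Finset.le_sup (f := fun j => (h j).choose) (Finset.mem_univ j)))
      (Ideal.subset_span ⟨j, rfl⟩)
  · obtain ⟨_, ⟨j, rfl⟩⟩ := r
    exact (h j).choose_spec

theorem hasPres_of_locPres {k : ℕ} {n m : Fin k → ℕ} (g : Fin k → R) (hg : Ideal.span (Set.range g) = ⊤)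
    (h : ∀ j, HasLocPres (g j) (n j) (m j) M) :
    HasPres R (Σ j, Fin (n j)) ((Σ j, Fin (m j)) ⊕ (Fin k × Σ j, Fin (n j))) M := by
  classical
  choose y r h₁ h₂ h₃ using h
  let Y : (Σ j, Fin (n j)) → M := fun p => y p.1 p.2
  let emb : ∀ j, (Fin (n j) → R) →ₗ[R] ((Σ j, Fin (n j)) → R) := fun j =>
    Fintype.linearCombination R fun i => Pi.single (⟨j, i⟩ : Σ j, Fin (n j)) 1
  have hemb : ∀ j a, Fintype.linearCombination R Y (emb j a) = Fintype.linearCombination R (y j) a := fun j a => by
    simp [emb, Fintype.linearCombination_apply, map_sum, Y, ← Finset.smul_sum, Pi.single_apply]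
  have hspan : Submodule.span R (Set.range Y) = ⊤ := by
    refine eq_top_iff.2 fun x _ => mem_of_forall_exists_pow g hg _ x fun j => ?_
    obtain ⟨N, hN⟩ := h₁ j x
    exact ⟨N, Submodule.span_mono (by rintro _ ⟨i, rfl⟩; exact ⟨⟨j, i⟩, rfl⟩) hN⟩
  have hN₂ : ∀ p : Σ j, Fin (m j), ∃ N : ℕ, g p.1 ^ N • Fintype.linearCombination R (y p.1) (r p.1 p.2) = 0 :=
    fun p => h₂ p.1 p.2
  choose N₂ hN₂ using hN₂
  have hN₁ : ∀ p : Fin k × Σ j, Fin (n j), ∃ (N : ℕ) (a : Fin (n p.1) → R),
      Fintype.linearCombination R (y p.1) a = g p.1 ^ N • Y p.2 := fun p => by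
    obtain ⟨N, hN⟩ := h₁ p.1 (Y p.2)
    rw [← Fintype.range_linearCombination] at hN
    exact ⟨N, hN⟩
  choose N₁ a₁ ha₁ using hN₁
  let ρ : ((Σ j, Fin (m j)) ⊕ (Fin k × Σ j, Fin (n j))) → ((Σ j, Fin (n j)) → R) := fun
    | Sum.inl p => g p.1 ^ N₂ p • emb p.1 (r p.1 p.2)
    | Sum.inr p => g p.1 ^ N₁ p • Pi.single p.2 1 - emb p.1 (a₁ p)
  refine ⟨Y, ρ, hspan, le_antisymm (Submodule.span_le.2 ?_) fun c hc => ?_⟩
  · rintro _ ⟨p | p, rfl⟩
    · exact LinearMap.mem_ker.2 (by rw [map_smul, hemb, hN₂])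
    · refine LinearMap.mem_ker.2 ?_
      rw [map_sub, map_smul, hemb, ha₁, Fintype.linearCombination_apply_single, one_smul, sub_self]
  refine mem_of_forall_exists_pow g hg _ c fun j => ?_
  -- push `c` into the block `j`
  have hred : ∀ c : (Σ j, Fin (n j)) → R, ∃ (N : ℕ) (d : Fin (n j) → R),
      g j ^ N • c - emb j d ∈ Submodule.span R (Set.range ρ) := by
    intro c
    let N := Finset.univ.sup fun p => N₁ (j, p)
    refine ⟨N, ∑ p, (c p * g j ^ (N - N₁ (j, p))) • a₁ (j, p), ?_⟩
    have hc' : c = ∑ p, c p • Pi.single p (1 : R) := by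
      funext q
      simp [Finset.sum_apply, Pi.single_apply]
    conv in g j ^ N • c => rw [hc']
    rw [Finset.smul_sum, map_sum, ← Finset.sum_sub_distrib]
    refine Submodule.sum_mem _ fun p _ => ?_
    have e : g j ^ N • c p • Pi.single p (1 : R) - emb j ((c p * g j ^ (N - N₁ (j, p))) • a₁ (j, p)) =
        (c p * g j ^ (N - N₁ (j, p))) • ρ (Sum.inr (j, p)) := by
      rw [map_smul, show ρ (Sum.inr (j, p)) = g j ^ N₁ (j, p) • Pi.single p (1 : R) - emb j (a₁ (j, p)) from rfl,
        smul_sub, smul_smul, smul_smul]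
      congr 2
      rw [mul_assoc, ← pow_add, Nat.sub_add_cancel (Finset.le_sup (f := fun p => N₁ (j, p)) (Finset.mem_univ p)),
        mul_comm]
    rw [e]
    exact Submodule.smul_mem _ _ (Submodule.subset_span ⟨Sum.inr (j, p), rfl⟩)
  obtain ⟨N, d, hd⟩ := hred c
  have hker : Submodule.span R (Set.range ρ) ≤ LinearMap.ker (Fintype.linearCombination R Y) :=
    Submodule.span_le.2 (by
      rintro _ ⟨p | p, rfl⟩
      · exact LinearMap.mem_ker.2 (by rw [map_smul, hemb, hN₂])
      · refine LinearMap.mem_ker.2 ?_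
        rw [map_sub, map_smul, hemb, ha₁, Fintype.linearCombination_apply_single, one_smul, sub_self])
  have hd0 : Fintype.linearCombination R (y j) d = 0 := by
    have := LinearMap.mem_ker.1 (hker hd)
    rw [map_sub, map_smul, LinearMap.mem_ker.1 hc, smul_zero, zero_sub, neg_eq_zero, hemb] at this
    exact this
  obtain ⟨N', hN'⟩ := h₃ j d hd0
  let N'' := Finset.univ.sup fun l => N₂ ⟨j, l⟩
  refine ⟨N'' + (N' + N), ?_⟩
  have h4 : g j ^ N'' • g j ^ N' • emb j d ∈ Submodule.span R (Set.range ρ) := by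
    have h5 : ∀ v ∈ Submodule.span R (Set.range (r j)), g j ^ N'' • emb j v ∈ Submodule.span R (Set.range ρ) := by
      intro v hv
      induction hv using Submodule.span_induction with
      | mem v hv =>
        obtain ⟨l, rfl⟩ := hv
        have : g j ^ N'' • emb j (r j l) = g j ^ (N'' - N₂ ⟨j, l⟩) • ρ (Sum.inl ⟨j, l⟩) := by
          rw [show ρ (Sum.inl ⟨j, l⟩) = g j ^ N₂ ⟨j, l⟩ • emb j (r j l) from rfl, smul_smul, ← pow_add,
            Nat.sub_add_cancel (Finset.le_sup (f := fun l => N₂ ⟨j, l⟩) (Finset.mem_univ l))]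
        rw [this]
        exact Submodule.smul_mem _ _ (Submodule.subset_span ⟨Sum.inl ⟨j, l⟩, rfl⟩)
      | zero => rw [map_zero, smul_zero]; exact zero_mem _
      | add a b _ _ ha hb => rw [map_add, smul_add]; exact add_mem ha hb
      | smul a v _ hv => rw [map_smul, smul_comm]; exact Submodule.smul_mem _ a hv
    rw [← map_smul (emb j)]
    exact h5 _ hN'
  rw [pow_add, pow_add, mul_smul, mul_smul]
  have h6 := Submodule.smul_mem _ (g j ^ N'') (Submodule.smul_mem _ (g j ^ N') hd)
  rw [smul_sub, smul_sub] at h6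
  exact (Submodule.sub_mem_iff_left _ h4).1 h6

theorem hasLocPres_of_localization (g : R) {S : Type u} [CommRing S] [Algebra R S] [IsLocalization.Away g S]
    {M' : Type u} [AddCommGroup M'] [Module S M'] (ρ : M →+ M')
    (hsmul : ∀ (a : R) (x : M), ρ (a • x) = algebraMap R S a • ρ x)
    (hof : ∀ s : M', ∃ (N : ℕ) (t : M), ρ t = algebraMap R S g ^ N • s)
    (hzero : ∀ t : M, ρ t = 0 → ∃ N : ℕ, g ^ N • t = 0)
    {n m : ℕ} (y' : Fin n → M') (r' : Fin m → Fin n → S) (hy' : Submodule.span S (Set.range y') = ⊤)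
    (hr' : Submodule.span S (Set.range r') = LinearMap.ker (Fintype.linearCombination S y')) :
    HasLocPres g n m M := by
  classical
  have hu : IsUnit (algebraMap R S g) := IsLocalization.Away.algebraMap_isUnit g
  have hlift : ∀ s : S, ∃ (N : ℕ) (a : R), algebraMap R S a = algebraMap R S g ^ N * s := fun s => by
    obtain ⟨⟨a, ⟨_, N, rfl⟩⟩, h⟩ := IsLocalization.surj (Submonoid.powers g) s
    refine ⟨N, a, ?_⟩
    rw [← h, map_pow, mul_comm]
  choose Ny ty hty using fun i => hof (y' i)
  let Ky := Finset.univ.sup Ny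
  let y : Fin n → M := fun i => g ^ (Ky - Ny i) • ty i
  have hy : ∀ i, ρ (y i) = algebraMap R S g ^ Ky • y' i := fun i => by
    show ρ (g ^ (Ky - Ny i) • ty i) = _
    rw [hsmul, hty, map_pow, smul_smul, ← pow_add, Nat.sub_add_cancel (Finset.le_sup (f := Ny) (Finset.mem_univ i))]
  have hρ : ∀ a : Fin n → R, ρ (Fintype.linearCombination R y a) =
      algebraMap R S g ^ Ky • Fintype.linearCombination S y' (fun i => algebraMap R S (a i)) := fun a => by
    rw [Fintype.linearCombination_apply, Fintype.linearCombination_apply, map_sum, Finset.smul_sum]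
    exact Finset.sum_congr rfl fun i _ => by rw [hsmul, hy, smul_comm]
  choose Nr tr htr using fun p : Fin m × Fin n => hlift (r' p.1 p.2)
  let Kr := Finset.univ.sup Nr
  let r : Fin m → Fin n → R := fun l i => g ^ (Kr - Nr (l, i)) * tr (l, i)
  have hr : ∀ l, (fun i => algebraMap R S (r l i)) = algebraMap R S g ^ Kr • r' l := fun l => funext fun i => by
    show algebraMap R S (g ^ (Kr - Nr (l, i)) * tr (l, i)) = _
    rw [map_mul, map_pow, htr, ← mul_assoc, ← pow_add,
      Nat.sub_add_cancel (Finset.le_sup (f := Nr) (Finset.mem_univ (l, i)))]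
    rfl
  refine ⟨y, r, fun x => ?_, fun l => hzero _ ?_, fun a ha => ?_⟩
  · have hx : ρ x ∈ Submodule.span S (Set.range y') := hy' ▸ Submodule.mem_top
    rw [← Fintype.range_linearCombination] at hx
    obtain ⟨s, hs⟩ := hx
    choose Ns ts hts using fun i => hlift (s i)
    let Ks := Finset.univ.sup Ns
    let a : Fin n → R := fun i => g ^ (Ks - Ns i) * ts i
    have ha : (fun i => algebraMap R S (a i)) = algebraMap R S g ^ Ks • s := funext fun i => by
      show algebraMap R S (g ^ (Ks - Ns i) * ts i) = _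
      rw [map_mul, map_pow, hts, ← mul_assoc, ← pow_add,
        Nat.sub_add_cancel (Finset.le_sup (f := Ns) (Finset.mem_univ i))]
      rfl
    have h0 : ρ (g ^ (Ks + Ky) • x - Fintype.linearCombination R y a) = 0 := by
      rw [map_sub, hsmul, hρ, ha, map_smul, hs, map_pow, smul_smul, ← pow_add, add_comm Ky, sub_self]
    obtain ⟨N, hN⟩ := hzero _ h0
    refine ⟨N + (Ks + Ky), ?_⟩
    rw [pow_add, mul_smul, ← Fintype.range_linearCombination]
    rw [smul_sub, sub_eq_zero] at hN
    exact ⟨g ^ N • a, by rw [map_smul, hN]⟩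
  · have hk : Fintype.linearCombination S y' (r' l) = 0 :=
      LinearMap.mem_ker.1 (hr' ▸ Submodule.subset_span ⟨l, rfl⟩)
    rw [hρ, hr, map_smul, hk, smul_zero, smul_zero]
  · have h0 : (fun i => algebraMap R S (a i)) ∈ Submodule.span S (Set.range r') := by
      rw [hr', LinearMap.mem_ker]
      have := congrArg ρ ha
      rw [hρ, map_zero] at this
      exact (hu.pow Ky).smul_eq_zero.1 this
    rw [← Fintype.range_linearCombination] at h0
    obtain ⟨s, hs⟩ := h0
    choose Ns ts hts using fun l => hlift (s l)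
    let Ks := Finset.univ.sup Ns
    let c : Fin m → R := fun l => g ^ (Ks - Ns l) * ts l
    have hdiff : ∀ i, algebraMap R S (g ^ (Ks + Kr) * a i - Fintype.linearCombination R r c i) = 0 := fun i => by
      rw [map_sub, map_mul, map_pow, Fintype.linearCombination_apply, Finset.sum_apply, map_sum,
        ← congrFun hs i, Fintype.linearCombination_apply, Finset.sum_apply, Finset.mul_sum, ← Finset.sum_sub_distrib]
      refine Finset.sum_eq_zero fun l _ => ?_
      simp only [Pi.smul_apply, smul_eq_mul, map_mul, c]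
      rw [congrFun (hr l) i, map_pow, hts, Pi.smul_apply, smul_eq_mul]
      have hp : algebraMap R S g ^ (Ks - Ns l) * algebraMap R S g ^ Ns l = algebraMap R S g ^ Ks := by
        rw [← pow_add, Nat.sub_add_cancel (Finset.le_sup (f := Ns) (Finset.mem_univ l))]
      rw [pow_add, ← hp]
      ring
    have hker : ∀ i, ∃ N : ℕ, g ^ N * (g ^ (Ks + Kr) * a i - Fintype.linearCombination R r c i) = 0 := fun i => by
      obtain ⟨⟨_, N, rfl⟩, hN⟩ := (IsLocalization.map_eq_zero_iff (Submonoid.powers g) S _).1 (hdiff i)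
      exact ⟨N, hN⟩
    choose Nk hNk using hker
    refine ⟨Finset.univ.sup Nk + (Ks + Kr), ?_⟩
    rw [← Fintype.range_linearCombination]
    refine ⟨g ^ Finset.univ.sup Nk • c, funext fun i => ?_⟩
    rw [map_smul, Pi.smul_apply, Pi.smul_apply, smul_eq_mul, smul_eq_mul, pow_add, mul_assoc, eq_comm, ← sub_eq_zero,
      ← mul_sub]
    obtain ⟨t, ht⟩ := pow_dvd_pow g (Finset.le_sup (f := Nk) (Finset.mem_univ i))
    rw [ht, mul_comm _ t, mul_assoc, hNk, mul_zero]

theorem exists_fin_pres (R : Type u) [CommRing R] (M : Type u) [AddCommGroup M] [Module R M]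
    [Module.FinitePresentation R M] :
    ∃ (n m : ℕ) (y : Fin n → M) (r : Fin m → Fin n → R), Submodule.span R (Set.range y) = ⊤ ∧
      Submodule.span R (Set.range r) = LinearMap.ker (Fintype.linearCombination R y) := by
  obtain ⟨n, y, hy⟩ := Module.Finite.exists_fin (R := R) (M := M)
  have hsurj : Function.Surjective (Fintype.linearCombination R y) :=
    LinearMap.range_eq_top.1 ((Fintype.range_linearCombination R y).trans hy)
  obtain ⟨m, r, hr⟩ := Submodule.fg_iff_exists_fin_generating_family.1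
    (Module.FinitePresentation.fg_ker (Fintype.linearCombination R y) hsurj)
  exact ⟨n, m, y, r, hy, hr⟩

theorem pres_baseChange {B : Type u} [CommRing B] (S : Type u) [CommRing S] [Algebra B S]
    (P : Type u) [AddCommGroup P] [Module B P] {n m : ℕ} (y : Fin n → P) (r : Fin m → Fin n → B)
    (hy : Submodule.span B (Set.range y) = ⊤)
    (hr : Submodule.span B (Set.range r) = LinearMap.ker (Fintype.linearCombination B y)) :
    Submodule.span S (Set.range fun i => (1 : S) ⊗ₜ[B] y i) = ⊤ ∧
      Submodule.span S (Set.range fun l => fun i => algebraMap B S (r l i)) =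
        LinearMap.ker (Fintype.linearCombination S fun i => (1 : S) ⊗ₜ[B] y i) := by
  classical
  let f := Fintype.linearCombination B y
  let h := Fintype.linearCombination B r
  have hf : Function.Surjective f := LinearMap.range_eq_top.1 ((Fintype.range_linearCombination B y).trans hy)
  have hex : Function.Exact h f := LinearMap.exact_iff.2 (hr.symm.trans (Fintype.range_linearCombination B r).symm)
  let e : S ⊗[B] (Fin n → B) ≃ₗ[S] (Fin n → S) := TensorProduct.piScalarRight B S S (Fin n)
  have key : ∀ v, Fintype.linearCombination S (fun i => (1 : S) ⊗ₜ[B] y i) (e v) = f.lTensor S v := by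
    intro v
    induction v with
    | zero => simp
    | add a b ha hb => rw [map_add, map_add, ha, hb, map_add]
    | tmul s x =>
      simp only [e, f, LinearMap.lTensor_tmul, TensorProduct.piScalarRight_apply, TensorProduct.piScalarRightHom_tmul,
        Fintype.linearCombination_apply, TensorProduct.tmul_sum]
      refine Finset.sum_congr rfl fun i _ => ?_
      rw [TensorProduct.smul_tmul', smul_eq_mul, mul_one, TensorProduct.smul_tmul]
  constructor
  · rw [← Fintype.range_linearCombination, LinearMap.range_eq_top]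
    intro z
    obtain ⟨v, rfl⟩ := LinearMap.lTensor_surjective S hf z
    exact ⟨e v, key v⟩
  · refine le_antisymm (Submodule.span_le.2 ?_) fun c hc => ?_
    · rintro _ ⟨l, rfl⟩
      have hl : f (r l) = 0 := LinearMap.mem_ker.1 (hr.le (Submodule.subset_span ⟨l, rfl⟩))
      have he : (fun i => algebraMap B S (r l i)) = e ((1 : S) ⊗ₜ r l) := by
        funext i
        simp [e, Algebra.smul_def]
      show Fintype.linearCombination S _ (fun i => algebraMap B S (r l i)) = 0
      rw [he, key, LinearMap.lTensor_tmul, hl, TensorProduct.tmul_zero]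
    · obtain ⟨v, rfl⟩ := e.surjective c
      rw [LinearMap.mem_ker, key] at hc
      obtain ⟨w, rfl⟩ := (lTensor_exact S hex hf v).1 hc
      clear hc
      induction w with
      | zero => simp
      | add a b ha hb => rw [map_add, map_add]; exact add_mem ha hb
      | tmul s x =>
        rw [LinearMap.lTensor_tmul]
        have he : e (s ⊗ₜ h x) = ∑ l, (s * algebraMap B S (x l)) • fun i => algebraMap B S (r l i) := by
          funext i
          simp [e, h, Fintype.linearCombination_apply, Algebra.smul_def, Finset.sum_apply, map_sum, Finset.sum_mul,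
            Finset.mul_sum]
          exact Finset.sum_congr rfl fun l _ => by ring
        rw [he]
        exact Submodule.sum_mem _ fun l _ => Submodule.smul_mem _ _ (Submodule.subset_span ⟨l, rfl⟩)

theorem finitePresentation_pi {ι : Type u} (R : ι → Type u) [∀ i, CommRing (R i)] (M : ι → Type u)
    [∀ i, AddCommGroup (M i)] [∀ i, Module (R i) (M i)] {G L : Type} [Fintype G] [Fintype L]
    (h : ∀ i, HasPres (R i) G L (M i)) : Module.FinitePresentation (∀ i, R i) (∀ i, M i) := by
  classical
  choose y r hy hr using h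
  let f : (G → ∀ i, R i) →ₗ[∀ i, R i] (∀ i, M i) := Fintype.linearCombination (∀ i, R i) fun p i => y i p
  have happ : ∀ c i, f c i = Fintype.linearCombination (R i) (y i) (fun p => c p i) := fun c i => by
    simp [f, Fintype.linearCombination_apply, Finset.sum_apply]
  have hf : Function.Surjective f := fun z => by
    have : ∀ i, ∃ a, Fintype.linearCombination (R i) (y i) a = z i := fun i =>
      (Fintype.range_linearCombination (R i) (y i)).trans (hy i) |>.ge (Submodule.mem_top (x := z i))
    choose a ha using this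
    exact ⟨fun p i => a i p, funext fun i => (happ _ i).trans (ha i)⟩
  refine Module.finitePresentation_of_free_of_surjective f hf ?_
  refine ⟨Finset.univ.image fun l : L => fun p i => r i l p, le_antisymm (Submodule.span_le.2 ?_) fun c hc => ?_⟩
  · intro v hv
    obtain ⟨l, -, rfl⟩ := Finset.mem_image.1 hv
    exact LinearMap.mem_ker.2 (funext fun i => (happ _ i).trans
      (LinearMap.mem_ker.1 ((hr i).le (Submodule.subset_span ⟨l, rfl⟩))))
  · have : ∀ i, ∃ s, Fintype.linearCombination (R i) (r i) s = fun p => c p i := fun i =>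
      (Fintype.range_linearCombination (R i) (r i)).ge ((hr i).ge (LinearMap.mem_ker.2 (by
        rw [← happ, LinearMap.mem_ker.1 hc]; rfl)))
    choose s hs using this
    have hc' : c = ∑ l, (fun i => s i l) • fun p i => r i l p := by
      funext p i
      simpa [Fintype.linearCombination_apply, Finset.sum_apply] using (congrFun (hs i) p).symm
    rw [hc']
    exact Submodule.sum_mem _ fun l _ => Submodule.smul_mem _ _
      (Submodule.subset_span (Finset.mem_image_of_mem _ (Finset.mem_univ l)))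

end Algebra

section Geometry

theorem exists_basicOpen_cover {Z : Scheme.{u}} [IsAffine Z] {k : ℕ} (W : Fin k → Z.Opens)
    (hW : ∀ z, ∃ j, z ∈ W j) :
    ∃ g : Fin k → Γ(Z, ⊤), Ideal.span (Set.range g) = ⊤ ∧ ∀ j, Z.basicOpen (g j) ≤ W j := by
  let S : Fin k → Set Γ(Z, ⊤) := fun j => {f | Z.basicOpen f ≤ W j}
  have htop : Ideal.span (⋃ j, S j) = ⊤ := by
    rw [← (isAffineOpen_top Z).iSup_basicOpen_eq_self_iff, eq_top_iff]
    intro z _
    obtain ⟨j, hj⟩ := hW z
    obtain ⟨f, hf, hzf⟩ := (isAffineOpen_top Z).exists_basicOpen_le ⟨z, hj⟩ trivial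
    exact Opens.mem_iSup.2 ⟨⟨f, Set.mem_iUnion.2 ⟨j, hf⟩⟩, hzf⟩
  rw [Ideal.span, Submodule.span_iUnion, eq_top_iff] at htop
  obtain ⟨g, hg, hsum⟩ : ∃ g : Fin k → Γ(Z, ⊤), (∀ j, g j ∈ Ideal.span (S j)) ∧ ∑ j, g j = 1 := by
    obtain ⟨μ, hμ⟩ := (Submodule.mem_iSup_finset_iff_exists_sum (s := Finset.univ) (fun j => Ideal.span (S j)) (1 : Γ(Z, ⊤))).1
      (by simpa using htop (Submodule.mem_top (x := (1 : Γ(Z, ⊤)))))
    exact ⟨fun j => (μ j : Γ(Z, ⊤)), fun j => (μ j).2, hμ⟩
  refine ⟨g, (Ideal.eq_top_iff_one _).2 (hsum ▸ Ideal.sum_mem _ fun j _ => Ideal.subset_span ⟨j, rfl⟩), fun j z hz => ?_⟩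
  by_contra hc
  have hle : Ideal.span (S j) ≤ (IsLocalRing.maximalIdeal (Z.presheaf.stalk z)).comap
      (Z.presheaf.germ ⊤ z trivial).hom := by
    refine Ideal.span_le.2 fun f hf => ?_
    show Z.presheaf.germ ⊤ z trivial f ∈ IsLocalRing.maximalIdeal _
    rw [IsLocalRing.mem_maximalIdeal]
    intro hu
    exact hc (hf ((Scheme.mem_basicOpen Z _ z (show z ∈ (⊤ : Z.Opens) from trivial)).2 hu))
  exact (hle (hg j)) ((Scheme.mem_basicOpen Z _ z (show z ∈ (⊤ : Z.Opens) from trivial)).1 hz)

theorem hasLocPres_pullback {X Z : Scheme.{u}} [IsAffine Z] (f : Z ⟶ X) (F : X.Modules) [F.IsQuasicoherent]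
    {V : X.Opens} (hV : IsAffineOpen V) (g : Γ(Z, ⊤)) (hg : Z.basicOpen g ≤ f ⁻¹ᵁ V)
    {n m : ℕ} (y : Fin n → Γ(F, V)) (r : Fin m → Fin n → Γ(X, V))
    (hy : Submodule.span Γ(X, V) (Set.range y) = ⊤)
    (hr : Submodule.span Γ(X, V) (Set.range r) = LinearMap.ker (Fintype.linearCombination Γ(X, V) y)) :
    HasLocPres g n m Γ((Scheme.Modules.pullback f).obj F, ⊤) := by
  haveI := isQuasicoherent_pullback f F
  let C := (Scheme.Modules.pullback f).obj F
  have hD : IsAffineOpen (Z.basicOpen g) := (isAffineOpen_top Z).basicOpen g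
  obtain ⟨E, -⟩ := LimTop61.exists_baseChange_equiv f F hV hD hg
  letI := (f.appLE V (Z.basicOpen g) hg).hom.toAlgebra
  obtain ⟨h1, h2⟩ := pres_baseChange Γ(Z, Z.basicOpen g) Γ(F, V) y r hy hr
  letI alg : Algebra Γ(Z, ⊤) Γ(Z, Z.basicOpen g) := (Z.presheaf.map (homOfLE (Z.basicOpen_le g)).op).hom.toAlgebra
  haveI : IsLocalization.Away g Γ(Z, Z.basicOpen g) := (isAffineOpen_top Z).isLocalization_basicOpen g
  have hloc := isLocAt_of_isQuasicoherent C (isAffineOpen_top Z)
  refine hasLocPres_of_localization g (AddMonoidHom.mk' (fun x => res C (Z.basicOpen_le g) x) fun a b => res_add _ a b)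
    (fun a x => res_smul (M := C) (Z.basicOpen_le g) a x) (fun s => hloc.exists_of g s)
    (fun t ht => hloc.eq_zero_of g t ht) (fun i => E.symm ((1 : Γ(Z, Z.basicOpen g)) ⊗ₜ y i))
    (fun l i => f.appLE V (Z.basicOpen g) hg (r l i)) ?_ ?_
  · rw [show (fun i => E.symm ((1 : Γ(Z, Z.basicOpen g)) ⊗ₜ y i)) = E.symm ∘ fun i => (1 : Γ(Z, Z.basicOpen g)) ⊗ₜ y i from rfl,
      Set.range_comp, ← LinearEquiv.coe_coe, Submodule.span_image, h1, Submodule.map_top, LinearEquiv.range]
  · have : Fintype.linearCombination Γ(Z, Z.basicOpen g) (fun i => E.symm ((1 : Γ(Z, Z.basicOpen g)) ⊗ₜ y i)) =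
        E.symm.toLinearMap ∘ₗ Fintype.linearCombination Γ(Z, Z.basicOpen g) fun i => (1 : Γ(Z, Z.basicOpen g)) ⊗ₜ y i := by
      refine LinearMap.ext fun c => ?_
      simp [Fintype.linearCombination_apply, map_sum]
    rw [this, LinearEquiv.ker_comp, ← h2]
    rfl

theorem finitePresentation_pi_pullback {X : Scheme.{u}} [CompactSpace X] {ι : Type u} (Z : ι → Scheme.{u})
    [∀ i, IsAffine (Z i)] (f : ∀ i, Z i ⟶ X) (F : X.Modules) (hF : CohB1.IsFP F) :
    Module.FinitePresentation (∀ i, Γ(Z i, ⊤)) (∀ i, Γ((Scheme.Modules.pullback (f i)).obj F, ⊤)) := by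
  classical
  haveI := hF
  haveI : F.IsQuasicoherent := by
    obtain ⟨σ, -⟩ := SheafOfModules.IsFinitePresentation.exists_quasicoherentData (R := X.ringCatSheaf) (M := F)
    exact σ.isQuasicoherent
  obtain ⟨s, hs⟩ := isCompact_univ.elim_finite_subcover (fun U : X.affineOpens => (U.1 : Set X))
    (fun U => U.1.2) fun x _ => by
      obtain ⟨_, ⟨V, hV, rfl⟩, hxV, -⟩ := X.isBasis_affineOpens.exists_subset_of_mem_open (Set.mem_univ x) isOpen_univ
      exact Set.mem_iUnion.2 ⟨⟨V, hV⟩, hxV⟩
  let V : Fin s.card → X.affineOpens := fun j => (s.equivFin.symm j).1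
  have hP : ∀ j, ∃ (n m : ℕ) (y : Fin n → Γ(F, (V j).1)) (r : Fin m → Fin n → Γ(X, (V j).1)),
      Submodule.span Γ(X, (V j).1) (Set.range y) = ⊤ ∧
        Submodule.span Γ(X, (V j).1) (Set.range r) = LinearMap.ker (Fintype.linearCombination Γ(X, (V j).1) y) := fun j => by
    haveI := Props58.LocFree.finitePresentation_sections F (V j).2
    exact exists_fin_pres _ _
  choose n m y r hy hr using hP
  refine finitePresentation_pi (fun i => Γ(Z i, ⊤)) _
    (G := Σ j, Fin (n j)) (L := (Σ j, Fin (m j)) ⊕ (Fin s.card × Σ j, Fin (n j))) fun i => ?_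
  obtain ⟨g, hg, hle⟩ := exists_basicOpen_cover (fun j => f i ⁻¹ᵁ (V j).1) fun z => by
    obtain ⟨U, hU, hzU⟩ := Set.mem_iUnion₂.1 (hs (Set.mem_univ (f i z)))
    exact ⟨s.equivFin ⟨U, hU⟩, by simpa [V] using hzU⟩
  exact hasPres_of_locPres g hg fun j => hasLocPres_pullback (f i) F (V j).2 (g j) (hle j) (y j) (r j) (hy j) (hr j)

end Geometry

end Groth.Agent.Algz14
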