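import Groth.Agent.Algz14.SectTower

/-!
Algebraization of coherent formal systems related to a coherent module.
-/

set_option autoImplicit false
set_option linter.style.haveILetI false
set_option linter.unusedSectionVars false

universe u

open CategoryTheory CategoryTheory.Limits AlgebraicGeometry Opposite

noncomputable section

namespace Groth.Agent.Algz14

open Formal27

variable {A : Type u} [CommRing A] {X : Scheme.{u}} [X.Over (Spec (CommRingCat.of A))]

/-- A formal system and a coherent module mapping to a common system. -/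
structure RelData (I : Ideal A) (X : Scheme.{u}) [X.Over (Spec (CommRingCat.of A))] where
  F : ℕᵒᵖ ⥤ X.Modules
  hF : Formal.IsCohFormal I F
  G : X.Modules
  hG : Coh.IsCoh G
  B : ℕᵒᵖ ⥤ X.Modules
  hB : ∀ n : ℕ, (B.obj (op n)).IsQuasicoherent
  μ : F ⟶ B
  ν : ∀ n : ℕ, G ⟶ B.obj (op n)
  hν : ∀ {n m : ℕ} (h : n ≤ m), ν m ≫ sysMap B h = ν n

namespace RelData

variable {I : Ideal A} (d : RelData I X)

/-- The difference map. -/
abbrev diff (n : ℕ) : d.F.obj (op n) ⊞ d.G ⟶ d.B.obj (op n) :=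
  biprod.fst ≫ d.μ.app (op n) - biprod.snd ≫ d.ν n

/-- The fibre product. -/
abbrev P (n : ℕ) : X.Modules := kernel (d.diff n)

/-- First projection. -/
abbrev p₁ (n : ℕ) : d.P n ⟶ d.F.obj (op n) := kernel.ι (d.diff n) ≫ biprod.fst

/-- Second projection. -/
abbrev p₂ (n : ℕ) : d.P n ⟶ d.G := kernel.ι (d.diff n) ≫ biprod.snd

theorem p₁_μ (n : ℕ) : d.p₁ n ≫ d.μ.app (op n) = d.p₂ n ≫ d.ν n := by
  rw [Category.assoc, Category.assoc, ← sub_eq_zero, ← Preadditive.comp_sub]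
  exact kernel.condition _

theorem μ_comp {n m : ℕ} (h : n ≤ m) : d.μ.app (op m) ≫ sysMap d.B h = sysMap d.F h ≫ d.μ.app (op n) :=
  (d.μ.naturality (homOfLE h).op).symm

/-- The lift to the fibre product. -/
abbrev pLift (n : ℕ) {H : X.Modules} (u : H ⟶ d.F.obj (op n)) (v : H ⟶ d.G)
    (e : u ≫ d.μ.app (op n) = v ≫ d.ν n) : H ⟶ d.P n :=
  kernel.lift _ (biprod.lift u v) (by
    rw [Preadditive.comp_sub, ← Category.assoc, ← Category.assoc, biprod.lift_fst, biprod.lift_snd, e, sub_self])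

theorem pLift_p₁ (n : ℕ) {H : X.Modules} (u : H ⟶ d.F.obj (op n)) (v : H ⟶ d.G)
    (e : u ≫ d.μ.app (op n) = v ≫ d.ν n) : d.pLift n u v e ≫ d.p₁ n = u := by
  rw [← Category.assoc, kernel.lift_ι, biprod.lift_fst]

theorem pLift_p₂ (n : ℕ) {H : X.Modules} (u : H ⟶ d.F.obj (op n)) (v : H ⟶ d.G)
    (e : u ≫ d.μ.app (op n) = v ≫ d.ν n) : d.pLift n u v e ≫ d.p₂ n = v := by
  rw [← Category.assoc, kernel.lift_ι, biprod.lift_snd]

theorem P_hom_ext {n : ℕ} {H : X.Modules} {f g : H ⟶ d.P n} (h1 : f ≫ d.p₁ n = g ≫ d.p₁ n)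
    (h2 : f ≫ d.p₂ n = g ≫ d.p₂ n) : f = g := by
  refine (cancel_mono (kernel.ι (d.diff n))).1 (biprod.hom_ext _ _ ?_ ?_)
  · rw [Category.assoc, Category.assoc]; exact h1
  · rw [Category.assoc, Category.assoc]; exact h2

theorem trP_aux {n m : ℕ} (h : n ≤ m) :
    (d.p₁ m ≫ sysMap d.F h) ≫ d.μ.app (op n) = d.p₂ m ≫ d.ν n := by
  rw [Category.assoc, ← d.μ_comp h, ← Category.assoc, p₁_μ, Category.assoc, d.hν h]

/-- Transition maps of the fibre products. -/
def trP {n m : ℕ} (h : n ≤ m) : d.P m ⟶ d.P n :=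
  d.pLift n (d.p₁ m ≫ sysMap d.F h) (d.p₂ m) (d.trP_aux h)

theorem trP_p₁ {n m : ℕ} (h : n ≤ m) : d.trP h ≫ d.p₁ n = d.p₁ m ≫ sysMap d.F h :=
  d.pLift_p₁ _ _ _ (d.trP_aux h)

theorem trP_p₂ {n m : ℕ} (h : n ≤ m) : d.trP h ≫ d.p₂ n = d.p₂ m := d.pLift_p₂ _ _ _ (d.trP_aux h)

theorem trP_comp {l n m : ℕ} (h : l ≤ n) (h' : n ≤ m) : d.trP h' ≫ d.trP h = d.trP (h.trans h') := by
  refine d.P_hom_ext ?_ ?_
  · rw [Category.assoc, trP_p₁, ← Category.assoc, trP_p₁, Category.assoc, sysMap_comp, trP_p₁]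
  · rw [Category.assoc, trP_p₂, trP_p₂, trP_p₂]

/-- Pairs of sections in the fibre product. -/
def rel (V : X.Opens) (n : ℕ) : Submodule Γ(X, V) (Γ(d.F.obj (op n), V) × Γ(d.G, V)) :=
  LinearMap.eqLocus ((QC70.appLinear (d.μ.app (op n)) V).comp (LinearMap.fst _ _ _))
    ((QC70.appLinear (d.ν n) V).comp (LinearMap.snd _ _ _))

theorem mem_rel {V : X.Opens} {n : ℕ} (y : Γ(d.F.obj (op n), V)) (g : Γ(d.G, V)) :
    (y, g) ∈ d.rel V n ↔ (d.μ.app (op n)).app V y = (d.ν n).app V g := Iff.rfl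

/-- The pair of a section of the fibre product. -/
def pair (V : X.Opens) (n : ℕ) : Γ(d.P n, V) →ₗ[Γ(X, V)] Γ(d.F.obj (op n), V) × Γ(d.G, V) :=
  LinearMap.prod (QC70.appLinear (d.p₁ n) V) (QC70.appLinear (d.p₂ n) V)

theorem range_pair (V : X.Opens) (n : ℕ) : LinearMap.range (d.pair V n) = d.rel V n := by
  refine le_antisymm ?_ ?_
  · rintro _ ⟨z, rfl⟩
    exact congrArg (fun φ => (Scheme.Modules.Hom.app φ V) z) (d.p₁_μ n)
  · rintro ⟨y, g⟩ hy
    obtain ⟨w, hw1, hw2⟩ := exists_biprod_elt V y g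
    obtain ⟨z, rfl⟩ := QC70.exists_kernel_app_eq (d.diff n) V w (by
      change (d.μ.app (op n)).app V ((biprod.fst : d.F.obj (op n) ⊞ d.G ⟶ _).app V w) -
        (d.ν n).app V ((biprod.snd : d.F.obj (op n) ⊞ d.G ⟶ _).app V w) = 0
      rw [hw1, hw2, sub_eq_zero]
      exact hy)
    exact ⟨z, Prod.ext hw1 hw2⟩

theorem pair_injective (V : X.Opens) (n : ℕ) : Function.Injective (d.pair V n) := fun z z' h =>
  QC70.app_injective_of_mono (kernel.ι (d.diff n)) V (biprod_elt_ext (congrArg Prod.fst h) (congrArg Prod.snd h))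

/-- The axioms on the sections over an open. -/
def SecRel (V : X.Opens) (c k : ℕ) : Prop :=
  RelTower.IsRel (I.map (gi A X V)) (sectTr d.F V) (d.rel V) c k

variable [IsNoetherian X]

theorem isCoh_biprod_P (n : ℕ) : Coh.IsCoh (d.F.obj (op n) ⊞ d.G) := by
  let S := ShortComplex.mk (biprod.inl : d.F.obj (op n) ⟶ d.F.obj (op n) ⊞ d.G) biprod.snd biprod.inl_snd
  exact QC70.isCoh_X₂ S (ShortComplex.Splitting.ofHasBinaryBiproduct _ _).shortExact (d.hF.1 n) d.hG

theorem isCoh_P (n : ℕ) : Coh.IsCoh (d.P n) :=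
  QC70.isCoh_kernel _ (d.isCoh_biprod_P n) (d.hB n)

theorem exists_bounds (S : Finset X.affineOpens) (c : ℕ) (hrel : ∀ W ∈ S, ∃ k, d.SecRel W.1 c k) :
    ∃ D N, ∀ W ∈ S, RelTower.Good (I.map (gi A X W.1)) (sectTr d.F W.1) (d.rel W.1) c D N := by
  have key : ∀ W : X.affineOpens, ∃ D N, W ∈ S → ∀ D', D ≤ D' → ∀ N', N ≤ N' →
      RelTower.Good (I.map (gi A X W.1)) (sectTr d.F W.1) (d.rel W.1) c D' N' := fun W => by
    by_cases hW : W ∈ S
    · obtain ⟨k, hk⟩ := hrel W hW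
      haveI : IsNoetherianRing Γ(X, W.1) := IsLocallyNoetherian.component_noetherian W
      haveI := finite_sect d.hF W.2 0
      haveI : Module.Finite Γ(X, W.1) Γ(d.G, W.1) := by
        haveI := d.hG.1
        haveI := d.hG.2
        exact QC70.finite_sections_of_isFiniteType _ W.2
      obtain ⟨D, N, h⟩ := RelTower.IsRel.exists_good hk (isTower_sect d.hF W.2)
      exact ⟨D, N, fun _ => h⟩
    · exact ⟨0, 0, fun h => absurd h hW⟩
  choose D N h using key
  exact ⟨S.sup D, S.sup N, fun W hW => h W hW _ (Finset.le_sup hW) _ (Finset.le_sup hW)⟩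

variable (D : ℕ)

/-- The stable image. -/
abbrev Q (n : ℕ) : X.Modules := Abelian.image (d.trP (Nat.le_add_right n D))

/-- The projection to the stable image. -/
abbrev e (n : ℕ) : d.P (n + D) ⟶ d.Q D n := Abelian.factorThruImage (d.trP (Nat.le_add_right n D))

/-- The inclusion of the stable image. -/
abbrev ιQ (n : ℕ) : d.Q D n ⟶ d.P n := Abelian.image.ι (d.trP (Nat.le_add_right n D))

theorem e_ι (n : ℕ) : d.e D n ≫ d.ιQ D n = d.trP (Nat.le_add_right n D) := Abelian.image.fac _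

theorem isCoh_Q (n : ℕ) : Coh.IsCoh (d.Q D n) := by
  haveI := (d.isCoh_P n).1
  haveI := (d.isCoh_P (n + D)).1
  exact QC70.isCoh_of_mono (d.ιQ D n) (QC70.isQuasicoherent_abelianImage _) (d.isCoh_P n)

/-- The map of the stable image to the system. -/
abbrev q₁ (n : ℕ) : d.Q D n ⟶ d.F.obj (op n) := d.ιQ D n ≫ d.p₁ n

/-- The map of the stable image to the module. -/
abbrev q₂ (n : ℕ) : d.Q D n ⟶ d.G := d.ιQ D n ≫ d.p₂ n

theorem q₁_μ (n : ℕ) : d.q₁ D n ≫ d.μ.app (op n) = d.q₂ D n ≫ d.ν n := by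
  rw [Category.assoc, p₁_μ, ← Category.assoc]

theorem e_q₁ (n : ℕ) : d.e D n ≫ d.q₁ D n = d.p₁ (n + D) ≫ sysMap d.F (Nat.le_add_right n D) := by
  rw [← Category.assoc, e_ι, trP_p₁]

theorem e_q₂ (n : ℕ) : d.e D n ≫ d.q₂ D n = d.p₂ (n + D) := by
  rw [← Category.assoc, e_ι, trP_p₂]

theorem e_trP {n m : ℕ} (h : n ≤ m) :
    d.e D m ≫ d.ιQ D m ≫ d.trP h = d.trP (Nat.add_le_add_right h D) ≫ d.e D n ≫ d.ιQ D n := by
  rw [← Category.assoc, e_ι, e_ι, trP_comp, trP_comp]

/-- Transition maps of the stable images. -/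
def trQ {n m : ℕ} (h : n ≤ m) : d.Q D m ⟶ d.Q D n :=
  kernel.lift _ (d.ιQ D m ≫ d.trP h) (by
    rw [← cancel_epi (d.e D m), comp_zero, ← Category.assoc, e_trP, Category.assoc, Category.assoc]
    refine (congrArg (d.trP _ ≫ d.e D n ≫ ·) (kernel.condition _)).trans ?_
    rw [comp_zero, comp_zero])

theorem trQ_ι {n m : ℕ} (h : n ≤ m) : d.trQ D h ≫ d.ιQ D n = d.ιQ D m ≫ d.trP h := kernel.lift_ι _ _ _

theorem e_trQ {n m : ℕ} (h : n ≤ m) : d.e D m ≫ d.trQ D h = d.trP (Nat.add_le_add_right h D) ≫ d.e D n := by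
  rw [← cancel_mono (d.ιQ D n), Category.assoc, Category.assoc, trQ_ι, e_trP]

theorem trQ_q₁ {n m : ℕ} (h : n ≤ m) : d.trQ D h ≫ d.q₁ D n = d.q₁ D m ≫ sysMap d.F h := by
  rw [← Category.assoc, trQ_ι, Category.assoc, trP_p₁, ← Category.assoc]

theorem trQ_q₂ {n m : ℕ} (h : n ≤ m) : d.trQ D h ≫ d.q₂ D n = d.q₂ D m := by
  rw [← Category.assoc, trQ_ι, Category.assoc, trP_p₂]

theorem trQ_comp {l n m : ℕ} (h : l ≤ n) (h' : n ≤ m) : d.trQ D h' ≫ d.trQ D h = d.trQ D (h.trans h') := by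
  rw [← cancel_mono (d.ιQ D l), Category.assoc, trQ_ι, trQ_ι, ← Category.assoc, trQ_ι, Category.assoc, trP_comp]

variable {D} {N : ℕ} {V : X.Opens}

theorem Q_ext {n : ℕ} {q q' : Γ(d.Q D n, V)} (h1 : (d.q₁ D n).app V q = (d.q₁ D n).app V q')
    (h2 : (d.q₂ D n).app V q = (d.q₂ D n).app V q') : q = q' :=
  QC70.app_injective_of_mono (d.ιQ D n) V (d.pair_injective V n (Prod.ext h1 h2))

theorem exists_rep (hV : IsAffineOpen V) {n : ℕ} (q : Γ(d.Q D n, V)) :
    ∃ z : Γ(d.P (n + D), V), (d.e D n).app V z = q := by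
  haveI := (d.isCoh_P (n + D)).1
  haveI := (d.isCoh_Q D n).1
  exact app_surjective_of_epi (d.e D n) hV q

theorem q₁_e {n : ℕ} (z : Γ(d.P (n + D), V)) :
    (d.q₁ D n).app V ((d.e D n).app V z) = sectTr d.F V (Nat.le_add_right n D) (d.pair V (n + D) z).1 :=
  congrArg (fun φ => (Scheme.Modules.Hom.app φ V) z) (d.e_q₁ D n)

theorem q₂_e {n : ℕ} (z : Γ(d.P (n + D), V)) :
    (d.q₂ D n).app V ((d.e D n).app V z) = (d.pair V (n + D) z).2 :=
  congrArg (fun φ => (Scheme.Modules.Hom.app φ V) z) (d.e_q₂ D n)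

theorem bijective_trQ (hV : IsAffineOpen V) {c : ℕ} (hg : RelTower.Good (I.map (gi A X V)) (sectTr d.F V) (d.rel V) c D N)
    {n m : ℕ} (hn : N ≤ n) (h : n ≤ m) : Function.Bijective ((d.trQ D h).app V) := by
  have hT := isTower_sect d.hF hV
  constructor
  · refine (injective_iff_map_eq_zero _).2 fun q hq => ?_
    obtain ⟨z, rfl⟩ := d.exists_rep hV q
    have e2 : (d.pair V (m + D) z).2 = 0 := by
      rw [← q₂_e]
      refine (congrArg (fun φ => (Scheme.Modules.Hom.app φ V) ((d.e D m).app V z)) (d.trQ_q₂ D h)).symm.trans ?_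
      change (d.q₂ D n).app V ((d.trQ D h).app V ((d.e D m).app V z)) = 0
      rw [hq, map_zero]
    have e1 : sectTr d.F V h (sectTr d.F V (Nat.le_add_right m D) (d.pair V (m + D) z).1) = 0 := by
      rw [← q₁_e]
      refine (congrArg (fun φ => (Scheme.Modules.Hom.app φ V) ((d.e D m).app V z)) (d.trQ_q₁ D h)).symm.trans ?_
      change (d.q₁ D n).app V ((d.trQ D h).app V ((d.e D m).app V z)) = 0
      rw [hq, map_zero]
    rw [hT.comp] at e1
    have hz : ((d.pair V (m + D) z).1, (0 : Γ(d.G, V))) ∈ d.rel V (m + D) := by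
      rw [← e2]
      exact (d.range_pair V (m + D)).le (LinearMap.mem_range_self _ z)
    have key : ∀ i (hi : i ≤ m + D), n ≤ i → i ≤ m → sectTr d.F V hi (d.pair V (m + D) z).1 = 0 := by
      intro i hi hni
      induction i, hni using Nat.le_induction with
      | base => exact fun _ => e1
      | succ i hni ih =>
        intro him
        have hle : i + 1 + D ≤ m + D := by omega
        have hmem : (sectTr d.F V hle (d.pair V (m + D) z).1, (0 : Γ(d.G, V))) ∈ d.rel V (i + 1 + D) := by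
          have h1 : (d.μ.app (op (m + D))).app V (d.pair V (m + D) z).1 = (d.ν (m + D)).app V 0 := hz
          rw [map_zero] at h1
          change (d.μ.app (op (i + 1 + D))).app V ((sysMap d.F hle).app V (d.pair V (m + D) z).1) = (d.ν (i + 1 + D)).app V 0
          rw [map_zero]
          refine (congrArg (fun φ => (Scheme.Modules.Hom.app φ V) (d.pair V (m + D) z).1) (d.μ_comp hle)).symm.trans ?_
          change (sysMap d.B hle).app V ((d.μ.app (op (m + D))).app V (d.pair V (m + D) z).1) = 0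
          rw [h1, map_zero]
        have h2 := hg.inj i (hn.trans hni) _ hmem (by rw [hT.comp]; exact ih (by omega) (by omega))
        rw [hT.comp] at h2
        exact h2
    refine d.Q_ext ?_ ?_
    · rw [q₁_e, map_zero]; exact key m (Nat.le_add_right m D) h le_rfl
    · rw [q₂_e, map_zero]; exact e2
  · intro q
    obtain ⟨z, rfl⟩ := d.exists_rep hV q
    obtain ⟨y', hy', he⟩ := hg.lift (Nat.add_le_add_right h D) (d.pair V (n + D) z).1 (d.pair V (n + D) z).2
      ((d.range_pair V (n + D)).le (LinearMap.mem_range_self _ z))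
    obtain ⟨z', hz'⟩ := (d.range_pair V (m + D)).ge hy'
    refine ⟨(d.e D m).app V z', d.Q_ext ?_ ?_⟩
    · refine (congrArg (fun φ => (Scheme.Modules.Hom.app φ V) ((d.e D m).app V z')) (d.trQ_q₁ D h)).trans ?_
      change (sysMap d.F h).app V ((d.q₁ D m).app V ((d.e D m).app V z')) = _
      rw [q₁_e, q₁_e, hz']
      exact (hT.comp h (Nat.le_add_right m D) y').trans he
    · refine (congrArg (fun φ => (Scheme.Modules.Hom.app φ V) ((d.e D m).app V z')) (d.trQ_q₂ D h)).trans ?_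
      rw [q₂_e, q₂_e, hz']

theorem q₁_surjective (hV : IsAffineOpen V) {c k : ℕ} (hrel : d.SecRel V c k) (n : ℕ) :
    Function.Surjective ((d.q₁ D n).app V) := by
  intro y
  have hT := isTower_sect d.hF hV
  obtain ⟨Y, hY⟩ := hT.surj ((Nat.le_add_right n D).trans (Nat.le_add_right (n + D) k)) y
  obtain ⟨g, hg⟩ := hrel.left (n + D) Y
  obtain ⟨z, hz⟩ := (d.range_pair V (n + D)).ge hg
  refine ⟨(d.e D n).app V z, ?_⟩
  rw [q₁_e, hz]
  exact (hT.comp _ _ Y).trans hY

theorem mem_IM_of_q₁_eq_zero (hV : IsAffineOpen V) {c : ℕ} (hg : RelTower.Good (I.map (gi A X V)) (sectTr d.F V) (d.rel V) c D N)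
    {k : ℕ} (hrel : d.SecRel V c k) {n s : ℕ} (hns : n ≤ s) (hs : N ≤ s) (q : Γ(d.Q D (s + D), V))
    (hq : (sysMap d.F (hns.trans (Nat.le_add_right s D))).app V ((d.q₁ D (s + D)).app V q) = 0) :
    q ∈ IM (d.Q D (s + D)) (I ^ (n + 1)) V := by
  have hT := isTower_sect d.hF hV
  rw [IM_eq]
  have h1 : (d.q₁ D (s + D)).app V q ∈
      I.map (gi A X V) ^ (n + 1) • (⊤ : Submodule Γ(X, V) Γ(d.F.obj (op (s + D)), V)) := hT.ker _ _ hq
  rw [← LinearMap.range_eq_top.2 (show Function.Surjective (QC70.appLinear (d.q₁ D (s + D)) V) from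
    d.q₁_surjective hV hrel (s + D)), ← Submodule.map_top, ← Submodule.map_smul''] at h1
  obtain ⟨q', hq', hq'e⟩ := h1
  obtain ⟨z, hz⟩ := d.exists_rep hV (q - q')
  have h0 : (d.q₁ D (s + D)).app V (q - q') = 0 := by
    rw [map_sub, sub_eq_zero]
    exact hq'e.symm
  rw [← hz, q₁_e] at h0
  obtain ⟨w, hw, hw2, hw1⟩ := hg.close s hs (d.pair V (s + D + D) z) ((d.range_pair V _).le (LinearMap.mem_range_self _ z)) h0
  rw [← range_pair, ← Submodule.map_top, ← Submodule.map_smul''] at hw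
  obtain ⟨z', hz', rfl⟩ := hw
  have heq : (d.e D (s + D)).app V z = (d.e D (s + D)).app V z' := by
    refine d.Q_ext ?_ ?_
    · rw [q₁_e, q₁_e, ← sub_eq_zero, ← map_sub]; exact hw1
    · rw [q₂_e, q₂_e, hw2]
  have h3 : (d.e D (s + D)).app V z' ∈ I.map (gi A X V) ^ (n + 1) • (⊤ : Submodule Γ(X, V) Γ(d.Q D (s + D), V)) := by
    have h4 := Submodule.mem_map_of_mem (f := QC70.appLinear (d.e D (s + D)) V) hz'
    rw [Submodule.map_smul''] at h4
    exact Submodule.smul_mono (Ideal.pow_le_pow_right (by omega)) le_top h4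
  rw [← heq, hz] at h3
  have := add_mem hq' h3
  rwa [add_sub_cancel] at this

/-- The algebraization. -/
theorem exists_algebraization (S : Finset X.affineOpens) (hS : ∀ p : X, ∃ W ∈ S, p ∈ W.1) (c : ℕ)
    (hrel : ∀ W ∈ S, ∃ k, d.SecRel W.1 c k) :
    ∃ (F' : X.Modules) (a : F' ⟶ d.G) (β : d.F ≅ Formal.completion I F'), Coh.IsCoh F' ∧
      Formal.KilledBy (I ^ c) (kernel a) ∧ Formal.KilledBy (I ^ c) (cokernel a) ∧
      (∀ n : ℕ, Formal.modPowπ I (n + 1) F' ≫ β.inv.app (op n) ≫ d.μ.app (op n) = a ≫ d.ν n) ∧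
      ∀ (H : X.Modules) (u : ∀ n : ℕ, H ⟶ d.F.obj (op n)) (v : H ⟶ d.G),
        (∀ {n m : ℕ} (h : n ≤ m), u m ≫ sysMap d.F h = u n) → (∀ n, u n ≫ d.μ.app (op n) = v ≫ d.ν n) →
        ∃ w : H ⟶ F', w ≫ a = v ∧ ∀ n : ℕ, w ≫ Formal.modPowπ I (n + 1) F' ≫ β.inv.app (op n) = u n := by
  obtain ⟨D, N, hgood⟩ := d.exists_bounds S c hrel
  choose kk hkk using hrel
  haveI : ∀ n, (d.Q D n).IsQuasicoherent := fun n => (d.isCoh_Q D n).1
  haveI : ∀ n : ℕ, (d.F.obj (op n)).IsQuasicoherent := fun n => (d.hF.1 n).1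
  have hiso : ∀ {m : ℕ} (h : N ≤ m), IsIso (d.trQ D h) := fun {m} h =>
    isIso_of_cover _ (S : Set X.affineOpens) hS fun W hW => d.bijective_trQ W.2 (hgood W hW) le_rfl h
  let F' := d.Q D N
  haveI : F'.IsQuasicoherent := (d.isCoh_Q D N).1
  let a : F' ⟶ d.G := d.q₂ D N
  let p' : ∀ {m : ℕ}, N ≤ m → (F' ⟶ d.F.obj (op m)) := fun {m} h =>
    haveI := hiso h
    inv (d.trQ D h) ≫ d.q₁ D m
  have htrQ : ∀ {m : ℕ} (h : N ≤ m), d.trQ D h ≫ p' h = d.q₁ D m := fun {m} h => by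
    haveI := hiso h
    simp only [p', IsIso.hom_inv_id_assoc]
  have hp' : ∀ {l m : ℕ} (hl : N ≤ l) (hlm : l ≤ m), p' (hl.trans hlm) ≫ sysMap d.F hlm = p' hl := by
    intro l m hl hlm
    haveI := hiso (hl.trans hlm)
    rw [← cancel_epi (d.trQ D (hl.trans hlm)), ← Category.assoc, htrQ]
    refine (d.trQ_q₁ D hlm).symm.trans ?_
    rw [← trQ_comp d D hl hlm, Category.assoc, htrQ]
  let p : ∀ n, F' ⟶ d.F.obj (op n) := fun n => p' (Nat.le_add_left N n) ≫ sysMap d.F (Nat.le_add_right n N)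
  have hpp : ∀ {n m : ℕ} (h : N ≤ m) (hn : n ≤ m), p' h ≫ sysMap d.F hn = p n := by
    intro n m h hn
    have h1 : N ≤ max (n + N) m := h.trans (le_max_right _ _)
    change p' h ≫ sysMap d.F hn = p' (Nat.le_add_left N n) ≫ sysMap d.F (Nat.le_add_right n N)
    exact ((congrArg (· ≫ sysMap d.F hn) (hp' h (le_max_right (n + N) m)).symm).trans
      ((Category.assoc _ _ _).trans (congrArg (_ ≫ ·) (sysMap_comp _ _ _)))).trans
      (((congrArg (· ≫ sysMap d.F (Nat.le_add_right n N))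
        (hp' (Nat.le_add_left N n) (le_max_left (n + N) m)).symm).trans
      ((Category.assoc _ _ _).trans (congrArg (_ ≫ ·) (sysMap_comp _ _ _)))).symm)
  have hpμ : ∀ n, p n ≫ d.μ.app (op n) = a ≫ d.ν n := fun n => by
    have h : N ≤ n + N := Nat.le_add_left N n
    haveI := hiso h
    rw [← cancel_epi (d.trQ D h)]
    simp only [p, a]
    rw [Category.assoc, ← d.μ_comp, ← Category.assoc, htrQ, ← Category.assoc, q₁_μ, Category.assoc, d.hν,
      ← Category.assoc, trQ_q₂]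
  have hz : ∀ n, ∀ b ∈ I ^ (n + 1), Formal.smulMod A F' b ≫ p n = 0 := fun n b hb => by
    rw [← smulMod_comp, d.hF.2.1 n b hb, comp_zero]
  let ε : ∀ n, Formal.modPow I (n + 1) F' ⟶ d.F.obj (op n) := fun n =>
    cokernel.desc _ (p n) (smulFamily_comp_eq_zero _ (hz n))
  have hε : ∀ n, Formal.modPowπ I (n + 1) F' ≫ ε n = p n := fun n => cokernel.π_desc _ _ _
  have hεiso : ∀ n, IsIso (ε n) := fun n => by
    haveI := isQuasicoherent_modPow F' I (n + 1)
    refine isIso_of_cover _ (S : Set X.affineOpens) hS fun W hW => ?_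
    let s := n + N
    have hsD : N ≤ s + D := (Nat.le_add_left N n).trans (Nat.le_add_right s D)
    have hns : n ≤ s + D := (Nat.le_add_right n N).trans (Nat.le_add_right s D)
    haveI := hiso hsD
    have hp1 : ∀ q : Γ(d.Q D (s + D), W.1), (p n).app W.1 ((d.trQ D hsD).app W.1 q) =
        (sysMap d.F hns).app W.1 ((d.q₁ D (s + D)).app W.1 q) := fun q => by
      have e : d.trQ D hsD ≫ p n = d.q₁ D (s + D) ≫ sysMap d.F hns := by
        rw [← hpp hsD hns, ← Category.assoc, htrQ]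
      exact congrArg (fun φ => (Scheme.Modules.Hom.app φ W.1) q) e
    constructor
    · refine (injective_iff_map_eq_zero _).2 fun y hy => ?_
      obtain ⟨x, rfl⟩ := modPowπ_app_surjective (M := F') I (n + 1) W.2 y
      obtain ⟨q, rfl⟩ := (d.bijective_trQ W.2 (hgood W hW) le_rfl hsD).2 x
      refine modPowπ_app_eq_zero_of_mem (app_mem_IM _ ?_)
      refine d.mem_IM_of_q₁_eq_zero W.2 (hgood W hW) (hkk W hW) (Nat.le_add_right n N) (Nat.le_add_left N n) q ?_
      rw [← hp1]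
      refine Eq.trans ?_ hy
      exact (congrArg (fun φ => (Scheme.Modules.Hom.app φ W.1) ((d.trQ D hsD).app W.1 q)) (hε n)).symm
    · intro y
      obtain ⟨Y, hY⟩ := (isTower_sect d.hF W.2).surj hns y
      obtain ⟨q, hq⟩ := d.q₁_surjective W.2 (hkk W hW) (D := D) (s + D) Y
      refine ⟨(Formal.modPowπ I (n + 1) F').app W.1 ((d.trQ D hsD).app W.1 q), ?_⟩
      refine (congrArg (fun φ => (Scheme.Modules.Hom.app φ W.1) ((d.trQ D hsD).app W.1 q)) (hε n)).trans ?_
      rw [hp1, hq]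
      exact hY
  have hnat : ∀ {i j : ℕᵒᵖ} (φ : i ⟶ j), (Formal.completion I F').map φ ≫ ε j.unop = ε i.unop ≫ d.F.map φ := by
    rintro ⟨m⟩ ⟨n⟩ φ
    obtain ⟨h⟩ : Nonempty (n ≤ m) := ⟨leOfHom φ.unop⟩
    rw [show φ = (homOfLE h).op from Subsingleton.elim _ _]
    clear φ
    induction m, h using Nat.le_induction with
    | base =>
      rw [show (homOfLE (le_refl n)).op = 𝟙 (op n) from rfl, CategoryTheory.Functor.map_id,
        CategoryTheory.Functor.map_id]
      exact (Category.id_comp _).trans (Category.comp_id _).symm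
    | succ m h ih =>
      rw [show (homOfLE (h.trans (Nat.le_succ m))).op = (homOfLE (Nat.le_succ m)).op ≫ (homOfLE h).op from rfl,
        Functor.map_comp, Functor.map_comp]
      have key : Formal.modPowTrans I (m + 1) F' ≫ ε m = ε (m + 1) ≫ sysMap d.F (Nat.le_succ m) := by
        rw [← cancel_epi (Formal.modPowπ I (m + 1 + 1) F'), ← Category.assoc, Formal.modPowπ_trans, hε,
          ← Category.assoc, hε]
        exact ((congrArg (· ≫ sysMap d.F (Nat.le_succ m)) (rfl : p (m + 1) = _)).trans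
          ((Category.assoc _ _ _).trans ((congrArg (_ ≫ ·) (sysMap_comp _ _ _)).trans
            (hpp (Nat.le_add_left N (m + 1)) _)))).symm
      refine ((Category.assoc _ _ _).trans (congrArg (_ ≫ ·) ih)).trans ?_
      refine (Category.assoc _ _ _).symm.trans ?_
      refine (congrArg (· ≫ d.F.map (homOfLE h).op) ?_).trans (Category.assoc _ _ _)
      exact (congrArg (· ≫ ε m) (Functor.ofOpSequence_map_homOfLE_succ _ m)).trans key
  let β : Formal.completion I F' ≅ d.F :=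
    NatIso.ofComponents (fun n => @asIso _ _ _ _ (ε n.unop) (hεiso n.unop)) fun φ => hnat φ
  refine ⟨F', a, β.symm, d.isCoh_Q D N, fun b hb => ?_, fun b hb => ?_, fun n => ?_, ?_⟩
  · haveI : (kernel a).IsQuasicoherent := by
      haveI := d.hG.1
      exact QC70.isQuasicoherent_kernel a
    refine eq_zero_of_cover _ (S : Set X.affineOpens) hS fun W hW x => ?_
    refine QC70.app_injective_of_mono (kernel.ι a) W.1 ?_
    rw [map_zero, smulMod_app, Scheme.Modules.Hom.app_smul]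
    obtain ⟨z, hz⟩ := d.exists_rep W.2 ((kernel.ι a).app W.1 x)
    have h2 : (d.pair W.1 (N + D) z).2 = 0 := by
      rw [← q₂_e, hz]
      exact QC70.app_f_g (ShortComplex.mk (kernel.ι a) a (kernel.condition a)) W.1 x
    have hb' : gi A X W.1 b ∈ I.map (gi A X W.1) ^ c := by
      rw [← Ideal.map_pow]
      exact Ideal.mem_map_of_mem _ hb
    have h1 : gi A X W.1 b • sectTr d.F W.1 (Nat.le_add_right N D) (d.pair W.1 (N + D) z).1 = 0 :=
      (hgood W hW).ker N _ (h2 ▸ (d.range_pair W.1 _).le (LinearMap.mem_range_self _ z)) _ hb'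
    rw [← hz]
    refine d.Q_ext ?_ ?_
    · rw [Scheme.Modules.Hom.app_smul, q₁_e, h1, map_zero]
    · rw [Scheme.Modules.Hom.app_smul, q₂_e, h2, smul_zero, map_zero]
  · refine (cancel_epi (cokernel.π a)).1 ?_
    rw [comp_zero, smulMod_comp]
    haveI := d.hG.1
    refine eq_zero_of_cover _ (S : Set X.affineOpens) hS fun W hW g => ?_
    have hb' : gi A X W.1 b ∈ I.map (gi A X W.1) ^ c := by
      rw [← Ideal.map_pow]
      exact Ideal.mem_map_of_mem _ hb
    obtain ⟨y, hy⟩ := (hkk W hW).coker (N + D) g _ hb'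
    obtain ⟨z, hz⟩ := (d.range_pair W.1 (N + D)).ge hy
    change (cokernel.π a).app W.1 (gi A X W.1 b • g) = 0
    rw [show gi A X W.1 b • g = (d.pair W.1 (N + D) z).2 by rw [hz], ← q₂_e]
    exact QC70.app_f_g (ShortComplex.mk a (cokernel.π a) (cokernel.condition a)) W.1 _
  · change Formal.modPowπ I (n + 1) F' ≫ ε n ≫ d.μ.app (op n) = a ≫ d.ν n
    rw [← Category.assoc, hε, hpμ]
  · intro H u v hu huv
    let wP : ∀ m, H ⟶ d.P m := fun m => d.pLift m (u m) v (huv m)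
    have hwP : ∀ {n m : ℕ} (h : n ≤ m), wP m ≫ d.trP h = wP n := fun {n m} h => by
      refine d.P_hom_ext ?_ ?_
      · rw [Category.assoc, trP_p₁, ← Category.assoc, pLift_p₁, pLift_p₁, hu]
      · rw [Category.assoc, trP_p₂, pLift_p₂, pLift_p₂]
    let wQ : ∀ m, H ⟶ d.Q D m := fun m => wP (m + D) ≫ d.e D m
    have hwQ : ∀ {n m : ℕ} (h : n ≤ m), wQ m ≫ d.trQ D h = wQ n := fun {n m} h => by
      simp only [wQ]
      rw [Category.assoc, e_trQ, ← Category.assoc, hwP]
    have hw1 : ∀ m, wQ m ≫ d.q₁ D m = u m := fun m => by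
      simp only [wQ, wP]
      rw [Category.assoc, e_q₁, ← Category.assoc, pLift_p₁, hu]
    refine ⟨wQ N, ?_, fun n => ?_⟩
    · simp only [wQ, wP, a]
      rw [Category.assoc, e_q₂, pLift_p₂]
    · change wQ N ≫ Formal.modPowπ I (n + 1) F' ≫ ε n = u n
      rw [hε]
      simp only [p]
      rw [← hwQ (Nat.le_add_left N n), Category.assoc, ← Category.assoc (d.trQ D _), htrQ, ← Category.assoc,
        hw1, hu]

end RelData

end Groth.Agent.Algz14
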