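import Mathlib.RingTheory.Filtration
import Mathlib.LinearAlgebra.StdBasis
import Mathlib.RingTheory.Finiteness.Basic

/-!
Adic towers of finite modules related to one finite module: stabilization.
-/

set_option autoImplicit false

universe u v

namespace Groth.Agent.Algz14.RelTower

variable {R : Type u} [CommRing R] (J : Ideal R) {F : ℕ → Type v} [∀ n, AddCommGroup (F n)] [∀ n, Module R (F n)]

/-- An adic tower. -/
structure IsTower (tr : ∀ ⦃n m : ℕ⦄, n ≤ m → F m →ₗ[R] F n) : Prop where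
  self : ∀ n (x : F n), tr (le_refl n) x = x
  comp : ∀ {l n m : ℕ} (h : l ≤ n) (h' : n ≤ m) (x : F m), tr h (tr h' x) = tr (h.trans h') x
  surj : ∀ {n m : ℕ} (h : n ≤ m), Function.Surjective (tr h)
  kill : ∀ n, ∀ a ∈ J ^ (n + 1), ∀ x : F n, a • x = 0
  ker : ∀ {n m : ℕ} (h : n ≤ m) (x : F m), tr h x = 0 → x ∈ J ^ (n + 1) • (⊤ : Submodule R (F m))

variable {J} {tr : ∀ ⦃n m : ℕ⦄, n ≤ m → F m →ₗ[R] F n}

theorem IsTower.smul_eq_zero (hT : IsTower J tr) {e f m : ℕ} (h : m + 1 ≤ e + f) {a : R} (ha : a ∈ J ^ e) {x : F m}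
    (hx : x ∈ J ^ f • (⊤ : Submodule R (F m))) : a • x = 0 := by
  refine Submodule.smul_induction_on hx (fun b hb y _ => ?_) (fun x y hx hy => by rw [smul_add, hx, hy, add_zero])
  rw [smul_smul]
  exact hT.kill m _ (Ideal.pow_le_pow_right h (by rw [pow_add]; exact Ideal.mul_mem_mul ha hb)) y

theorem IsTower.tr_eq_zero (hT : IsTower J tr) {e n m : ℕ} (h : n ≤ m) (he : n + 1 ≤ e) {x : F m}
    (hx : x ∈ J ^ e • (⊤ : Submodule R (F m))) : tr h x = 0 := by
  refine Submodule.smul_induction_on hx (fun b hb y _ => ?_) (fun x y hx hy => by rw [map_add, hx, hy, add_zero])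
  rw [map_smul]
  exact hT.kill n b (Ideal.pow_le_pow_right he hb) _

theorem IsTower.exists_gen (hT : IsTower J tr) [Module.Finite R (F 0)] :
    ∃ (r : ℕ) (φ : ∀ n, (Fin r → R) →ₗ[R] F n), (∀ n, Function.Surjective (φ n)) ∧
      ∀ {n m : ℕ} (h : n ≤ m) (v : Fin r → R), tr h (φ m v) = φ n v := by
  obtain ⟨r, f, hf⟩ := Module.Finite.exists_fin' R (F 0)
  choose s hs using fun n => hT.surj (Nat.le_succ n)
  let y : ∀ n, Fin r → F n := fun n =>
    Nat.rec (motive := fun n => Fin r → F n) (fun i => f (Pi.single i 1)) (fun n p i => s n (p i)) n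
  let φ : ∀ n, (Fin r → R) →ₗ[R] F n := fun n => Fintype.linearCombination R (y n)
  have hφ0 : φ 0 = f := (Pi.basisFun R (Fin r)).ext fun i => by
    simp [φ, y, Fintype.linearCombination_apply_single]
  have hstep : ∀ n v, tr (Nat.le_succ n) (φ (n + 1) v) = φ n v := fun n v => by
    simp only [φ, Fintype.linearCombination_apply, map_sum, map_smul]
    refine Finset.sum_congr rfl fun i _ => ?_
    exact congrArg _ (hs n _)
  refine ⟨r, φ, fun n => ?_, fun {n m} h v => ?_⟩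
  · induction n with
    | zero => rw [hφ0]; exact hf
    | succ n ih =>
      intro x
      obtain ⟨v, hv⟩ := ih (tr (Nat.le_succ n) x)
      have hd : x - φ (n + 1) v ∈ J ^ (n + 1) • (⊤ : Submodule R (F (n + 1))) :=
        hT.ker (Nat.le_succ n) _ (by rw [map_sub, hstep, hv, sub_self])
      have hle : J ^ (n + 1) • (⊤ : Submodule R (F (n + 1))) ≤ LinearMap.range (φ (n + 1)) :=
        Submodule.smul_le.2 fun a ha z _ => by
          obtain ⟨w, hw⟩ := ih (tr (Nat.le_succ n) z)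
          refine ⟨a • w, ?_⟩
          rw [map_smul]
          refine (sub_eq_zero.1 ?_).symm
          rw [← smul_sub]
          exact hT.smul_eq_zero (by omega) ha (hT.ker (Nat.le_succ n) _ (by rw [map_sub, hstep, hw, sub_self]))
      obtain ⟨w, hw⟩ := hle hd
      exact ⟨v + w, by rw [map_add, hw, add_sub_cancel]⟩
  · induction m, h using Nat.le_induction with
    | base => rw [hT.self]
    | succ m h ih => rw [← hT.comp h (Nat.le_succ m), hstep, ih]

/-- Submodules killed by a fixed power with surjective transition maps stabilize. -/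
theorem IsTower.exists_tr_injective (hT : IsTower J tr) [IsNoetherianRing R] [Module.Finite R (F 0)]
    (T : ∀ n, Submodule R (F n)) (c : ℕ) (hc : ∀ n, ∀ a ∈ J ^ c, ∀ x ∈ T n, a • x = 0)
    (htr : ∀ n, (T (n + 1)).map (tr (Nat.le_succ n)) = T n) :
    ∃ N, ∀ n, N ≤ n → ∀ x ∈ T (n + 1), tr (Nat.le_succ n) x = 0 → x = 0 := by
  obtain ⟨r, φ, hφs, hφ⟩ := hT.exists_gen
  have hlift : ∀ {n m : ℕ} (h : n ≤ m), ∀ x ∈ T n, ∃ x' ∈ T m, tr h x' = x := fun {n m} h x hx => by
    induction m, h using Nat.le_induction with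
    | base => exact ⟨x, hx, hT.self n x⟩
    | succ m h ih =>
      obtain ⟨x', hx', hx''⟩ := ih
      rw [← htr m] at hx'
      obtain ⟨z, hz, rfl⟩ := hx'
      exact ⟨z, hz, by rw [← hT.comp h (Nat.le_succ m), hx'']⟩
  have hsmul : ∀ {n m j : ℕ} (h : n ≤ m), m + 1 ≤ j + (n + 1) → ∀ a ∈ J ^ j, ∀ v, φ n v ∈ T n →
      ∃ x ∈ T m, φ m (a • v) = a • x := fun {n m j} h hj a ha v hv => by
    obtain ⟨x, hx, hxv⟩ := hlift h _ hv
    refine ⟨x, hx, ?_⟩
    rw [map_smul]
    refine sub_eq_zero.1 ?_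
    rw [← smul_sub]
    exact hT.smul_eq_zero hj ha (hT.ker h _ (by rw [map_sub, hφ, hxv, sub_self]))
  let S : J.Filtration (Fin r → R) :=
    { N := fun n => J ^ n • ⊤ ⊓ (T n).comap (φ n)
      mono := fun n v hv => by
        refine ⟨Submodule.smul_mono_left (Ideal.pow_le_pow_right n.le_succ) hv.1, ?_⟩
        have h0 : φ n v = 0 := by
          refine Submodule.smul_induction_on hv.1 (fun a ha w _ => ?_) (fun x y hx hy => by rw [map_add, hx, hy, add_zero])
          rw [map_smul]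
          exact hT.kill n a ha _
        show φ n v ∈ T n
        rw [h0]
        exact zero_mem _
      smul_le := fun n => Submodule.smul_le.2 fun a ha v hv => by
        refine ⟨?_, ?_⟩
        · rw [pow_succ', mul_smul]
          exact Submodule.smul_mem_smul ha hv.1
        · obtain ⟨x, hx, e⟩ := hsmul (Nat.le_succ n) (j := 1) (by omega) a (by rwa [pow_one]) v hv.2
          show φ (n + 1) (a • v) ∈ T (n + 1)
          rw [e]
          exact Submodule.smul_mem _ _ hx }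
  have hS : S.Stable := (J.stableFiltration_stable ⊤).of_le fun n => inf_le_left
  obtain ⟨n0, hn0⟩ := hS.exists_pow_smul_eq
  refine ⟨n0 + c, fun n hn x hx h0 => ?_⟩
  have hx' := hT.ker (Nat.le_succ n) x h0
  rw [← LinearMap.range_eq_top.2 (hφs (n + 1)), ← Submodule.map_top, ← Submodule.map_smul''] at hx'
  obtain ⟨v, hv, rfl⟩ := hx'
  have hvS : v ∈ S.N (n0 + (n + 1 - n0)) := by
    rw [show n0 + (n + 1 - n0) = n + 1 by omega]
    exact ⟨hv, hx⟩
  rw [hn0] at hvS
  refine Submodule.smul_induction_on hvS (fun a ha w hw => ?_) (fun x y hx hy => by rw [map_add, hx, hy, add_zero])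
  obtain ⟨z, hz, e⟩ := hsmul (show n0 ≤ n + 1 by omega) (by omega) a ha w hw.2
  rw [e]
  exact hc _ a (Ideal.pow_le_pow_right (by omega) ha) z hz

variable {M : Type v} [AddCommGroup M] [Module R M]

/-- A relation between a tower and a module, with kernel and cokernel killed by `J^c`. -/
structure IsRel (J : Ideal R) (tr : ∀ ⦃n m : ℕ⦄, n ≤ m → F m →ₗ[R] F n) (P : ∀ n, Submodule R (F n × M))
    (c k : ℕ) : Prop where
  mono : ∀ {n m : ℕ} (h : n ≤ m) (y : F m) (g : M), (y, g) ∈ P m → (tr h y, g) ∈ P n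
  left : ∀ n (y : F (n + k)), ∃ g, (tr (Nat.le_add_right n k) y, g) ∈ P n
  small : ∀ n (g : M), ((0 : F (n + k)), g) ∈ P (n + k) → g ∈ J ^ (n + 1) • (⊤ : Submodule R M)
  zero : ∀ n, ∀ g ∈ J ^ (n + 1) • (⊤ : Submodule R M), ((0 : F n), g) ∈ P n
  ker : ∀ n (y : F (n + k)), (y, (0 : M)) ∈ P (n + k) → ∀ a ∈ J ^ c, a • tr (Nat.le_add_right n k) y = 0
  coker : ∀ n (g : M), ∀ a ∈ J ^ c, ∃ y, (y, a • g) ∈ P n

variable {P : ∀ n, Submodule R (F n × M)} {c k : ℕ}

theorem IsRel.of_le (hP : IsRel J tr P c k) (hT : IsTower J tr) {k' : ℕ} (hk : k ≤ k') : IsRel J tr P c k' where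
  mono := hP.mono
  left n y := by
    obtain ⟨g, hg⟩ := hP.left n (tr (show n + k ≤ n + k' by omega) y)
    exact ⟨g, by rwa [hT.comp] at hg⟩
  small n g hg := by
    refine hP.small n g ?_
    have := hP.mono (show n + k ≤ n + k' by omega) _ _ hg
    rwa [map_zero] at this
  zero := hP.zero
  ker n y hy a ha := by
    have h := hP.ker n (tr (show n + k ≤ n + k' by omega) y) (hP.mono _ y 0 hy) a ha
    rwa [hT.comp] at h
  coker := hP.coker

/-- The consequences used for the construction of the algebraization. -/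
structure Good (J : Ideal R) (tr : ∀ ⦃n m : ℕ⦄, n ≤ m → F m →ₗ[R] F n) (P : ∀ n, Submodule R (F n × M))
    (c D N : ℕ) : Prop where
  lift : ∀ {n m : ℕ} (h : n + D ≤ m) (y : F (n + D)) (g : M), (y, g) ∈ P (n + D) →
    ∃ y', (y', g) ∈ P m ∧ tr ((Nat.le_add_right n D).trans h) y' = tr (Nat.le_add_right n D) y
  inj : ∀ n, N ≤ n → ∀ y : F (n + 1 + D), (y, (0 : M)) ∈ P (n + 1 + D) →
    tr ((Nat.le_succ n).trans (Nat.le_add_right (n + 1) D)) y = 0 → tr (Nat.le_add_right (n + 1) D) y = 0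
  ker : ∀ n (y : F (n + D)), (y, (0 : M)) ∈ P (n + D) → ∀ a ∈ J ^ c, a • tr (Nat.le_add_right n D) y = 0
  close : ∀ s, N ≤ s → ∀ x ∈ P (s + D + D), tr (Nat.le_add_right (s + D) D) x.1 = 0 →
    ∃ z ∈ J ^ (s + 1) • P (s + D + D), x.2 = z.2 ∧ tr (Nat.le_add_right (s + D) D) (x.1 - z.1) = 0

theorem IsRel.exists_good (hP : IsRel J tr P c k) (hT : IsTower J tr) [IsNoetherianRing R] [Module.Finite R (F 0)]
    [Module.Finite R M] : ∃ D₀ N₀, ∀ D, D₀ ≤ D → ∀ N, N₀ ≤ N → Good J tr P c D N := by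
  let Gm : ∀ m, Submodule R M := fun m => (P m).map (LinearMap.snd R (F m) M)
  let G' := Gm (c + k)
  have hcM : ∀ m, J ^ c • (⊤ : Submodule R M) ≤ Gm m := fun m => Submodule.smul_le.2 fun a ha g _ => by
    obtain ⟨y, hy⟩ := hP.coker m g a ha
    exact ⟨_, hy, rfl⟩
  have hG : ∀ m, c + k ≤ m → Gm m = G' := fun m hm => by
    refine le_antisymm (fun g hg => ?_) (fun g hg => ?_)
    · obtain ⟨⟨y, g⟩, hy, rfl⟩ := hg
      exact ⟨_, hP.mono hm y g hy, rfl⟩
    · obtain ⟨⟨y, g⟩, hy, rfl⟩ := hg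
      obtain ⟨Y, rfl⟩ := hT.surj (hm.trans (Nat.le_add_right m k)) y
      obtain ⟨g', hg'⟩ := hP.left m Y
      have h1 := sub_mem (hP.mono hm _ _ hg') hy
      rw [hT.comp, Prod.mk_sub_mk, sub_self] at h1
      have h2 : g' - g ∈ Gm m := hcM m (Submodule.smul_mono_left (Ideal.pow_le_pow_right c.le_succ) (hP.small c _ h1))
      have h3 : g' ∈ Gm m := ⟨_, hg', rfl⟩
      simpa using sub_mem h3 h2
  obtain ⟨kA, hkA⟩ := J.exists_pow_inf_eq_pow_smul G'
  have hAR : ∀ n (h : M), h ∈ J ^ (n + kA + 1) • (⊤ : Submodule R M) → h ∈ G' → ∀ m, c + k ≤ m →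
      ∃ z ∈ J ^ (n + 1) • P m, z.2 = h := fun n h h1 h2 m hm => by
    have h3 : h ∈ J ^ (n + 1) • G' := by
      have h4 : h ∈ J ^ (n + kA + 1) • (⊤ : Submodule R M) ⊓ G' := ⟨h1, h2⟩
      rw [hkA _ (by omega), show n + kA + 1 - kA = n + 1 by omega] at h4
      exact Submodule.smul_mono le_rfl inf_le_right h4
    rw [← hG m hm] at h3
    change h ∈ J ^ (n + 1) • (P m).map (LinearMap.snd R (F m) M) at h3
    rw [← Submodule.map_smul''] at h3
    obtain ⟨z, hz, rfl⟩ := h3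
    exact ⟨z, hz, rfl⟩
  have hfst : ∀ {e m : ℕ} (z : F m × M), z ∈ J ^ e • P m → z.1 ∈ J ^ e • (⊤ : Submodule R (F m)) := fun {e m} z hz => by
    have h5 := Submodule.mem_map_of_mem (f := LinearMap.fst R (F m) M) hz
    rw [Submodule.map_smul''] at h5
    exact Submodule.smul_mono le_rfl le_top h5
  let D₀ := c + k + kA
  have hlift : ∀ D, D₀ ≤ D → ∀ {n m : ℕ} (h : n + D ≤ m) (y : F (n + D)) (g : M), (y, g) ∈ P (n + D) →
      ∃ y', (y', g) ∈ P m ∧ tr ((Nat.le_add_right n D).trans h) y' = tr (Nat.le_add_right n D) y := by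
    intro D hD n m h y g hy
    obtain ⟨Y, rfl⟩ := hT.surj (h.trans (Nat.le_add_right m k)) y
    obtain ⟨g', hg'⟩ := hP.left m Y
    have h1 := sub_mem (hP.mono h _ _ hg') hy
    rw [hT.comp, Prod.mk_sub_mk, sub_self] at h1
    have hle : n + kA + k ≤ n + D := by omega
    have h2 := hP.mono hle _ _ h1
    rw [map_zero] at h2
    have hgm : g ∈ G' := (hG (n + D) (by omega)).le ⟨_, hy, rfl⟩
    have hgm' : g' ∈ G' := (hG m (by omega)).le ⟨_, hg', rfl⟩
    obtain ⟨z, hz, hz2⟩ := hAR n _ (hP.small _ _ h2) (sub_mem hgm' hgm) m (by omega)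
    refine ⟨tr (Nat.le_add_right m k) Y - z.1, ?_, ?_⟩
    · have := sub_mem hg' (Submodule.smul_le_right hz)
      rw [show z = (z.1, z.2) from rfl, hz2, Prod.mk_sub_mk, sub_sub_cancel] at this
      exact this
    · rw [map_sub, hT.tr_eq_zero _ le_rfl (hfst z hz), sub_zero, hT.comp, hT.comp]
  let T : ∀ n, Submodule R (F n) := fun n =>
    ((P (n + D₀)).comap (LinearMap.inl R (F (n + D₀)) M)).map (tr (Nat.le_add_right n D₀))
  have hker : ∀ D, D₀ ≤ D → ∀ n (y : F (n + D)), (y, (0 : M)) ∈ P (n + D) → ∀ a ∈ J ^ c,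
      a • tr (Nat.le_add_right n D) y = 0 := fun D hD n y hy a ha => by
    have h := hP.ker n (tr (show n + k ≤ n + D by omega) y) (hP.mono _ y 0 hy) a ha
    rwa [hT.comp] at h
  obtain ⟨N₁, hN₁⟩ := hT.exists_tr_injective T c (fun n a ha x hx => by
      obtain ⟨y, hy, rfl⟩ := hx
      exact hker D₀ le_rfl n y hy a ha) (fun n => by
      refine le_antisymm ?_ ?_
      · rintro _ ⟨_, ⟨y, hy, rfl⟩, rfl⟩
        refine ⟨tr (show n + D₀ ≤ n + 1 + D₀ by omega) y, hP.mono _ y 0 hy, ?_⟩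
        rw [hT.comp, hT.comp]
      · rintro _ ⟨y, hy, rfl⟩
        obtain ⟨y', hy', e⟩ := hlift D₀ le_rfl (show n + D₀ ≤ n + 1 + D₀ by omega) y 0 hy
        refine ⟨_, ⟨y', hy', rfl⟩, ?_⟩
        rw [hT.comp, e])
  refine ⟨D₀, N₁, fun D hD N hN => ?_⟩
  have hinj : ∀ n, N ≤ n → ∀ y : F (n + 1 + D), (y, (0 : M)) ∈ P (n + 1 + D) →
      tr ((Nat.le_succ n).trans (Nat.le_add_right (n + 1) D)) y = 0 → tr (Nat.le_add_right (n + 1) D) y = 0 := by
    intro n hn y hy h0
    have hle : n + 1 + D₀ ≤ n + 1 + D := by omega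
    have h6 := hN₁ n (hN.trans hn) (tr (Nat.le_add_right (n + 1) D) y) ⟨tr hle y, hP.mono hle y 0 hy, hT.comp _ _ _⟩
      (by rw [hT.comp]; exact h0)
    exact h6
  refine ⟨hlift D hD, hinj, hker D hD, fun s hs x hx h0 => ?_⟩
  have h1 := hP.mono (Nat.le_add_right (s + D) D) x.1 x.2 hx
  rw [h0] at h1
  have h2 := hP.mono (show s + kA + k ≤ s + D by omega) _ _ h1
  rw [map_zero] at h2
  have hgm : x.2 ∈ G' := (hG (s + D + D) (by omega)).le ⟨_, hx, rfl⟩
  obtain ⟨z, hz, hz2⟩ := hAR s _ (hP.small _ _ h2) hgm (s + D + D) (by omega)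
  refine ⟨z, hz, hz2.symm, ?_⟩
  have hw : (x.1 - z.1, (0 : M)) ∈ P (s + D + D) := by
    have := sub_mem hx (Submodule.smul_le_right hz)
    rwa [show x - z = (x.1 - z.1, x.2 - z.2) from rfl, hz2, sub_self] at this
  have key : ∀ i (hi : s + i ≤ s + D + D), i ≤ D → tr hi (x.1 - z.1) = 0 := by
    intro i
    induction i with
    | zero =>
      intro hi _
      rw [map_sub, hT.tr_eq_zero _ le_rfl (hfst z hz), sub_zero,
        ← hT.comp (show s + 0 ≤ s + D by omega) (Nat.le_add_right (s + D) D), h0, map_zero]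
    | succ i ih =>
      intro hi hiD
      have hle : s + i + 1 + D ≤ s + D + D := by omega
      have h7 := hinj (s + i) (by omega) _ (hP.mono hle _ 0 hw) (by rw [hT.comp]; exact ih _ (by omega))
      rw [hT.comp] at h7
      exact h7
  exact key D _ le_rfl

end Groth.Agent.Algz14.RelTower
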