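import Groth.Agent.Algz14.Pro
import Groth.Agent.Formal27.Pullback
import Groth.Agent.QCqs72.Basic
import Groth.Agent.QCPull72.Sections
import Groth.Prelude.Def_LocCohZ
import Mathlib.CategoryTheory.Abelian.Basic

/-!
Sections of a system on an open of an affine scheme and canonical extensions.
-/

set_option autoImplicit false
set_option linter.style.haveILetI false

universe u v

open CategoryTheory CategoryTheory.Limits AlgebraicGeometry Opposite

noncomputable section

namespace Groth.Agent.Algz14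

section Cat

variable {C : Type (u + 1)} [Category.{u} C] {D : Type (u + 1)} [Category.{u} D]

/-- A pro-isomorphism in components. -/
def Data (X Y : ARSys.PS C) (m : ℕ → ℕ) (hm : Monotone m) (a : ∀ j, X.obj (op (m j)) ⟶ Y.obj (op j)) : Prop :=
  (∀ {i j : ℕ} (h : i ≤ j), X.map (homOfLE (hm h)).op ≫ a i = a j ≫ Y.map (homOfLE h).op) ∧
    ∀ n, ∃ (m' : ℕ) (h : n ≤ m') (b : Y.obj (op m') ⟶ X.obj (op (m n))),
      a m' ≫ b = X.map (homOfLE (hm h)).op ∧ b ≫ a n = Y.map (homOfLE h).op

theorem exists_data {X Y : ARSys.PS C} (h : Algz.IsProIsomorphic X Y) :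
    ∃ (m : ℕ → ℕ) (hm : Monotone m) (_ : ∀ n, n ≤ m n) (a : ∀ j, X.obj (op (m j)) ⟶ Y.obj (op j)),
      Data X Y m hm a := by
  obtain ⟨m, hm, hle, a, ha⟩ := h
  exact ⟨m, hm, hle, fun j => a.app (op j), fun {i j} h => a.naturality (homOfLE h).op,
    fun n => ha n⟩

theorem isProIsomorphic_of_data {X Y : ARSys.PS C} {m : ℕ → ℕ} {hm : Monotone m} (hle : ∀ n, n ≤ m n)
    {a : ∀ j, X.obj (op (m j)) ⟶ Y.obj (op j)} (h : Data X Y m hm a) : Algz.IsProIsomorphic X Y := by
  refine ⟨m, hm, hle, { app := fun j => a j.unop, naturality := fun i j f => ?_ }, h.2⟩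
  have := h.1 (leOfHom f.unop)
  exact this

theorem isProIsomorphic_map (Φ : C ⥤ D) {X Y : ARSys.PS C} {X' Y' : ARSys.PS D} (eX : X ⋙ Φ ≅ X')
    (eY : Y ⋙ Φ ≅ Y') (h : Algz.IsProIsomorphic X Y) : Algz.IsProIsomorphic X' Y' := by
  obtain ⟨m, hm, hle, a, hnat, ha⟩ := exists_data h
  have kX : ∀ {i j : ℕ} (h : i ≤ j), eX.inv.app (op j) ≫ Φ.map (X.map (homOfLE h).op) ≫ eX.hom.app (op i) =
      X'.map (homOfLE h).op := fun {i j} h => by
    have := eX.hom.naturality (homOfLE h).op
    rw [Functor.comp_map] at this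
    erw [this, Iso.inv_hom_id_app_assoc]
  have kY : ∀ {i j : ℕ} (h : i ≤ j), eY.inv.app (op j) ≫ Φ.map (Y.map (homOfLE h).op) ≫ eY.hom.app (op i) =
      Y'.map (homOfLE h).op := fun {i j} h => by
    have := eY.hom.naturality (homOfLE h).op
    rw [Functor.comp_map] at this
    erw [this, Iso.inv_hom_id_app_assoc]
  refine isProIsomorphic_of_data (X := X') (Y := Y') (hm := hm) hle
    (a := fun j => eX.inv.app (op (m j)) ≫ Φ.map (a j) ≫ eY.hom.app (op j)) ⟨fun {i j} h => ?_, fun n => ?_⟩
  · have n1 := eX.inv.naturality (homOfLE (hm h)).op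
    have n2 := eY.hom.naturality (homOfLE h).op
    rw [Functor.comp_map] at n1 n2
    simp only [Category.assoc]
    rw [← n2, ← Category.assoc, n1, Category.assoc]
    simp only [← Category.assoc]
    congr 1
    simp only [Category.assoc]
    congr 1
    rw [← Φ.map_comp, ← Φ.map_comp, hnat h]
  · obtain ⟨m', h', b, hb₁, hb₂⟩ := ha n
    refine ⟨m', h', eY.inv.app (op m') ≫ Φ.map b ≫ eX.hom.app (op (m n)), ?_, ?_⟩
    · rw [← kX, ← hb₁, Φ.map_comp]
      simp
    · rw [← kY, ← hb₂, Φ.map_comp]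
      simp

variable [Abelian C]

theorem isML_of_isProIsomorphic {X Y : ARSys.PS C} (h : Algz.IsProIsomorphic X Y)
    (hY : ∀ {n m : ℕ} (h : n ≤ m), Epi (Y.map (homOfLE h).op)) : ARSys.IsML X := by
  obtain ⟨m, hm, hle, a, hnat, ha⟩ := exists_data h
  intro n
  obtain ⟨m', h', b, hb₁, -⟩ := ha n
  let bp : Y.obj (op m') ⟶ X.obj (op n) := b ≫ X.map (homOfLE (hle n)).op
  have hr : n ≤ m m' := (hle n).trans (hm h')
  refine ⟨m m' - n, fun s hs => ?_⟩
  suffices key : ∀ t, m m' ≤ n + t → imageSubobject (X.map (homOfLE (Nat.le_add_right n t)).op) = imageSubobject bp by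
    exact (key s (by omega)).trans (key _ (by omega)).symm
  intro t ht
  refine le_antisymm ?_ ?_
  · have hb₁ : a m' ≫ b = X.map (homOfLE (hm h')).op := hb₁
    have e : X.map (homOfLE (Nat.le_add_right n t)).op = (X.map (homOfLE ht).op ≫ a m') ≫ bp := by
      rw [Category.assoc, ← Category.assoc (a m'), hb₁]
      exact (congrArg X.map (Subsingleton.elim _ _)).trans ((X.map_comp _ _).trans (congrArg _ (X.map_comp _ _)))
    rw [e]
    exact imageSubobject_comp_le _ _
  · obtain ⟨M, hM, b', -, hb'⟩ := ha (n + t)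
    have htm : m' ≤ n + t := (hle m').trans ht
    haveI := hY (htm.trans hM)
    have e0 : imageSubobject (Y.map (homOfLE (htm.trans hM)).op ≫ bp) = imageSubobject bp := by
      haveI := imageSubobject_comp_le_epi_of_epi (Y.map (homOfLE (htm.trans hM)).op) bp
      haveI := isIso_of_mono_of_epi (Subobject.ofLE _ _ (imageSubobject_comp_le (Y.map (homOfLE (htm.trans hM)).op) bp))
      exact le_antisymm (imageSubobject_comp_le _ _)
        (Subobject.le_of_comm (inv (Subobject.ofLE _ _ (imageSubobject_comp_le _ bp))) (by simp))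
    rw [← e0]
    let c : Y.obj (op M) ⟶ X.obj (op (m (n + t))) := b'
    have hb'' : c ≫ a (n + t) = Y.map (homOfLE hM).op := hb'
    have hnat' : a (n + t) ≫ Y.map (homOfLE htm).op = X.map (homOfLE (hm htm)).op ≫ a m' := (hnat htm).symm
    have e : Y.map (homOfLE (htm.trans hM)).op ≫ bp =
        (c ≫ X.map (homOfLE (hle (n + t))).op) ≫ X.map (homOfLE (Nat.le_add_right n t)).op := by
      calc Y.map (homOfLE (htm.trans hM)).op ≫ bp
          = c ≫ (a (n + t) ≫ Y.map (homOfLE htm).op) ≫ bp := by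
            rw [← Category.assoc c, ← Category.assoc c, hb'', ← Y.map_comp]
            exact congrArg (· ≫ bp) (congrArg Y.map (Subsingleton.elim _ _))
        _ = c ≫ X.map (homOfLE (hm htm)).op ≫ (a m' ≫ b) ≫ X.map (homOfLE (hle n)).op := by
            rw [hnat']; simp only [bp, Category.assoc]
        _ = _ := by
            rw [hb₁]
            refine Eq.trans ?_ (Category.assoc _ _ _).symm
            refine congrArg (c ≫ ·) ?_
            show X.map _ ≫ X.map _ ≫ X.map _ = X.map _ ≫ X.map _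
            exact ((congrArg _ (X.map_comp _ _).symm).trans (X.map_comp _ _).symm).trans
              ((congrArg X.map (Subsingleton.elim _ _)).trans (X.map_comp _ _))
    rw [e]
    exact imageSubobject_comp_le _ _

end Cat

variable {A : Type u} [CommRing A] [IsNoetherianRing A] (U : (Spec (CommRingCat.of A)).Opens)

theorem isQuasicoherent_push (F : (U : Scheme.{u}).Modules) [F.IsQuasicoherent] :
    ((Scheme.Modules.pushforward U.ι).obj F).IsQuasicoherent :=
  QCqs72.isQuasicoherent_pushforward F U.ι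

/-- The counit of the sections functor on a system. -/
def sectCounit (G : ℕᵒᵖ ⥤ (U : Scheme.{u}).Modules) : Algz.restrictSys U (Algz.sectSys A U G) ⟶ G :=
  Functor.whiskerRight (Functor.whiskerLeft (G ⋙ Scheme.Modules.pushforward U.ι)
      (Scheme.Modules.fromTildeΓNatTrans (R := CommRingCat.of A))) (Scheme.Modules.restrictFunctor U.ι) ≫
    Functor.whiskerLeft G (Scheme.Modules.restrictAdjunction U.ι).counit

omit [IsNoetherianRing A] in
theorem isIso_fromTilde (M : (Spec (CommRingCat.of A)).Modules) (hM : M.IsQuasicoherent) :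
    IsIso ((Scheme.Modules.fromTildeΓNatTrans (R := CommRingCat.of A)).app M) :=
  (isQuasicoherent_iff_isIso_fromTildeΓ M).mp hM

theorem isIso_sectCounit_app (G : ℕᵒᵖ ⥤ (U : Scheme.{u}).Modules) (n : ℕᵒᵖ) [(G.obj n).IsQuasicoherent] :
    IsIso ((sectCounit U G).app n) := by
  have h1 := isIso_fromTilde _ (isQuasicoherent_push U (G.obj n))
  haveI := h1
  exact @IsIso.comp_isIso _ _ _ _ _
    ((Scheme.Modules.restrictFunctor U.ι).map ((Scheme.Modules.fromTildeΓNatTrans (R := CommRingCat.of A)).app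
      ((Scheme.Modules.pushforward U.ι).obj (G.obj n))))
    ((Scheme.Modules.restrictAdjunction U.ι).counit.app (G.obj n)) inferInstance inferInstance

/-- Restricting the sections of a system gives back the system. -/
def sectRestrictIso (G : ℕᵒᵖ ⥤ (U : Scheme.{u}).Modules) [∀ n, (G.obj n).IsQuasicoherent] :
    Algz.restrictSys U (Algz.sectSys A U G) ≅ G :=
  haveI : ∀ n, IsIso ((sectCounit U G).app n) := fun n => isIso_sectCounit_app U G n
  haveI := NatIso.isIso_of_isIso_app (sectCounit U G)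
  asIso (sectCounit U G)

set_option maxHeartbeats 1000000 in
theorem extends_of_canonicallyExtends (I : Ideal A) (G : ℕᵒᵖ ⥤ (U : Scheme.{u}).Modules)
    (hG : Formal.IsCohFormal I G) (h : Algz.CanonicallyExtends A I U G) :
    @Algz.Extends A _ (Spec (CommRingCat.of A)) ⟨𝟙 (Spec (CommRingCat.of A))⟩ I U G := by
  obtain ⟨G', hG', hpro⟩ := h
  haveI : ∀ n, (G.obj n).IsQuasicoherent := fun n => (hG.1 n.unop).1
  let G'' := G' ⋙ Scheme.Modules.pullback U.ι
  have hG'' : Formal.IsCohFormal I G'' := by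
    letI : (Spec (CommRingCat.of A)).Over (Spec (CommRingCat.of A)) := ⟨𝟙 (Spec (CommRingCat.of A))⟩
    refine Formal27.isCohFormal_pullback U.ι (Category.comp_id _) G' hG' fun n => ?_
    haveI := (hG'.1 n).1
    haveI := (hG'.1 n).2
    exact ⟨QCPull72.isQuasicoherent_pullback _ _, QCPull72.isFiniteType_pullback _ _⟩
  have e : Algz.restrictSys U G' ≅ G'' := Functor.isoWhiskerLeft G' (Scheme.Modules.restrictFunctorIsoPullback U.ι)
  obtain ⟨ε⟩ := nonempty_iso hG hG''
    (isProIsomorphic_map (Scheme.Modules.restrictFunctor U.ι) (sectRestrictIso U G) e hpro)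
  exact ⟨G', hG', ⟨e ≪≫ ε.symm⟩⟩

omit [IsNoetherianRing A] in
theorem isML_sectMod (I : Ideal A) (G : ℕᵒᵖ ⥤ (U : Scheme.{u}).Modules)
    (h : Algz.CanonicallyExtends A I U G) : ARSys.IsML (Algz.sectMod A U G) := by
  obtain ⟨G', hG', hpro⟩ := h
  let M : ℕᵒᵖ ⥤ ModuleCat.{u} A := Algz.sectMod A U G
  let eX : (M ⋙ tilde.functor (CommRingCat.of A)) ⋙ moduleSpecΓFunctor (R := CommRingCat.of A) ≅ M :=
    Functor.associator _ _ _ ≪≫ Functor.isoWhiskerLeft M (tilde.toTildeΓNatIso (R := CommRingCat.of A)).symm ≪≫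
      Functor.rightUnitor M
  have h1 : Algz.IsProIsomorphic M (G' ⋙ moduleSpecΓFunctor (R := CommRingCat.of A)) :=
    isProIsomorphic_map (X := M ⋙ tilde.functor (CommRingCat.of A)) (moduleSpecΓFunctor (R := CommRingCat.of A))
      eX (Iso.refl _) hpro
  refine isML_of_isProIsomorphic h1 fun {n m} h => ?_
  letI : (Spec (CommRingCat.of A)).Over (Spec (CommRingCat.of A)) := ⟨𝟙 (Spec (CommRingCat.of A))⟩
  induction m, h using Nat.le_induction with
  | base => rw [show (homOfLE (le_refl n)).op = 𝟙 _ from rfl, CategoryTheory.Functor.map_id]; infer_instance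
  | succ m h ih =>
    haveI := ih
    haveI : Epi ((G' ⋙ moduleSpecΓFunctor (R := CommRingCat.of A)).map (homOfLE (Nat.le_succ m)).op) :=
      (ModuleCat.epi_iff_surjective _).2 (Formal27.tr_app_surjective (G := G') (fun k => (hG'.1 k).1)
        (fun k => Formal27.epi_tr (isQCohFormal hG') k) m (isAffineOpen_top _))
    rw [show (homOfLE (h.trans (Nat.le_succ m))).op = (homOfLE (Nat.le_succ m)).op ≫ (homOfLE h).op from rfl,
      Functor.map_comp]
    exact epi_comp _ _

end Groth.Agent.Algz14
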